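import Cfsg.Agent.H70.Conj
import Cfsg.Agent.H70.TwoInvol
import Mathlib

/-! Small generalities for `H70.TwoLayer`. -/

set_option autoImplicit false

namespace H70.TwoLayer

open Subgroup

variable {G : Type*} [Group G] [Finite G]

theorem mem_normalizer_of {A : Subgroup G} {g : G} (h : ∀ x ∈ A, g * x * g⁻¹ ∈ A) :
    g ∈ normalizer (A : Set G) :=
  H70.cj_eq_self_iff.1 (H70.eq_of_cj_le (by rintro _ ⟨x, hx, rfl⟩; exact h x hx))

omit [Finite G] in
theorem conj_mem_of_mem_normalizer {A : Subgroup G} {g : G} (hg : g ∈ normalizer (A : Set G)) {x : G}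
    (hx : x ∈ A) : g * x * g⁻¹ ∈ A :=
  (Subgroup.mem_normalizer_iff.1 hg x).1 hx

/-- the 2-part of the order of `G` is that of a Sylow subgroup -/
theorem card_le_of_isPGroup {K A S : Subgroup G} (hS : IsPGroup 2 S) (hSK : S ≤ K)
    (hodd : ¬ 2 ∣ S.relIndex K) (hA : IsPGroup 2 A) (hAK : A ≤ K) :
    Nat.card A ∣ Nat.card S := by
  haveI : Fact (Nat.Prime 2) := ⟨Nat.prime_two⟩
  obtain ⟨k, hk⟩ := IsPGroup.iff_card.1 hA
  have h := Subgroup.card_dvd_of_le hAK
  have e : Nat.card S * S.relIndex K = Nat.card K := by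
    have h1 := (S.subgroupOf K).card_mul_index
    rwa [Nat.card_congr (subgroupOfEquivOfLe hSK).toEquiv] at h1
  rw [← e, hk] at h
  rw [hk]
  exact (Nat.Coprime.pow_left k (Nat.prime_two.coprime_iff_not_dvd.2 hodd)).dvd_of_dvd_mul_right h

end H70.TwoLayer

namespace H70.TwoLayer

open Subgroup

variable {G : Type*} [Group G] [Finite G]

/-- Sylow's theorem inside `K` for a subgroup of odd relative index -/
theorem exists_cj_le_of_odd {K A S : Subgroup G} (hS : IsPGroup 2 S) (hSK : S ≤ K)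
    (hodd : ¬ 2 ∣ S.relIndex K) (hA : IsPGroup 2 A) (hAK : A ≤ K) :
    ∃ c ∈ K, H70.cj c A ≤ S := by
  haveI : Fact (Nat.Prime 2) := ⟨Nat.prime_two⟩
  let P : Sylow 2 K := IsPGroup.toSylow (hS.of_equiv (subgroupOfEquivOfLe hSK).symm) hodd
  obtain ⟨R, hR⟩ := (hA.of_equiv (subgroupOfEquivOfLe hAK).symm).exists_le_sylow
  obtain ⟨⟨c, hc⟩, hcR⟩ := MulAction.exists_smul_eq K R P
  refine ⟨c, hc, ?_⟩
  rintro x ⟨a, ha, rfl⟩
  have hmem : (⟨c, hc⟩ : K) * ⟨a, hAK ha⟩ * (⟨c, hc⟩ : K)⁻¹ ∈ ((⟨c, hc⟩ : K) • R : Sylow 2 K) := by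
    change _ ∈ ((⟨c, hc⟩ : K) • R : Sylow 2 K).toSubgroup
    rw [Sylow.coe_subgroup_smul]
    exact Subgroup.mem_map_of_mem (MulAut.conj (⟨c, hc⟩ : K)).toMonoidHom
      (hR (by simpa [Subgroup.mem_subgroupOf] using ha))
  rw [hcR] at hmem
  exact hmem

/-- a subgroup containing a 2-element of odd-order multiples: an odd power inducing the same -/
theorem exists_odd_power (g : G) :
    ∃ a m : ℕ, Odd m ∧ orderOf g = 2 ^ a * m ∧ Odd (orderOf (g ^ 2 ^ a)) := by
  obtain ⟨a, m, hm, h⟩ := Nat.exists_eq_two_pow_mul_odd (orderOf_pos g).ne'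
  refine ⟨a, m, hm, h, ?_⟩
  rw [orderOf_pow, h, Nat.gcd_eq_right (dvd_mul_right _ _),
    Nat.mul_div_cancel_left _ (Nat.pow_pos (by norm_num))]
  exact hm

end H70.TwoLayer

namespace H70.TwoLayer

open Subgroup

variable {G : Type*} [Group G] [Finite G]

/-- normalizers grow in 2-groups -/
theorem exists_mem_normalizer_of_lt {A B : Subgroup G} (hB : IsPGroup 2 B) (h : A < B) :
    ∃ g ∈ B, g ∉ A ∧ g ∈ normalizer (A : Set G) := by
  haveI : Fact (Nat.Prime 2) := ⟨Nat.prime_two⟩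
  haveI := hB.isNilpotent
  have hne : A.subgroupOf B < ⊤ := lt_top_iff_ne_top.2 fun e => not_le_of_gt h (subgroupOf_eq_top.1 e)
  obtain ⟨g, hg, hgA⟩ := SetLike.exists_of_lt (Group.normalizerCondition_of_isNilpotent _ hne)
  refine ⟨g, g.2, fun hA => hgA hA, mem_normalizer_of fun x hx => ?_⟩
  exact (Subgroup.mem_normalizer_iff.1 hg ⟨x, h.le hx⟩).1 hx

/-- the order of an intersection inside a finite overgroup -/
theorem card_mul_card_le {A B S : Subgroup G} (hA : A ≤ S) (hB : B ≤ S) :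
    Nat.card A * Nat.card B ≤ Nat.card (A ⊓ B : Subgroup G) * Nat.card S := by
  have h1 : A.relIndex B ≤ A.relIndex S :=
    relIndex_le_of_le_right hB Subgroup.index_ne_zero_of_finite
  have h2 : Nat.card (A ⊓ B : Subgroup G) * A.relIndex B = Nat.card B := by
    rw [← inf_relIndex_right]
    have h := ((A ⊓ B).subgroupOf B).card_mul_index
    rwa [Nat.card_congr (subgroupOfEquivOfLe inf_le_right).toEquiv] at h
  have h3 : Nat.card A * A.relIndex S = Nat.card S := by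
    have h := (A.subgroupOf S).card_mul_index
    rwa [Nat.card_congr (subgroupOfEquivOfLe hA).toEquiv] at h
  calc Nat.card A * Nat.card B = Nat.card A * (Nat.card (A ⊓ B : Subgroup G) * A.relIndex B) := by rw [h2]
    _ ≤ Nat.card A * (Nat.card (A ⊓ B : Subgroup G) * A.relIndex S) :=
      Nat.mul_le_mul_left _ (Nat.mul_le_mul_left _ h1)
    _ = _ := by rw [← h3]; ring

/-- joins with elements normalizing a 2-subgroup inside a 2-subgroup -/
theorem sup_zpowers_two {A S : Subgroup G} (hS : IsPGroup 2 S) (hA : A ≤ S) {g : G} (hg : g ∈ S) :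
    IsPGroup 2 (A ⊔ zpowers g : Subgroup G) :=
  hS.to_le (sup_le hA (zpowers_le.2 hg))

end H70.TwoLayer

namespace H70.TwoLayer

open Subgroup

variable {G : Type*} [Group G] [Finite G]

/-- multiply an element by a power of its 2-part to get odd order -/
theorem exists_odd_part (k : G) : ∃ (r w : G), Odd (orderOf r) ∧ r = k * w ∧ r ∈ zpowers k ∧
    w ∈ zpowers k ∧ ∃ a : ℕ, orderOf w ∣ 2 ^ a := by
  obtain ⟨a, m, hm, hom, hodd⟩ := exists_odd_power k
  set i := ((m + 1) / 2) ^ a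
  obtain ⟨l, hl⟩ : ∃ l, 2 ^ a * i = 1 + m * l := by
    have h2 : 2 * ((m + 1) / 2) = m + 1 := by obtain ⟨j, rfl⟩ := hm; omega
    have h1 : 2 ^ a * i = (m + 1) ^ a := by rw [← mul_pow, h2]
    rw [h1]
    clear h1
    clear! i
    generalize a = b
    induction b with
    | zero => exact ⟨0, by simp⟩
    | succ b ih =>
      obtain ⟨l, hl⟩ := ih
      exact ⟨l * (m + 1) + 1, by rw [pow_succ, hl]; ring⟩
  refine ⟨k ^ (2 ^ a * i), k ^ (m * l), ?_, ?_, npow_mem_zpowers _ _, npow_mem_zpowers _ _, a, ?_⟩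
  · rw [pow_mul]
    exact Odd.of_dvd_nat hodd (orderOf_pow_dvd _)
  · rw [hl, pow_add, pow_one]
  · refine orderOf_dvd_of_pow_eq_one ?_
    rw [← pow_mul, show m * l * 2 ^ a = orderOf k * l by rw [hom]; ring, pow_mul, pow_orderOf_eq_one, one_pow]

omit [Finite G] in
/-- elements commuting with a subgroup commute with its elements under powers -/
theorem conj_pow_eq {g g' : G} {A : Subgroup G} (hg : g ∈ normalizer (A : Set G))
    (h : ∀ a ∈ A, g * a * g⁻¹ = g' * a * g'⁻¹) (j : ℕ) :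
    ∀ a ∈ A, g ^ j * a * (g ^ j)⁻¹ = g' ^ j * a * (g' ^ j)⁻¹ := by
  induction j with
  | zero => simp
  | succ j ih =>
    intro a ha
    rw [pow_succ, pow_succ, mul_inv_rev, mul_inv_rev,
      show g ^ j * g * a * (g⁻¹ * (g ^ j)⁻¹) = g ^ j * (g * a * g⁻¹) * (g ^ j)⁻¹ by group,
      show g' ^ j * g' * a * (g'⁻¹ * (g' ^ j)⁻¹) = g' ^ j * (g' * a * g'⁻¹) * (g' ^ j)⁻¹ by group,
      ih _ (conj_mem_of_mem_normalizer hg ha), h a ha]

end H70.TwoLayer
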