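import Cfsg.Agent.H70.TwoLayer.Field
import Cfsg.Agent.H70.TwoLayer.Basic
import Cfsg.Agent.H28.CITGraph.Basic
import Cfsg.Agent.H1.Hall
import Cfsg.Agent.H86.Sylow
import Mathlib

/-!
Groups acting affinely and transitively on an elementary abelian 2-group, with a faithful linear
part and an odd order point stabilizer containing a normal regular cyclic subgroup: either the
degree is small or there is a simple normal subgroup with 2-group involution centralizers.
-/

set_option autoImplicit false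
set_option linter.style.haveILetI false

namespace H70.TwoLayer

open Subgroup

universe u w

/-- the data -/
structure Aff (Γ : Type u) [Group Γ] (V : Type w) [CommGroup V] where
  n : ℕ
  hV : Nat.card V = 2 ^ n
  hn : 2 ≤ n
  ρ : Γ →* MulAut V
  inj : Function.Injective ρ
  c : Γ → V
  coc : ∀ g h, c (g * h) = c g * ρ g (c h)
  onto : ∀ v, ∃ g, c g = v
  odd : Odd (Nat.card {g : Γ // c g = 1})
  r : Γ
  hr : c r = 1
  trans : ∀ v w : V, v ≠ 1 → w ≠ 1 → ∃ j : ℕ, ρ (r ^ j) v = w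
  norm : ∀ l : Γ, c l = 1 → ∃ j : ℕ, l * r * l⁻¹ = r ^ j

variable {Γ : Type u} [Group Γ] [Finite Γ] {V : Type w} [CommGroup V] [Finite V]

theorem Aff.c_one (D : Aff Γ V) : D.c 1 = 1 := by
  have h := D.coc 1 1
  rw [mul_one, map_one, MulAut.one_apply, left_eq_mul] at h
  exact h

/-- the stabilizer -/
def Aff.L (D : Aff Γ V) : Subgroup Γ where
  carrier := {g | D.c g = 1}
  one_mem' := D.c_one
  mul_mem' := fun {a b} ha hb => by
    show D.c (a * b) = 1
    rw [D.coc, ha, hb, map_one, mul_one]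
  inv_mem' := fun {a} ha => by
    show D.c a⁻¹ = 1
    have h := D.coc a⁻¹ a
    rw [inv_mul_cancel, D.c_one, show D.c a = 1 from ha, map_one, mul_one] at h
    exact h.symm

theorem Aff.mem_L (D : Aff Γ V) {g : Γ} : g ∈ D.L ↔ D.c g = 1 := Iff.rfl

theorem Aff.r_mem (D : Aff Γ V) : D.r ∈ D.L := D.hr

theorem Aff.L_odd (D : Aff Γ V) : Odd (Nat.card D.L) := D.odd

theorem Aff.c_eq_iff (D : Aff Γ V) (g h : Γ) : D.c g = D.c h ↔ g⁻¹ * h ∈ D.L := by
  have h1 := D.coc g (g⁻¹ * h)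
  rw [mul_inv_cancel_left] at h1
  rw [D.mem_L]
  constructor
  · intro he
    rw [he, left_eq_mul, ← map_one (D.ρ g)] at h1
    exact (D.ρ g).injective h1
  · intro he
    rw [he, map_one, mul_one] at h1
    exact h1.symm

theorem Aff.c_conj (D : Aff Γ V) {l : Γ} (hl : l ∈ D.L) (x : Γ) :
    D.c (l * x * l⁻¹) = D.ρ l (D.c x) := by
  rw [D.coc, D.coc, D.mem_L.1 hl, D.mem_L.1 (inv_mem hl), map_one, mul_one, one_mul]

theorem Aff.index_L (D : Aff Γ V) : D.L.index = 2 ^ D.n := by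
  rw [Subgroup.index_eq_card, ← D.hV]
  refine Nat.card_congr (Equiv.ofBijective (fun q => D.c q.out) ⟨?_, ?_⟩)
  · intro a b h
    rw [← QuotientGroup.out_eq' a, ← QuotientGroup.out_eq' b]
    exact QuotientGroup.eq.2 ((D.c_eq_iff _ _).1 h)
  · intro v
    obtain ⟨g, hg⟩ := D.onto v
    refine ⟨(g : Γ ⧸ D.L), ?_⟩
    obtain ⟨⟨l, hl⟩, he⟩ := QuotientGroup.mk_out_eq_mul D.L g
    show D.c (Quotient.out (g : Γ ⧸ D.L)) = v
    rw [he, D.coc, D.mem_L.1 hl, map_one, mul_one, hg]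

theorem Aff.exists_ne (D : Aff Γ V) : ∃ v : V, v ≠ 1 := by
  haveI : Nontrivial V := Finite.one_lt_card_iff_nontrivial.1 (by
    rw [D.hV]; exact Nat.one_lt_pow (by have := D.hn; omega) one_lt_two)
  exact _root_.exists_ne 1

/-- the regular cyclic group -/
def Aff.A (D : Aff Γ V) : Subgroup Γ := zpowers D.r

theorem Aff.A_le (D : Aff Γ V) : D.A ≤ D.L := zpowers_le.2 D.r_mem

theorem Aff.free (D : Aff Γ V) {a : Γ} (ha : a ∈ D.A) {v : V} (hv : v ≠ 1) (h : D.ρ a v = v) : a = 1 := by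
  refine D.inj (MulEquiv.ext fun w => ?_)
  rw [map_one, MulAut.one_apply]
  by_cases hw : w = 1
  · rw [hw, map_one]
  obtain ⟨j, hj⟩ := D.trans v w hv hw
  obtain ⟨i, rfl⟩ := mem_zpowers_iff.1 ha
  rw [← hj, ← MulAut.mul_apply, ← map_mul, ((Commute.refl D.r).zpow_left i).pow_right j |>.eq,
    map_mul, MulAut.mul_apply, h]

theorem Aff.A_conj (D : Aff Γ V) {l : Γ} (hl : l ∈ D.L) {a : Γ} (ha : a ∈ D.A) : l * a * l⁻¹ ∈ D.A := by
  obtain ⟨i, rfl⟩ := mem_zpowers_iff.1 ha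
  obtain ⟨j, hj⟩ := D.norm l hl
  rw [← conj_zpow, hj]
  exact zpow_mem (npow_mem_zpowers _ _) i

theorem Aff.card_A (D : Aff Γ V) : Nat.card D.A = 2 ^ D.n - 1 := by
  classical
  obtain ⟨v, hv⟩ := D.exists_ne
  haveI := Fintype.ofFinite V
  rw [← D.hV, Nat.card_eq_fintype_card (α := V), ← Fintype.card_subtype_eq (1 : V),
    ← Fintype.card_subtype_compl, ← Nat.card_eq_fintype_card]
  refine Nat.card_congr (Equiv.ofBijective
    (fun a : D.A => (⟨D.ρ a v, fun h => hv ((D.ρ a).injective (h.trans (map_one _).symm))⟩ : {x : V // ¬ x = 1}))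
    ⟨?_, ?_⟩)
  · intro a b h
    have h' : D.ρ a v = D.ρ b v := congrArg Subtype.val h
    have h1 : D.ρ ((b : Γ)⁻¹ * a) v = v := by
      rw [map_mul, MulAut.mul_apply, h', ← MulAut.mul_apply, ← map_mul, inv_mul_cancel, map_one, MulAut.one_apply]
    exact Subtype.ext (inv_mul_eq_one.1 (D.free (mul_mem (inv_mem b.2) a.2) hv h1)).symm
  · rintro ⟨w, hw⟩
    obtain ⟨j, hj⟩ := D.trans v w hv hw
    exact ⟨⟨D.r ^ j, npow_mem_zpowers _ _⟩, Subtype.ext hj⟩

/-- the stabilizer of a second point -/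
theorem Aff.exists_factor (D : Aff Γ V) {v : V} (hv : v ≠ 1) {l : Γ} (hl : l ∈ D.L) :
    ∃ a ∈ D.A, a⁻¹ * l ∈ D.L ∧ D.ρ (a⁻¹ * l) v = v := by
  obtain ⟨j, hj⟩ := D.trans v (D.ρ l v) hv (fun h => hv ((D.ρ l).injective (h.trans (map_one _).symm)))
  refine ⟨D.r ^ j, npow_mem_zpowers _ _, mul_mem (inv_mem (pow_mem D.r_mem j)) hl, ?_⟩
  rw [map_mul, MulAut.mul_apply, ← hj, ← MulAut.mul_apply, ← map_mul, inv_mul_cancel, map_one, MulAut.one_apply]

/-- commutators of the stabilizer lie in `A` -/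
theorem Aff.commutator_mem (D : Aff Γ V) {g h : Γ} (hg : g ∈ D.L) (hh : h ∈ D.L) :
    g * h * g⁻¹ * h⁻¹ ∈ D.A := by
  obtain ⟨v, hv⟩ := D.exists_ne
  obtain ⟨a, ha, hl, hlv⟩ := D.exists_factor hv hg
  obtain ⟨b, hb, hm, hmv⟩ := D.exists_factor hv hh
  set l := a⁻¹ * g
  set m := b⁻¹ * h
  have hfix : ∀ x : Γ, D.ρ x v = v → D.ρ x⁻¹ v = v := fun x hx => by
    conv_lhs => rw [← hx]
    rw [← MulAut.mul_apply, ← map_mul, inv_mul_cancel, map_one, MulAut.one_apply]
  -- the point stabilizer is commutative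
  have hlm : l * m = m * l := by
    obtain ⟨i, hi⟩ := D.norm l hl
    obtain ⟨k, hk⟩ := D.norm m hm
    set x := l * m * l⁻¹ * m⁻¹
    have hlk : ∀ s : ℕ, l * D.r ^ s * l⁻¹ = D.r ^ (i * s) := fun s => by rw [← conj_pow, hi, pow_mul]
    have hmk : ∀ s : ℕ, m * D.r ^ s * m⁻¹ = D.r ^ (k * s) := fun s => by rw [← conj_pow, hk, pow_mul]
    have h1 : l * m * D.r * (l * m)⁻¹ = D.r ^ (i * k) := by
      rw [show l * m * D.r * (l * m)⁻¹ = l * (m * D.r * m⁻¹) * l⁻¹ by group, hk, hlk]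
    have h2 : m * l * D.r * (m * l)⁻¹ = D.r ^ (i * k) := by
      rw [show m * l * D.r * (m * l)⁻¹ = m * (l * D.r * l⁻¹) * m⁻¹ by group, hi, hmk, mul_comm]
    have hc : Commute x D.r := by
      have h3 : (m * l)⁻¹ * (l * m) * D.r * ((m * l)⁻¹ * (l * m))⁻¹ = D.r := by
        calc _ = (m * l)⁻¹ * (l * m * D.r * (l * m)⁻¹) * (m * l) := by group
          _ = (m * l)⁻¹ * (m * l * D.r * (m * l)⁻¹) * (m * l) := by rw [h1, h2]
          _ = D.r := by group
      have hpw : ∀ s : ℕ, m * l * D.r ^ s * (m * l)⁻¹ = D.r ^ (i * k * s) := fun s => by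
        rw [← conj_pow, h2, ← pow_mul]
      have h4 : x * D.r ^ (i * k) * x⁻¹ = D.r ^ (i * k) := by
        calc x * D.r ^ (i * k) * x⁻¹
            = x * (m * l * D.r * (m * l)⁻¹) * x⁻¹ := by rw [h2]
          _ = l * m * D.r * (l * m)⁻¹ := by simp only [x]; group
          _ = D.r ^ (i * k) := h1
      -- `r^(ik)` generates the same cyclic group
      have h5 : D.r ∈ zpowers (D.r ^ (i * k)) := by
        have h6 : orderOf (D.r ^ (i * k)) = orderOf D.r := by
          rw [← h2]; exact MulEquiv.orderOf_eq (MulAut.conj (m * l)) D.r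
        have h7 : zpowers (D.r ^ (i * k)) = zpowers D.r :=
          eq_of_le_of_card_ge (zpowers_le.2 (npow_mem_zpowers _ _)) (by
            rw [Nat.card_zpowers, Nat.card_zpowers, h6])
        rw [h7]; exact mem_zpowers _
      obtain ⟨e, he⟩ := mem_zpowers_iff.1 h5
      rw [← he]
      exact Commute.zpow_right (mul_inv_eq_iff_eq_mul.1 h4) e
    have hxv : D.ρ x v = v := by
      simp only [x, map_mul, MulAut.mul_apply, hfix m hmv, hfix l hlv, hlv, hmv]
    have hx1 : x = 1 := by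
      refine D.inj (MulEquiv.ext fun w => ?_)
      rw [map_one, MulAut.one_apply]
      by_cases hw : w = 1
      · rw [hw, map_one]
      obtain ⟨j, hj⟩ := D.trans v w hv hw
      rw [← hj, ← MulAut.mul_apply, ← map_mul, (hc.pow_right j).eq, map_mul, MulAut.mul_apply, hxv]
    calc l * m = x * (m * l) := by simp only [x]; group
      _ = m * l := by rw [hx1, one_mul]
  have e : g * h * g⁻¹ * h⁻¹ =
      a * (l * b * l⁻¹) * (l * m * l⁻¹ * m⁻¹) * (m * a⁻¹ * m⁻¹) * b⁻¹ := by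
    simp only [l, m]; group
  rw [e, show l * m * l⁻¹ * m⁻¹ = 1 by rw [hlm]; group, mul_one]
  exact mul_mem (mul_mem (mul_mem ha (D.A_conj hl hb)) (D.A_conj hm (inv_mem ha))) (inv_mem hb)

/-- the stabilizer of a nonidentity point inside the stabilizer -/
def Aff.Lv (D : Aff Γ V) (v : V) : Subgroup Γ where
  carrier := {g | g ∈ D.L ∧ D.ρ g v = v}
  one_mem' := ⟨one_mem _, by rw [map_one, MulAut.one_apply]⟩
  mul_mem' := fun {a b} ha hb => ⟨mul_mem ha.1 hb.1, by rw [map_mul, MulAut.mul_apply, hb.2, ha.2]⟩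
  inv_mem' := fun {a} ha => ⟨inv_mem ha.1, by
    conv_lhs => rw [← ha.2]
    rw [← MulAut.mul_apply, ← map_mul, inv_mul_cancel, map_one, MulAut.one_apply]⟩

/-- the order of the group -/
theorem Aff.card_eq (D : Aff Γ V) : ∃ f, Odd f ∧ f ∣ D.n ∧ Nat.card Γ = 2 ^ D.n * ((2 ^ D.n - 1) * f) := by
  classical
  obtain ⟨v, hv⟩ := D.exists_ne
  set Lv := D.Lv v
  refine ⟨Nat.card Lv, D.L_odd.of_dvd_nat (card_dvd_of_le fun g hg => hg.1), ?_, ?_⟩
  · rw [← card_map_of_injective D.inj]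
    refine card_fix_normalizing_dvd D.hV (D.A.map D.ρ) ?_ (fun a b ha hb => ?_) v hv (Lv.map D.ρ) ?_ ?_
    · rintro _ ⟨x, hx, rfl⟩ _ ⟨y, hy, rfl⟩
      obtain ⟨i, rfl⟩ := mem_zpowers_iff.1 hx
      obtain ⟨j, rfl⟩ := mem_zpowers_iff.1 hy
      rw [← map_mul, ← map_mul, ← zpow_add, ← zpow_add, add_comm]
    · obtain ⟨j, hj⟩ := D.trans a b ha hb
      exact ⟨_, ⟨_, npow_mem_zpowers _ _, rfl⟩, hj⟩
    · rintro _ ⟨l, hl, rfl⟩; exact hl.2
    · rintro _ ⟨l, hl, rfl⟩ _ ⟨x, hx, rfl⟩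
      exact ⟨l * x * l⁻¹, D.A_conj hl.1 hx, by rw [map_mul, map_mul, map_inv]⟩
  · rw [← D.L.card_mul_index, D.index_L, mul_comm, ← D.card_A, ← Nat.card_prod]
    congr 1
    refine (Nat.card_congr (Equiv.ofBijective
      (fun p : D.A × Lv => (⟨(p.1 : Γ) * p.2, mul_mem (D.A_le p.1.2) p.2.2.1⟩ : D.L)) ⟨?_, ?_⟩)).symm
    · rintro ⟨a, l⟩ ⟨b, m⟩ h
      have h' : (a : Γ) * l = b * m := congrArg Subtype.val h
      have h2 : (b : Γ)⁻¹ * a = m * (l : Γ)⁻¹ := by
        rw [eq_mul_inv_iff_mul_eq, mul_assoc, h', inv_mul_cancel_left]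
      have h3 : D.ρ ((m : Γ) * (l : Γ)⁻¹) v = v := (mul_mem m.2 (inv_mem l.2) : _ ∈ Lv).2
      rw [← h2] at h3
      have hab : b = a :=
        Subtype.ext (inv_mul_eq_one.1 (D.free (mul_mem (inv_mem b.2) a.2) hv h3))
      subst hab
      exact Prod.ext rfl (Subtype.ext (mul_left_cancel h'))
    · rintro ⟨g, hg⟩
      obtain ⟨a, ha, hl, hlv⟩ := D.exists_factor hv hg
      exact ⟨⟨⟨a, ha⟩, ⟨_, hl, hlv⟩⟩, Subtype.ext (mul_inv_cancel_left a g)⟩

/-- restriction to a normal subgroup containing `r` and all 2-elements -/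
theorem Aff.exists_restrict (D : Aff Γ V) (Δ : Subgroup Γ) (hr : D.r ∈ Δ)
    (h2 : ∀ g : Γ, ∀ k : ℕ, orderOf g = 2 ^ k → g ∈ Δ) : ∃ D' : Aff Δ V, D'.n = D.n := by
  classical
  haveI : Fact (Nat.Prime 2) := ⟨Nat.prime_two⟩
  obtain ⟨S⟩ := (inferInstance : Nonempty (Sylow 2 Γ))
  have hS : (S : Subgroup Γ) ≤ Δ := fun g hg => by
    obtain ⟨k, hk⟩ := IsPGroup.iff_orderOf.1 S.2 ⟨g, hg⟩
    exact h2 g k (by rw [← hk, Subgroup.orderOf_mk])
  have hSc : 2 ^ D.n ∣ Nat.card (S : Subgroup Γ) := S.pow_dvd_card_of_pow_dvd_card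
    ⟨Nat.card D.L, by rw [← D.index_L, mul_comm]; exact D.L.card_mul_index.symm⟩
  have hinj : ∀ a ∈ (S : Subgroup Γ), ∀ b ∈ (S : Subgroup Γ), D.c a = D.c b → a = b := by
    intro a ha b hb h
    refine inv_mul_eq_one.1 (orderOf_eq_one_iff.1 ?_)
    have h1 := Subgroup.orderOf_dvd_natCard _ ((D.c_eq_iff a b).1 h)
    obtain ⟨k, hk⟩ := IsPGroup.iff_orderOf.1 S.2 ⟨a⁻¹ * b, mul_mem (inv_mem ha) hb⟩
    rw [Subgroup.orderOf_mk] at hk
    rcases k with _ | k
    · rw [hk, pow_zero]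
    · rw [hk] at h1
      exact absurd ((dvd_pow_self 2 k.succ_ne_zero).trans h1)
        (fun h' => (Nat.not_even_iff_odd.2 D.L_odd) (even_iff_two_dvd.2 h'))
  have honto : ∀ v : V, ∃ g : Δ, D.c g = v := by
    let f : ↥(S : Subgroup Γ) → V := fun g => D.c g
    have hf : Function.Injective f := fun a b h => Subtype.ext (hinj _ a.2 _ b.2 h)
    have hb : Function.Bijective f := (Nat.bijective_iff_injective_and_card f).2 ⟨hf,
      le_antisymm (Nat.card_le_card_of_injective f hf) (by rw [D.hV]; exact Nat.le_of_dvd Nat.card_pos hSc)⟩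
    intro v
    obtain ⟨g, hg⟩ := hb.2 v
    exact ⟨⟨g, hS g.2⟩, hg⟩
  refine ⟨⟨D.n, D.hV, D.hn, D.ρ.comp Δ.subtype, D.inj.comp Subtype.val_injective, fun g => D.c g,
    fun g h => D.coc g h, honto, ?_, ⟨D.r, hr⟩, D.hr, fun v w hv hw => ?_, fun l hl => ?_⟩, rfl⟩
  · refine D.L_odd.of_dvd_nat ?_
    rw [show Nat.card {g : Δ // D.c g = 1} = Nat.card (D.L.subgroupOf Δ) from rfl]
    exact (Subgroup.card_comap_dvd_of_injective D.L Δ.subtype Subtype.val_injective)
  · obtain ⟨j, hj⟩ := D.trans v w hv hw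
    exact ⟨j, hj⟩
  · obtain ⟨j, hj⟩ := D.norm l hl
    exact ⟨j, Subtype.ext (by simpa using hj)⟩

/-- an element of odd prime order of the stabilizer commuting with an involution gives a transfer -/
theorem Aff.exists_smaller (D : Aff Γ V) {φ u : Γ} (hφ : φ ∈ D.L) {p : ℕ} (hp : p.Prime)
    (hφp : orderOf φ = p) (hu : orderOf u = 2) (hc : φ * u = u * φ) :
    ∃ (Δ : Subgroup Γ) (D' : Aff Δ V), D'.n = D.n ∧ φ ∉ Δ := by
  classical
  haveI : Fact p.Prime := ⟨hp⟩
  have hLodd := D.L_odd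
  have hp2 : p ≠ 2 := by
    rintro rfl
    have := Subgroup.orderOf_dvd_natCard _ hφ
    rw [hφp] at this
    exact (Nat.not_even_iff_odd.2 hLodd) (even_iff_two_dvd.2 this)
  have huL : u ∉ D.L := fun h => by
    have := Subgroup.orderOf_dvd_natCard _ h
    rw [hu] at this
    exact (Nat.not_even_iff_odd.2 hLodd) (even_iff_two_dvd.2 this)
  set v := D.c u with hvd
  have hv : v ≠ 1 := huL
  have hφv : D.ρ φ v = v := by
    have h1 := D.coc φ u
    rw [hc, D.coc, D.mem_L.1 hφ, map_one, mul_one, one_mul] at h1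
    exact h1.symm
  have hφA : φ ∉ D.A := fun h => hp.ne_one (by rw [← hφp, D.free h hv hφv, orderOf_one])
  -- the abelian quotient of the stabilizer
  set A' := D.A.subgroupOf D.L
  haveI : A'.Normal := ⟨fun a ha g => mem_subgroupOf.2 (D.A_conj g.2 (mem_subgroupOf.1 ha))⟩
  letI : CommGroup (D.L ⧸ A') :=
    { (inferInstance : Group (D.L ⧸ A')) with
      mul_comm := fun x y => by
        induction x using QuotientGroup.induction_on with | _ g => ?_
        induction y using QuotientGroup.induction_on with | _ h => ?_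
        rw [← QuotientGroup.mk_mul, ← QuotientGroup.mk_mul, QuotientGroup.eq, mem_subgroupOf]
        show ((g : Γ) * h)⁻¹ * ((h : Γ) * g) ∈ D.A
        have := D.commutator_mem (inv_mem h.2) (inv_mem g.2)
        rw [show ((g : Γ) * h)⁻¹ * ((h : Γ) * g) = (h : Γ)⁻¹ * (g : Γ)⁻¹ * ((h : Γ)⁻¹)⁻¹ * ((g : Γ)⁻¹)⁻¹ by group]
        exact this }
  let ϕ : D.L →* D.L ⧸ A' := QuotientGroup.mk' A'
  have hϕ : ∀ (x : Γ) (hx : x ∈ D.L), ϕ ⟨x, hx⟩ = 1 ↔ x ∈ D.A := fun x hx => by
    rw [QuotientGroup.mk'_apply, QuotientGroup.eq_one_iff]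
    exact mem_subgroupOf
  let τ : Γ →* D.L ⧸ A' := MonoidHom.transfer ϕ
  -- cosets fixed by a stabilizer element
  have hfixed : ∀ (l x : Γ), l ∈ D.L → ((l * x : Γ) : Γ ⧸ D.L) = (x : Γ ⧸ D.L) → D.ρ l (D.c x) = D.c x := by
    intro l x hl h
    have h1 := (D.c_eq_iff _ _).2 (QuotientGroup.eq.1 h)
    rwa [D.coc, D.mem_L.1 hl, one_mul] at h1
  have hτr : τ D.r = 1 := by
    haveI : Fintype (Quotient (MulAction.orbitRel (zpowers D.r) (Γ ⧸ D.L))) := Fintype.ofFinite _
    rw [MonoidHom.transfer_eq_prod_quotient_orbitRel_zpowers_quot]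
    refine Finset.prod_eq_one fun q _ => ?_
    rw [hϕ]
    set k := Function.minimalPeriod (D.r • ·) q.out
    set x := q.out.out
    have hk : ((D.r ^ k * x : Γ) : Γ ⧸ D.L) = (x : Γ ⧸ D.L) := by
      have h1 : (D.r ^ k) • q.out = q.out := by
        have := Function.isPeriodicPt_minimalPeriod (D.r • ·) q.out
        rwa [Function.IsPeriodicPt, Function.IsFixedPt, smul_iterate] at this
      rw [← QuotientGroup.out_eq' q.out, MulAction.Quotient.smul_coe, smul_eq_mul] at h1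
      exact h1
    by_cases hrk : D.r ^ k = 1
    · rw [hrk, mul_one, inv_mul_cancel]; exact one_mem _
    have hx : D.c x = 1 := by
      by_contra hx
      exact hrk (D.free (npow_mem_zpowers _ _) hx (hfixed _ _ (pow_mem D.r_mem k) hk))
    have := D.A_conj (inv_mem (D.mem_L.2 hx)) (npow_mem_zpowers D.r k)
    rwa [inv_inv] at this
  have hτφ : τ φ ≠ 1 := by
    haveI : Fintype (Quotient (MulAction.orbitRel (zpowers φ) (Γ ⧸ D.L))) := Fintype.ofFinite _
    set φb := ϕ ⟨φ, hφ⟩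
    have hφb : φb ≠ 1 := fun h => hφA ((hϕ φ hφ).1 h)
    have hφbp : φb ^ p = 1 := by
      rw [← map_pow, show (⟨φ, hφ⟩ : D.L) ^ p = 1 from Subtype.ext (by simp [← hφp, pow_orderOf_eq_one]), map_one]
    have hval : ∀ x : Γ, ∀ h : x⁻¹ * φ * x ∈ D.L, ϕ ⟨x⁻¹ * φ * x, h⟩ = φb := by
      intro x h
      have hxfix : D.ρ φ (D.c x) = D.c x := hfixed φ x hφ (QuotientGroup.eq.2 (by
        rw [mul_inv_rev]
        simpa [mul_assoc] using inv_mem h))
      have key : ∀ l : Γ, ∀ hl : l ∈ D.L, ∀ h' : l⁻¹ * φ * l ∈ D.L, ϕ ⟨l⁻¹ * φ * l, h'⟩ = φb := by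
        intro l hl h'
        rw [show (⟨l⁻¹ * φ * l, h'⟩ : D.L) = (⟨l, hl⟩ : D.L)⁻¹ * ⟨φ, hφ⟩ * ⟨l, hl⟩ from Subtype.ext rfl,
          map_mul, map_mul, map_inv, mul_comm ((ϕ ⟨l, hl⟩)⁻¹), mul_assoc, inv_mul_cancel, mul_one]
      by_cases hx1 : D.c x = 1
      · exact key x (D.mem_L.2 hx1) h
      obtain ⟨j, hj⟩ := D.trans v (D.c x) hv hx1
      set a := D.r ^ j
      have haA : a ∈ D.A := npow_mem_zpowers _ _
      have haφ : a * φ = φ * a := by
        have hz : φ⁻¹ * a * φ * a⁻¹ ∈ D.A := by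
          have := D.A_conj (inv_mem hφ) haA
          rw [inv_inv] at this
          exact mul_mem this (inv_mem haA)
        have hinv : D.ρ φ⁻¹ (D.c x) = D.c x := by
          conv_lhs => rw [← hxfix]
          rw [← MulAut.mul_apply, ← map_mul, inv_mul_cancel, map_one, MulAut.one_apply]
        have hainv : D.ρ a⁻¹ (D.c x) = v := by
          rw [← hj, ← MulAut.mul_apply, ← map_mul, inv_mul_cancel, map_one, MulAut.one_apply]
        have h1 : D.ρ (φ⁻¹ * a * φ * a⁻¹) (D.c x) = D.c x := by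
          simp only [map_mul, MulAut.mul_apply, hainv, hφv, hj, hinv]
        have h2 := D.free hz hx1 h1
        calc a * φ = φ * (φ⁻¹ * a * φ * a⁻¹) * a := by group
          _ = φ * a := by rw [h2, mul_one]
      have hg : D.c (a * u) = D.c x := by
        rw [D.coc, D.mem_L.1 (D.A_le haA), one_mul, hj]
      set l := (a * u)⁻¹ * x with hl
      have hlL : l ∈ D.L := (D.c_eq_iff _ _).1 hg
      have he : x⁻¹ * φ * x = l⁻¹ * φ * l := by
        have hcom : φ * (a * u) = a * u * φ := by rw [← mul_assoc, ← haφ, mul_assoc, hc, ← mul_assoc]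
        rw [hl, show ((a * u)⁻¹ * x)⁻¹ * φ * ((a * u)⁻¹ * x) = x⁻¹ * ((a * u) * φ) * (a * u)⁻¹ * x by group,
          ← hcom]
        group
      calc ϕ ⟨x⁻¹ * φ * x, h⟩ = ϕ ⟨l⁻¹ * φ * l, he ▸ h⟩ := by congr 1; exact Subtype.ext he
        _ = φb := key l hlL _
    rw [MonoidHom.transfer_eq_prod_quotient_orbitRel_zpowers_quot]
    -- the orbits
    let per : Quotient (MulAction.orbitRel (zpowers φ) (Γ ⧸ D.L)) → ℕ := fun q =>
      Function.minimalPeriod (φ • ·) q.out
    let term : Quotient (MulAction.orbitRel (zpowers φ) (Γ ⧸ D.L)) → D.L ⧸ A' := fun q =>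
      ϕ ⟨q.out.out⁻¹ * φ ^ per q * q.out.out, QuotientGroup.out_conj_pow_minimalPeriod_mem D.L φ q.out⟩
    change ∏ q, term q ≠ 1
    have hper : ∀ q, per q = 1 ∨ per q = p := fun q => by
      refine (Nat.dvd_prime hp).1 (Function.IsPeriodicPt.minimalPeriod_dvd ?_)
      show (φ • ·)^[p] q.out = q.out
      rw [smul_iterate]
      show φ ^ p • q.out = q.out
      rw [← hφp, pow_orderOf_eq_one, one_smul]
    have hterm : ∀ q, term q = if per q = 1 then φb else 1 := by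
      intro q
      by_cases h1 : per q = 1
      · rw [if_pos h1]
        have hm : q.out.out⁻¹ * φ * q.out.out ∈ D.L := by
          have := QuotientGroup.out_conj_pow_minimalPeriod_mem D.L φ q.out
          rwa [show Function.minimalPeriod (φ • ·) q.out = 1 from h1, pow_one] at this
        rw [← hval _ hm]
        exact congrArg ϕ (Subtype.ext
          (show q.out.out⁻¹ * φ ^ per q * q.out.out = q.out.out⁻¹ * φ * q.out.out by rw [h1, pow_one]))
      · rw [if_neg h1]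
        have hpq := (hper q).resolve_left h1
        refine (hϕ _ _).2 ?_
        rw [hpq, ← hφp, pow_orderOf_eq_one, mul_one, inv_mul_cancel]
        exact one_mem _
    simp only [hterm]
    rw [Finset.prod_ite, Finset.prod_const_one, mul_one, Finset.prod_const]
    set K := Finset.univ.filter fun q => per q = 1
    -- the fixed cosets correspond to the fixed points of `φ`
    let Fx : Subgroup V :=
      { carrier := {w | D.ρ φ w = w}
        one_mem' := map_one _
        mul_mem' := fun {a b} ha hb => by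
          show D.ρ φ (a * b) = a * b
          rw [map_mul, ha, hb]
        inv_mem' := fun {a} ha => by
          show D.ρ φ a⁻¹ = a⁻¹
          rw [map_inv, ha] }
    have hK : K.card = Nat.card Fx := by
      rw [← Fintype.card_coe, ← Nat.card_eq_fintype_card]
      have hfix : ∀ q : K, φ • q.1.out = q.1.out := fun q => by
        have h1 : per q.1 = 1 := (Finset.mem_filter.1 q.2).2
        exact Function.minimalPeriod_eq_one_iff_isFixedPt.1 h1
      refine Nat.card_congr (Equiv.ofBijective (fun q : K => (⟨D.c q.1.out.out, ?_⟩ : Fx)) ⟨?_, ?_⟩)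
      · refine hfixed φ _ hφ ?_
        have := hfix q
        rw [← QuotientGroup.out_eq' q.1.out, MulAction.Quotient.smul_coe, smul_eq_mul] at this
        exact this
      · intro a b h
        have h1 := (D.c_eq_iff _ _).1 (congrArg Subtype.val h)
        refine Subtype.ext ?_
        rw [← Quotient.out_eq a.1, ← Quotient.out_eq b.1, ← QuotientGroup.out_eq' a.1.out,
          ← QuotientGroup.out_eq' b.1.out, QuotientGroup.eq.2 h1]
      · rintro ⟨w, hw⟩
        obtain ⟨x, hx⟩ := D.onto w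
        set pt : Γ ⧸ D.L := (x : Γ ⧸ D.L)
        have hpt : φ • pt = pt := by
          show ((φ * x : Γ) : Γ ⧸ D.L) = _
          refine QuotientGroup.eq.2 ((D.c_eq_iff _ _).1 ?_)
          rw [D.coc, D.mem_L.1 hφ, one_mul, hx]
          exact hw
        set q : Quotient (MulAction.orbitRel (zpowers φ) (Γ ⧸ D.L)) := Quotient.mk'' pt
        have hqo : q.out = pt := by
          obtain ⟨⟨g, hg⟩, he⟩ : q.out ∈ MulAction.orbit (zpowers φ) pt :=
            MulAction.orbitRel_apply.1 (Quotient.mk_out (s := MulAction.orbitRel (zpowers φ) (Γ ⧸ D.L)) pt)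
          obtain ⟨i, rfl⟩ := mem_zpowers_iff.1 hg
          have hi : ∀ i : ℤ, φ ^ i • pt = pt := by
            intro i
            have hst : φ ∈ MulAction.stabilizer Γ pt := hpt
            exact zpow_mem hst i
          rw [← he]
          exact hi i
        refine ⟨⟨q, Finset.mem_filter.2 ⟨Finset.mem_univ _, ?_⟩⟩, Subtype.ext ?_⟩
        · exact Function.minimalPeriod_eq_one_iff_isFixedPt.2 (by
            show φ • q.out = q.out
            rw [hqo, hpt])
        · show D.c q.out.out = w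
          rw [← hx, D.c_eq_iff, ← QuotientGroup.eq, QuotientGroup.out_eq', hqo]
    rw [hK]
    obtain ⟨i, -, hi⟩ := (Nat.dvd_prime_pow Nat.prime_two).1 (D.hV ▸ Subgroup.card_subgroup_dvd_card Fx)
    rw [hi]
    intro h1
    have hord : orderOf φb = p := orderOf_eq_prime hφbp hφb
    have := orderOf_dvd_of_pow_eq_one h1
    rw [hord] at this
    exact hp2 ((Nat.prime_dvd_prime_iff_eq hp Nat.prime_two).1 (hp.dvd_of_dvd_pow this))
  refine ⟨τ.ker, ?_⟩
  obtain ⟨D', hD'⟩ := D.exists_restrict τ.ker hτr fun g k hg => by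
    rw [MonoidHom.mem_ker, ← orderOf_eq_one_iff]
    have h1 : orderOf (τ g) ∣ 2 ^ k := hg ▸ orderOf_map_dvd τ g
    have h2 : orderOf (τ g) ∣ Nat.card D.L :=
      (_root_.orderOf_dvd_natCard _).trans (Subgroup.card_quotient_dvd_card A')
    exact Nat.eq_one_of_dvd_coprimes
      ((Nat.coprime_two_left.2 hLodd).pow_left k) h1 h2
  exact ⟨D', hD', hτφ⟩

/-- a nontrivial normal subgroup is transitive -/
theorem Aff.two_pow_dvd (D : Aff Γ V) (N : Subgroup Γ) (hN : N.Normal) (h : N ≠ ⊥) :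
    2 ^ D.n ∣ Nat.card N := by
  classical
  have hinv : ∀ m ∈ N, ∀ l ∈ D.L, ∃ m' ∈ N, D.c m' = D.ρ l (D.c m) := fun m hm l hl =>
    ⟨l * m * l⁻¹, hN.conj_mem m hm l, D.c_conj hl m⟩
  by_cases hall : ∀ m ∈ N, D.c m = 1
  · exfalso
    refine h (eq_bot_iff.2 fun m hm => mem_bot.2 (D.inj ?_))
    rw [map_one]
    refine MulEquiv.ext fun w => ?_
    obtain ⟨g, rfl⟩ := D.onto w
    rw [MulAut.one_apply]
    have h1 := (D.c_eq_iff g (m * g)).2 (D.mem_L.2 (by
      rw [← mul_assoc]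
      have := hN.conj_mem m hm g⁻¹
      rw [inv_inv] at this
      exact hall _ this))
    rw [D.coc, hall m hm, one_mul] at h1
    exact h1.symm
  push Not at hall
  obtain ⟨m, hm, hm1⟩ := hall
  have honto : ∀ w : V, ∃ m' ∈ N, D.c m' = w := by
    intro w
    by_cases hw : w = 1
    · exact ⟨1, one_mem N, hw ▸ D.c_one⟩
    obtain ⟨j, hj⟩ := D.trans _ w hm1 hw
    rw [← hj]
    exact hinv m hm _ (pow_mem D.r_mem j)
  have hidx : (D.L.subgroupOf N).index = 2 ^ D.n := by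
    rw [Subgroup.index_eq_card, ← D.hV]
    refine Nat.card_congr (Equiv.ofBijective (fun q => D.c (q.out : Γ)) ⟨?_, ?_⟩)
    · intro a b h
      rw [← QuotientGroup.out_eq' a, ← QuotientGroup.out_eq' b]
      exact QuotientGroup.eq.2 (mem_subgroupOf.2 ((D.c_eq_iff _ _).1 h))
    · intro w
      obtain ⟨m', hm', he⟩ := honto w
      refine ⟨((⟨m', hm'⟩ : N) : N ⧸ D.L.subgroupOf N), ?_⟩
      obtain ⟨⟨l, hl⟩, hle⟩ := QuotientGroup.mk_out_eq_mul (D.L.subgroupOf N) (⟨m', hm'⟩ : N)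
      show D.c ((Quotient.out ((⟨m', hm'⟩ : N) : N ⧸ D.L.subgroupOf N) : N) : Γ) = w
      rw [hle]
      show D.c (m' * (l : Γ)) = w
      rw [D.coc, D.mem_L.1 (mem_subgroupOf.1 hl), map_one, mul_one, he]
  exact hidx ▸ Subgroup.index_dvd_card _

theorem Aff.no_normal_two (D : Aff Γ V) (N : Subgroup Γ) (hN : N.Normal) (h2 : IsPGroup 2 N) : N = ⊥ := by
  classical
  haveI : Fact (Nat.Prime 2) := ⟨Nat.prime_two⟩
  letI : MulAction N V :=
    { smul := fun m w => D.ρ (m : Γ) w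
      one_smul := fun w => by show D.ρ ((1 : N) : Γ) w = w; rw [Subgroup.coe_one, map_one, MulAut.one_apply]
      mul_smul := fun a b w => by
        show D.ρ ((a * b : N) : Γ) w = D.ρ (a : Γ) (D.ρ (b : Γ) w)
        rw [Subgroup.coe_mul, map_mul, MulAut.mul_apply] }
  have h1 : (1 : V) ∈ MulAction.fixedPoints N V := fun m => map_one _
  obtain ⟨v, hv, hv1⟩ := h2.exists_fixed_point_of_prime_dvd_card_of_fixed_point V
    (D.hV ▸ dvd_pow_self 2 (by have := D.hn; omega)) h1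
  refine eq_bot_iff.2 fun m hm => mem_bot.2 (D.inj ?_)
  rw [map_one]
  refine MulEquiv.ext fun w => ?_
  rw [MulAut.one_apply]
  by_cases hw : w = 1
  · rw [hw, map_one]
  obtain ⟨j, hj⟩ := D.trans v w hv1.symm hw
  rw [← hj, ← MulAut.mul_apply, ← map_mul, show m * D.r ^ j = D.r ^ j * ((D.r ^ j)⁻¹ * m * D.r ^ j) by group,
    map_mul, MulAut.mul_apply]
  congr 1
  have hm' := hN.conj_mem m hm (D.r ^ j)⁻¹
  rw [inv_inv] at hm'
  exact hv ⟨_, hm'⟩

end H70.TwoLayer
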