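import Cfsg.Agent.H70.TwoLayer.Affine
import Cfsg.Agent.H11.CIT.Class
import Cfsg.Agent.H37.SmallIso
import Cfsg.Agent.H57.SzStab
import Cfsg.Agent.H57.SzForm

/-! The degree of the affine groups of `H70.TwoLayer.Affine` is at most eight. -/

set_option autoImplicit false
set_option linter.style.haveILetI false

namespace H70.TwoLayer

open Subgroup

universe u w

theorem two_adic_unique {a b x y : ℕ} (hx : Odd x) (hy : Odd y) (h : 2 ^ a * x = 2 ^ b * y) :
    a = b ∧ x = y := by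
  have key : ∀ a b x y : ℕ, Odd x → 2 ^ a * x = 2 ^ b * y → b ≤ a := by
    intro a b x y hx h
    exact (Nat.pow_dvd_pow_iff_le_right one_lt_two).1
      ((Nat.Coprime.pow_left b (Nat.coprime_two_left.2 hx)).dvd_of_dvd_mul_right ⟨y, h⟩)
  have hab : a = b := le_antisymm (key b a y x hy h.symm) (key a b x y hx h)
  subst hab
  exact ⟨rfl, Nat.eq_of_mul_eq_mul_left (Nat.pow_pos two_pos) h⟩

variable {Γ : Type u} [Group Γ] [Finite Γ] {V : Type w} [CommGroup V] [Finite V]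

theorem Aff.degree_le (D : Aff Γ V) : D.n ≤ 3 := by
  suffices h : ∀ (m : ℕ) (Γ : Type u) [Group Γ] [Finite Γ] (D : Aff Γ V), Nat.card Γ = m → D.n ≤ 3 from
    h _ Γ D rfl
  intro m
  induction m using Nat.strong_induction_on with
  | _ m ih =>
  intro Γ _ _ D hm
  by_contra hn4
  push Not at hn4
  have hCIT : H11.CIT.IsCIT Γ := by
    refine H28.CITGraph.isCIT_of_graph fun q hq hq2 ⟨g, hg⟩ => ?_
    haveI : Fact q.Prime := ⟨hq⟩
    have hu : orderOf (g ^ q) = 2 := by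
      rw [orderOf_pow' _ hq.ne_zero, hg, Nat.gcd_eq_right (dvd_mul_left q 2), Nat.mul_div_cancel _ hq.pos]
    have hφ : orderOf (g ^ 2) = q := by
      rw [orderOf_pow' _ two_ne_zero, hg, Nat.gcd_eq_right (dvd_mul_right 2 q),
        Nat.mul_div_cancel_left _ two_pos]
    obtain ⟨P₀⟩ := (inferInstance : Nonempty (Sylow q D.L))
    have hidx : ¬ q ∣ ((P₀ : Subgroup D.L).map D.L.subtype).index := by
      intro hd
      rw [Subgroup.index_map, D.L.ker_subtype, sup_bot_eq, Subgroup.range_subtype, D.index_L] at hd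
      rcases hq.dvd_mul.1 hd with h1 | h1
      · exact P₀.not_dvd_index h1
      · exact hq2 ((Nat.prime_dvd_prime_iff_eq hq Nat.prime_two).1 (hq.dvd_of_dvd_pow h1))
    let P : Sylow q Γ := IsPGroup.toSylow (P₀.2.map D.L.subtype) hidx
    obtain ⟨y, hy⟩ := H86.exists_conj_le_sylow P (X := zpowers (g ^ 2))
      (IsPGroup.of_card (n := 1) (by rw [Nat.card_zpowers, hφ, pow_one]))
    have hyL : y * g ^ 2 * y⁻¹ ∈ D.L := map_subtype_le _ (hy _ (mem_zpowers _))
    obtain ⟨Δ, D', hD', hφΔ⟩ := D.exists_smaller hyL hq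
      ((MulEquiv.orderOf_eq (MulAut.conj y) (g ^ 2)).trans hφ)
      (u := y * g ^ q * y⁻¹) ((MulEquiv.orderOf_eq (MulAut.conj y) (g ^ q)).trans hu)
      (by
        have h : g ^ 2 * g ^ q = g ^ q * g ^ 2 := (Commute.refl g).pow_pow 2 q
        calc y * g ^ 2 * y⁻¹ * (y * g ^ q * y⁻¹) = y * (g ^ 2 * g ^ q) * y⁻¹ := by group
          _ = y * (g ^ q * g ^ 2) * y⁻¹ := by rw [h]
          _ = _ := by group)
    have hlt : Nat.card Δ < Nat.card Γ := lt_of_le_of_ne (Subgroup.card_le_card_group Δ)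
      fun he => hφΔ (Subgroup.eq_top_of_card_eq Δ he ▸ mem_top _)
    have := ih _ (hm ▸ hlt) Δ D' rfl
    omega
  haveI : Nontrivial Γ := by
    obtain ⟨v, hv⟩ := D.exists_ne
    obtain ⟨g, hg⟩ := D.onto v
    exact ⟨⟨g, 1, fun h => hv (by rw [← hg, h, D.c_one])⟩⟩
  have hns : ¬ Group.IsSolvable Γ := by
    intro hs
    obtain ⟨q, N, hq, hN, hN1, hNq⟩ := H1.exists_normal_pgroup_ne_bot Γ
    haveI : Fact q.Prime := ⟨hq⟩
    obtain ⟨k, hk⟩ := IsPGroup.iff_card.1 hNq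
    have h1 := (dvd_pow_self 2 (by omega : D.n ≠ 0)).trans (D.two_pow_dvd N hN hN1)
    rw [hk] at h1
    obtain rfl := (Nat.prime_dvd_prime_iff_eq Nat.prime_two hq).1 (Nat.prime_two.dvd_of_dvd_pow h1)
    exact hN1 (D.no_normal_two N hN hNq)
  obtain ⟨N, hNn, hNs, hNc, -⟩ := H28.CITGraph.exists_simple hCIT hns
    (D.no_normal_two _ (H1.pCore_normal' 2 Γ) (H1.isPGroup_pCore 2 Γ))
  haveI := hNs
  have hN1 : N ≠ ⊥ := fun h => (Subgroup.nontrivial_iff_ne_bot N).1 hNs.toNontrivial h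
  have hNcit : H11.CIT.IsCIT N := by
    intro t ht x
    have ht' : orderOf (t : Γ) = 2 := by rw [Subgroup.orderOf_coe]; exact ht
    obtain ⟨k, hk⟩ := hCIT t ht' ⟨((x : N) : Γ), mem_centralizer_singleton_iff.2
      (congrArg Subtype.val (mem_centralizer_singleton_iff.1 x.2))⟩
    exact ⟨k, Subtype.ext (Subtype.ext (by simpa using congrArg Subtype.val hk))⟩
  obtain ⟨f, hf, hfn, hΓ⟩ := D.card_eq
  have hfle : f ≤ D.n := Nat.le_of_dvd (by omega) hfn
  set n := D.n with hndef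
  obtain ⟨o, ho⟩ := D.two_pow_dvd N hNn hN1
  have hoM : o ∣ (2 ^ n - 1) * f := by
    have h := Subgroup.card_subgroup_dvd_card N
    rw [ho, hΓ] at h
    exact Nat.dvd_of_mul_dvd_mul_left (Nat.pow_pos two_pos) h
  have h2n : 16 ≤ 2 ^ n := le_trans (by norm_num) (Nat.pow_le_pow_right two_pos hn4)
  have hpos : 0 < 2 ^ n := by omega
  have hMo : Odd ((2 ^ n - 1) * f) := Odd.mul (by
    rw [Nat.odd_iff]
    obtain ⟨c, hc⟩ := dvd_pow_self 2 (show n ≠ 0 by omega)
    omega) hf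
  have hoo : Odd o := hMo.of_dvd_nat hoM
  have hlarge : ∀ c, c ∣ f → c ≤ n := fun c hc => (Nat.le_of_dvd (Nat.pos_of_ne_zero (fun h => by
    rw [h] at hf; exact (Nat.not_odd_zero) hf)) hc).trans hfle
  have hnlt : n < 2 ^ n := Nat.lt_two_pow_self
  rcases H11.CIT.citClass N hNc hNcit with ⟨F, iF, iFt, hq, ⟨e⟩⟩ | ⟨F, iF, iFt, hq, ⟨e⟩⟩ | hsz
  · have hc := H37.card_PSL_two (F := F)
    rw [← Nat.card_congr e.toEquiv, ho, Nat.card_eq_fintype_card (α := F)] at hc
    rcases hq with h9 | ⟨k, hk⟩ | ⟨hp, k, hk | hk⟩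
    · rw [h9, show Nat.gcd 2 (9 - 1) = 2 by norm_num] at hc
      have h360 : 2 ^ n * o = 2 ^ 3 * 45 := by norm_num at hc ⊢; linarith
      have := (two_adic_unique hoo (by decide) h360).1
      omega
    · rw [hk] at hc
      have hk1 : k ≠ 0 := by
        rintro rfl
        have := Fintype.one_lt_card (α := F)
        rw [hk] at this; simp at this
      obtain ⟨c, hc'⟩ := dvd_pow_self 2 hk1
      have hkpos : 0 < 2 ^ k := Nat.pow_pos two_pos
      rw [show Nat.gcd 2 (2 ^ k - 1) = 1 from Nat.coprime_two_left.2 ⟨c - 1, by omega⟩, one_mul] at hc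
      have hodd : Odd ((2 ^ k) ^ 2 - 1) := by
        obtain ⟨d, hd⟩ : 2 ∣ (2 ^ k) ^ 2 := dvd_pow ⟨c, hc'⟩ two_ne_zero
        have : 0 < (2 ^ k) ^ 2 := Nat.pow_pos hkpos
        exact ⟨d - 1, by omega⟩
      obtain ⟨rfl, ho'⟩ := two_adic_unique hoo hodd hc
      rw [ho', show (2 ^ n) ^ 2 - 1 = (2 ^ n - 1) * (2 ^ n + 1) by
        rw [mul_comm, ← Nat.sq_sub_sq, one_pow]] at hoM
      have := hlarge _ (Nat.dvd_of_mul_dvd_mul_left (by omega) hoM)
      omega
    · -- a Fermat prime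
      have hk0 : k ≠ 0 := by
        rintro rfl
        have hc2 := hc
        rw [hk] at hc2
        norm_num at hc2
        have h32 : 2 ^ n * o = 2 ^ 1 * 3 := by linarith
        have := (two_adic_unique hoo (by decide) h32).1
        omega
      obtain ⟨c, hc'⟩ := dvd_pow_self 2 hk0
      rw [hk, show 2 ^ k + 1 - 1 = 2 ^ k from Nat.add_sub_cancel _ _,
        show Nat.gcd 2 (2 ^ k) = 2 from Nat.gcd_eq_left ⟨c, hc'⟩] at hc
      have e1 : (2 ^ k + 1) ^ 2 - 1 = 2 ^ k * (2 * (c + 1)) := by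
        rw [Nat.sub_eq_iff_eq_add (Nat.one_le_pow _ _ (by omega)), hc']; ring
      rw [e1] at hc
      have h2 : 2 ^ n * o = 2 ^ k * ((2 ^ k + 1) * (c + 1)) := by linarith
      have hk2 : k = 1 ∨ 2 ≤ k := by omega
      rcases hk2 with rfl | hk2
      · norm_num at hc'
        subst hc'
        norm_num at h2
        have h32 : 2 ^ n * o = 2 ^ 2 * 3 := by linarith
        have := (two_adic_unique hoo (by decide) h32).1
        omega
      obtain ⟨d, hd⟩ : 2 ∣ c := by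
        obtain ⟨i, rfl⟩ : ∃ i, k = i + 2 := ⟨k - 2, by omega⟩
        rw [pow_add] at hc'
        exact ⟨2 ^ i, by norm_num at hc'; omega⟩
      have hodd : Odd ((2 ^ k + 1) * (c + 1)) :=
        Odd.mul ⟨c, by omega⟩ ⟨d, by omega⟩
      obtain ⟨rfl, ho'⟩ := two_adic_unique hoo hodd h2
      rw [ho'] at hoM
      have hcop : Nat.Coprime (2 ^ n + 1) (2 ^ n - 1) := by
        have h3 : Nat.gcd (2 ^ n + 1) (2 ^ n - 1) ∣ 2 := by
          have := Nat.dvd_sub (Nat.gcd_dvd_left (2 ^ n + 1) (2 ^ n - 1)) (Nat.gcd_dvd_right (2 ^ n + 1) (2 ^ n - 1))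
          rwa [show 2 ^ n + 1 - (2 ^ n - 1) = 2 by omega] at this
        have h4 : Odd (Nat.gcd (2 ^ n + 1) (2 ^ n - 1)) :=
          (show Odd (2 ^ n + 1) from ⟨c, by omega⟩).of_dvd_nat (Nat.gcd_dvd_left _ _)
        rcases (Nat.dvd_prime Nat.prime_two).1 h3 with h5 | h5
        · exact h5
        · rw [h5] at h4; exact absurd h4 (by decide)
      have := hlarge _ (hcop.dvd_of_dvd_mul_left ((Dvd.intro _ rfl).trans hoM))
      omega
    · -- a Mersenne prime
      have hk2 : 2 ≤ k := by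
        by_contra h
        interval_cases k <;> simp at hk
        · exact hp.ne_one (by omega) |>.elim
      obtain ⟨i, rfl⟩ : ∃ i, k = i + 2 := ⟨k - 2, by omega⟩
      set q := Fintype.card F
      have hq : q = 2 * (2 * 2 ^ i - 1) + 1 := by
        rw [show 2 ^ (i + 2) = 4 * 2 ^ i by rw [pow_add]; ring] at hk
        have : 0 < 2 ^ i := Nat.pow_pos two_pos
        omega
      obtain ⟨s, hs⟩ : ∃ s, 2 * 2 ^ i = s + 1 := ⟨2 * 2 ^ i - 1, by
        have : 0 < 2 ^ i := Nat.pow_pos two_pos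
        omega⟩
      have hq' : q = 2 * s + 1 := by omega
      rw [hq', show Nat.gcd 2 (2 * s + 1 - 1) = 2 from Nat.gcd_eq_left ⟨s, by omega⟩,
        show (2 * s + 1) ^ 2 - 1 = 4 * s * (s + 1) by
          rw [Nat.sub_eq_iff_eq_add (Nat.one_le_pow _ _ (by omega))]; ring] at hc
      have h2 : 2 ^ n * o = 2 ^ (i + 2) * ((2 * s + 1) * s) := by
        rw [show 2 ^ (i + 2) = 2 * (2 * 2 ^ i) by rw [pow_add]; ring, hs]
        linarith
      have hso : Odd s := ⟨2 ^ i - 1, by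
        have : 0 < 2 ^ i := Nat.pow_pos two_pos
        omega⟩
      obtain ⟨hni, ho'⟩ := two_adic_unique hoo (Odd.mul ⟨s, rfl⟩ hso) h2
      have h2s : 2 ^ n - 1 = 2 * s + 1 := by
        rw [hni, show 2 ^ (i + 2) = 2 * (2 * 2 ^ i) by rw [pow_add]; ring, hs]; omega
      rw [ho', h2s] at hoM
      have hsn := hlarge _ (Nat.dvd_of_mul_dvd_mul_left (by omega) hoM)
      have h8 : 2 * n + 3 ≤ 2 ^ n := by
        obtain ⟨j, hj⟩ : ∃ j, n = j + 4 := ⟨n - 4, by omega⟩
        have := Nat.lt_two_pow_self (n := j)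
        rw [hj, pow_add]; omega
      omega
  · have h := H37.card_PSL_fin (F := F) 3 (by norm_num)
    rw [Nat.card_eq_fintype_card (α := F), hq, ← Nat.card_congr e.toEquiv, ho, Fin.prod_univ_three] at h
    norm_num at h
    have h315 : 2 ^ n * o = 2 ^ 6 * 315 := by norm_num; linarith
    obtain ⟨hn6, ho'⟩ := two_adic_unique hoo (by decide) h315
    rw [ho', hn6] at hoM
    rw [hn6] at hfn
    have := Nat.le_of_dvd (by norm_num) hfn
    interval_cases f <;> first | omega | (revert hoM hfn hf; decide)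
  · obtain ⟨F, _, _, j, hj, hF, ⟨e⟩⟩ := hsz
    have hc : Nat.card N = (2 ^ (2 * j + 1)) ^ 2 * ((2 ^ (2 * j + 1)) ^ 2 + 1) * (2 ^ (2 * j + 1) - 1) := by
      rw [Nat.card_congr (e.trans (H57.lieSzEquiv hj hF).symm).toEquiv, H57.card_sz hj hF]
    rw [ho, ← pow_mul, mul_assoc] at hc
    set k := 2 * j + 1
    have hkpos : 0 < 2 ^ k := Nat.pow_pos two_pos
    obtain ⟨c, hc'⟩ := dvd_pow_self 2 (show k ≠ 0 by omega)
    obtain ⟨d, hd⟩ := dvd_pow_self 2 (show k * 2 ≠ 0 by omega)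
    have hodd : Odd ((2 ^ (k * 2) + 1) * (2 ^ k - 1)) := Odd.mul ⟨d, by omega⟩ ⟨c - 1, by omega⟩
    obtain ⟨hnk, ho'⟩ := two_adic_unique hoo hodd hc
    rw [ho', ← hnk] at hoM
    have hcop : Nat.Coprime (2 ^ n + 1) (2 ^ n - 1) := by
      have h3 : Nat.gcd (2 ^ n + 1) (2 ^ n - 1) ∣ 2 := by
        have := Nat.dvd_sub (Nat.gcd_dvd_left (2 ^ n + 1) (2 ^ n - 1)) (Nat.gcd_dvd_right (2 ^ n + 1) (2 ^ n - 1))
        rwa [show 2 ^ n + 1 - (2 ^ n - 1) = 2 by omega] at this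
      have h4 : Odd (Nat.gcd (2 ^ n + 1) (2 ^ n - 1)) :=
        (show Odd (2 ^ n + 1) from ⟨d, by rw [show n = k * 2 from hnk]; omega⟩).of_dvd_nat (Nat.gcd_dvd_left _ _)
      rcases (Nat.dvd_prime Nat.prime_two).1 h3 with h5 | h5
      · exact h5
      · rw [h5] at h4; exact absurd h4 (by decide)
    have := hlarge _ (hcop.dvd_of_dvd_mul_left ((Dvd.intro _ rfl).trans hoM))
    omega

end H70.TwoLayer
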