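import Cfsg.Agent.S3360
import Cfsg.Agent.H66.RegularField
import Mathlib

/-! Stabilizers in semilinear groups on elementary abelian 2-groups. -/

set_option autoImplicit false
set_option linter.style.haveILetI false

namespace H70.TwoLayer

universe u

theorem card_ringAut {F : Type} [Field F] [Fintype F] {k : ℕ} (hk : Fintype.card F = 2 ^ k) :
    Nat.card (F ≃+* F) = k := by
  haveI : Fact (Nat.Prime 2) := ⟨Nat.prime_two⟩
  obtain ⟨p, hp⟩ := CharP.exists F
  obtain ⟨j, hpp, hj⟩ := FiniteField.card F p
  have hp2 : p = 2 := by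
    have h : p ∣ 2 ^ k := by rw [← hk, hj]; exact dvd_pow_self p j.ne_zero
    exact (Nat.prime_dvd_prime_iff_eq hpp Nat.prime_two).1 (hpp.dvd_of_dvd_pow h)
  subst hp2
  letI : Algebra (ZMod 2) F := ZMod.algebra F 2
  have hrank : Module.finrank (ZMod 2) F = k := by
    have h := Module.card_eq_pow_finrank (K := ZMod 2) (V := F)
    rw [ZMod.card, hk] at h
    exact (Nat.pow_right_injective (le_refl 2) h).symm
  rw [← hrank, ← IsGalois.card_aut_eq_finrank (ZMod 2) F]
  exact Nat.card_congr
    { toFun := fun σ => AlgEquiv.ofRingEquiv (f := σ) fun r =>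
        DFunLike.congr_fun (Subsingleton.elim ((σ : F →+* F).comp (algebraMap (ZMod 2) F))
          (algebraMap (ZMod 2) F)) r
      invFun := fun σ => σ.toRingEquiv
      left_inv := fun σ => rfl
      right_inv := fun σ => rfl }

/-- In a solvable group of automorphisms transitive on an elementary abelian group of order `2^k`
point stabilizers have order at most `k`. -/
theorem card_stab_le {A : Type u} [CommGroup A] [Finite A] (hA : ∀ a : A, a * a = 1) {k : ℕ}
    (hk : Nat.card A = 2 ^ k) (X : Subgroup (MulAut A)) (hsol : Group.IsSolvable X)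
    (htr : ∀ a b : A, a ≠ 1 → b ≠ 1 → ∃ x ∈ X, x a = b) (a : A) (ha : a ≠ 1) :
    Nat.card {x : X // (x : MulAut A) a = a} ≤ k := by
  classical
  haveI : Fact (Nat.Prime 2) := ⟨Nat.prime_two⟩
  haveI : Finite (MulAut A) := Finite.of_injective (fun f => (f : A → A)) DFunLike.coe_injective
  letI : Module (ZMod 2) (Additive A) := AddCommGroup.zmodModule (n := 2) fun x => by
    rw [two_nsmul]; exact hA x.toMul
  haveI : Nontrivial (Additive A) := ⟨Additive.ofMul a, 0, ha⟩
  let lin : MulAut A → ((Additive A) ≃ₗ[ZMod 2] (Additive A)) := fun f =>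
    { f.toAdditive with
      map_smul' := fun c x => by
        show f.toAdditive (c • x) = c • f.toAdditive x
        exact ZMod.map_smul f.toAdditive.toAddMonoidHom c x }
  let ρ : X →* ((Additive A) ≃ₗ[ZMod 2] (Additive A)) :=
    { toFun := fun x => lin x
      map_one' := LinearEquiv.ext fun v => rfl
      map_mul' := fun x y => LinearEquiv.ext fun v => rfl }
  have hρ : Function.Injective ρ := fun x y h => Subtype.ext (MulEquiv.ext fun b =>
    congrArg Additive.toMul (LinearEquiv.congr_fun h (Additive.ofMul b)))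
  rcases Cfsg.Agent.S3360.result 2 hsol ρ hρ (fun v w hv hw => by
      obtain ⟨x, hx, he⟩ := htr v.toMul w.toMul hv hw
      exact ⟨⟨x, hx⟩, congrArg Additive.ofMul he⟩) with ⟨F, iF, iFt, e, he⟩ | hex
  · have hFk : Fintype.card F = 2 ^ k := by
      rw [← Nat.card_eq_fintype_card, ← Nat.card_congr e.toEquiv, ← hk]
      exact Nat.card_congr Additive.toMul
    rw [← card_ringAut hFk]
    set c := e (Additive.ofMul a)
    have hc : c ≠ 0 := fun h => ha (congrArg Additive.toMul (e.injective (h.trans e.map_zero.symm)))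
    choose b σ hσ using he
    haveI : Finite (F ≃+* F) := Finite.of_injective (fun f => (f : F → F)) DFunLike.coe_injective
    refine Nat.card_le_card_of_injective (fun x => σ x.1) ?_
    rintro ⟨x, hx⟩ ⟨y, hy⟩ h
    change σ x = σ y at h
    have hx' : c = b x * σ x c := by
      rw [← hσ x]; exact congrArg (fun z => e (Additive.ofMul z)) hx.symm
    have hy' : c = b y * σ y c := by
      rw [← hσ y]; exact congrArg (fun z => e (Additive.ofMul z)) hy.symm
    have hb : b x = b y := by
      rw [h] at hx'
      exact mul_right_cancel₀ (by simpa using hc) (hx'.symm.trans hy')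
    refine Subtype.ext (hρ (LinearEquiv.ext fun v => e.injective ?_))
    show e (ρ x v) = e (ρ y v)
    rw [hσ, hσ, hb, h]
  · exfalso
    have h2 : Nat.card (Additive A) = 2 ^ k := by rw [← hk]; exact Nat.card_congr Additive.toMul
    rw [h2] at hex
    simp only [Set.mem_insert_iff, Set.mem_singleton_iff] at hex
    rcases k with _ | k
    · norm_num at hex
    · rw [pow_succ] at hex; omega

/-- The stabilizer of a point in the normalizer of a regular abelian group of automorphisms of an
elementary abelian group of order `2^k` has order dividing `k`. -/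
theorem card_fix_normalizing_dvd {A : Type u} [CommGroup A] [Finite A] {k : ℕ}
    (hk : Nat.card A = 2 ^ k) (K : Subgroup (MulAut A)) (hKc : ∀ x ∈ K, ∀ y ∈ K, x * y = y * x)
    (htr : ∀ a b : A, a ≠ 1 → b ≠ 1 → ∃ x ∈ K, x a = b) (a : A) (ha : a ≠ 1)
    (L : Subgroup (MulAut A)) (hfix : ∀ l ∈ L, l a = a)
    (hnorm : ∀ l ∈ L, ∀ x ∈ K, l * x * l⁻¹ ∈ K) : Nat.card L ∣ k := by
  classical
  haveI : Nontrivial A := ⟨⟨a, 1, ha⟩⟩
  letI : CommGroup K :=
    { (inferInstance : Group K) with mul_comm := fun x y => Subtype.ext (hKc x x.2 y y.2) }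
  letI : MulDistribMulAction K A :=
    { smul := fun x b => (x : MulAut A) b
      one_smul := fun b => rfl
      mul_smul := fun x y b => rfl
      smul_mul := fun x b c => map_mul (x : MulAut A) b c
      smul_one := fun x => map_one (x : MulAut A) }
  obtain ⟨F, iF, iFt, e, χ, he, hadd, hsmul, hχi, hχs⟩ := H66.exists_field_of_regular (E := A) (K := K)
    (fun b c hb hc => by
      obtain ⟨x, hx, h⟩ := htr b c hb hc
      exact ⟨⟨x, hx⟩, h⟩)
    (fun x b hb h => by
      refine Subtype.ext (MulEquiv.ext fun c => ?_)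
      show (x : MulAut A) c = c
      by_cases hc : c = 1
      · rw [hc, map_one]
      obtain ⟨y, hy, hyc⟩ := htr b c hb hc
      rw [← hyc]
      show ((x : MulAut A) * y) b = y b
      rw [hKc _ x.2 _ hy]
      show y ((x : MulAut A) b) = y b
      rw [show (x : MulAut A) b = b from h])
  have he1 : e 1 = 0 := by
    have h := hadd 1 1
    rw [one_mul] at h
    exact add_eq_left.1 h.symm
  set c := e a
  have hc : c ≠ 0 := fun h => ha (he.injective (h.trans he1.symm))
  let E := Equiv.ofBijective e he
  -- the field automorphism attached to `l`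
  let σ₀ : L → F → F := fun l x => e ((l : MulAut A) (E.symm (x * c))) / c
  have hEc : ∀ l : L, ∀ b : A, σ₀ l (e b / c) = e ((l : MulAut A) b) / c := fun l b => by
    show e ((l : MulAut A) (E.symm (e b / c * c))) / c = _
    rw [div_mul_cancel₀ _ hc, show E.symm (e b) = b from E.symm_apply_apply b]
  have hsur : ∀ x : F, ∃ b : A, e b / c = x := fun x => ⟨E.symm (x * c), by
    rw [show e (E.symm (x * c)) = x * c from E.apply_symm_apply _, mul_div_cancel_right₀ _ hc]⟩
  have hmul0 : ∀ l : L, ∀ x y : F, σ₀ l (x * y) = σ₀ l x * σ₀ l y := by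
    intro l x y
    by_cases hx : x = 0
    · have h0 : σ₀ l 0 = 0 := by
        have h := hEc l 1
        rw [he1, map_one, he1, zero_div] at h
        exact h
      rw [hx, zero_mul, h0, zero_mul]
    obtain ⟨m, rfl⟩ := hχs x hx
    obtain ⟨b, rfl⟩ := hsur y
    set m' : K := ⟨(l : MulAut A) * m * (l : MulAut A)⁻¹, hnorm _ l.2 _ m.2⟩
    have key : ∀ d : A, σ₀ l (χ m * (e d / c)) = χ m' * σ₀ l (e d / c) := by
      intro d
      rw [← mul_div_assoc, ← hsmul, hEc, hEc, ← mul_div_assoc, ← hsmul]
      congr 2
      show (l : MulAut A) ((m : MulAut A) d) = ((l : MulAut A) * m * (l : MulAut A)⁻¹) ((l : MulAut A) d)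
      simp [MulAut.mul_apply]
    have h1 := key a
    rw [div_self hc, mul_one] at h1
    have h2 : σ₀ l 1 = 1 := by
      have h := hEc l a
      rw [div_self hc, hfix _ l.2, div_self hc] at h
      exact h
    rw [key, h1, h2, mul_one]
  have hadd0 : ∀ l : L, ∀ x y : F, σ₀ l (x + y) = σ₀ l x + σ₀ l y := by
    intro l x y
    obtain ⟨b, rfl⟩ := hsur x
    obtain ⟨d, rfl⟩ := hsur y
    rw [← add_div, ← hadd, hEc, hEc, hEc, map_mul, hadd, add_div]
  have hcomp : ∀ l m : L, ∀ x, σ₀ (l * m) x = σ₀ l (σ₀ m x) := fun l m x => by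
    obtain ⟨b, rfl⟩ := hsur x
    rw [hEc m, hEc (l * m), hEc l]
    rfl
  have hone : ∀ x, σ₀ 1 x = x := fun x => by
    obtain ⟨b, rfl⟩ := hsur x
    rw [hEc]
    rfl
  let σ : L →* (F ≃+* F) :=
    { toFun := fun l =>
        { toFun := σ₀ l
          invFun := σ₀ l⁻¹
          left_inv := fun x => by rw [← hcomp, inv_mul_cancel, hone]
          right_inv := fun x => by rw [← hcomp, mul_inv_cancel, hone]
          map_mul' := hmul0 l
          map_add' := hadd0 l }
      map_one' := RingEquiv.ext hone
      map_mul' := fun l m => RingEquiv.ext (hcomp l m) }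
  have hinj : Function.Injective σ := fun l m h => by
    refine Subtype.ext (MulEquiv.ext fun b => he.injective ?_)
    have h1 : σ₀ l (e b / c) = σ₀ m (e b / c) := RingEquiv.congr_fun h (e b / c)
    rw [hEc, hEc] at h1
    have h2 := congrArg (· * c) h1
    simpa only [div_mul_cancel₀ _ hc] using h2
  have hFk : Fintype.card F = 2 ^ k := by
    rw [← Nat.card_eq_fintype_card, ← Nat.card_congr E, hk]
  rw [← card_ringAut hFk, Nat.card_congr (MonoidHom.ofInjective hinj).toEquiv]
  exact Subgroup.card_subgroup_dvd_card σ.range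

end H70.TwoLayer
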