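import Cfsg.Agent.H70.TwoLayer.Elementary
import Cfsg.Agent.H70.TwoLayer.Field
import Cfsg.Agent.H70.AbelianSylowTwo
import Cfsg.Agent.H16.OddOrder

/-! The orbit of `t` under the normalizer of `S0 = ⟨t⟩ × V`. -/

set_option autoImplicit false
set_option linter.style.haveILetI false

namespace H70.TwoLayer

open Subgroup

universe u v

variable {G : Type u} [Group G] [Finite G] {P : Type v} [Group P] [Finite P]

local notation "C(" x ")" => Subgroup.centralizer ({x} : Set G)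

/-- an abelian 2-group `M ≥ V` inverted by `t`, with `Z = M⟨t⟩` -/
structure Level (Fr : Frame G P) (E : VElem Fr) (M : Subgroup G) where
  V_le : Fr.V ≤ M
  comm : ∀ a ∈ M, ∀ b ∈ M, a * b = b * a
  two : IsPGroup 2 M
  inv : ∀ m ∈ M, Fr.t * m * Fr.t⁻¹ = m⁻¹
  cent : ∀ m ∈ M, Fr.t * m = m * Fr.t → m ∈ Fr.V
  Z : Subgroup G
  mem_Z : ∀ x, x ∈ Z ↔ x ∈ M ∨ Fr.t * x ∈ M
  hMN : ∀ n ∈ normalizer (Z : Set G), n ∈ normalizer (M : Set G)
  honto : Nat.card M = Nat.card Fr.V → ∃ n ∈ normalizer (Z : Set G), n * Fr.t * n⁻¹ ≠ Fr.t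
  r : G
  r_C : r ∈ C(Fr.t)
  r_N : r ∈ normalizer (M : Set G)
  r_odd : Odd (orderOf r)
  r_act : ∀ v ∈ Fr.V, r * v * r⁻¹ = E.r * v * E.r⁻¹

variable {Fr : Frame G P}

theorem VElem.r_normalizes_S0 (E : VElem Fr) : E.r ∈ normalizer (Fr.S0 : Set G) :=
  mem_normalizer_of fun x hx => by
    rcases hx with h | h
    · exact Or.inl (conj_mem_of_mem_normalizer E.r_N h)
    · right
      have hc : E.r * Fr.t = Fr.t * E.r := mem_centralizer_singleton_iff.1 E.r_C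
      have := conj_mem_of_mem_normalizer E.r_N h
      rwa [← mul_assoc, hc, show Fr.t * E.r * x * E.r⁻¹ = Fr.t * (E.r * x * E.r⁻¹) by group] at this

/-- Either the orbit gives the conclusion or a first level. -/
theorem VElem.base (E : VElem Fr) :
    (∀ S : Sylow 2 G, Nat.card (S : Subgroup G) = 8 ∧ ∀ x ∈ (S : Subgroup G), x ^ 2 = 1) ∨
      Nonempty (Level Fr E Fr.V) := by
  classical
  haveI : Fact (Nat.Prime 2) := ⟨Nat.prime_two⟩
  set N := normalizer (Fr.S0 : Set G)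
  set M := N ⊓ C(Fr.t) with hM
  have hrN : E.r ∈ N := E.r_normalizes_S0
  have hcases : ∀ n ∈ N, n * Fr.t * n⁻¹ = Fr.t ∨ (n * Fr.t * n⁻¹ ∈ Fr.V ∧ n * Fr.t * n⁻¹ ≠ 1) ∨
      ∃ v ∈ Fr.V, v ≠ 1 ∧ n * Fr.t * n⁻¹ = Fr.t * v := by
    intro n hn
    have h1 : n * Fr.t * n⁻¹ ∈ Fr.S0 := conj_mem_of_mem_normalizer hn Fr.t_mem_S0
    have h2 : orderOf (n * Fr.t * n⁻¹) = 2 := (MulEquiv.orderOf_eq (MulAut.conj n) Fr.t).trans Fr.ht
    rcases Fr.invol_cases h1 h2 with h | h | ⟨v, hv, hv2, h⟩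
    · exact Or.inr (Or.inl ⟨h, H70.ne_one_of_two h2⟩)
    · exact Or.inl h
    · exact Or.inr (Or.inr ⟨v, hv, H70.ne_one_of_two hv2, h⟩)
  have hrt : ∀ j : ℕ, ∀ w : G, E.r ^ j * (Fr.t * w) * (E.r ^ j)⁻¹ = Fr.t * (E.r ^ j * w * (E.r ^ j)⁻¹) := by
    intro j w
    rw [← mul_assoc, mem_centralizer_singleton_iff.1 (pow_mem E.r_C j)]
    group
  -- a Sylow criterion
  have hsyl : ¬ 2 ∣ Fr.S0.relIndex N → ¬ 2 ∣ Fr.S0.index := by
    intro hodd h2
    obtain ⟨S, hS⟩ := Fr.S0_two.exists_le_sylow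
    have hlt : Fr.S0 < S := lt_of_le_of_ne hS fun h => S.not_dvd_index (h ▸ h2)
    obtain ⟨g, hgS, hg0, hgN⟩ := exists_mem_normalizer_of_lt S.2 hlt
    have h1 := card_le_of_isPGroup Fr.S0_two le_normalizer hodd (sup_zpowers_two S.2 hS hgS)
      (sup_le le_normalizer (zpowers_le.2 hgN))
    have he : Fr.S0 = Fr.S0 ⊔ zpowers g := eq_of_le_of_card_ge le_sup_left (Nat.le_of_dvd Nat.card_pos h1)
    exact hg0 (he.symm ▸ mem_sup_right (mem_zpowers g))
  have hMS : Fr.S0 ≤ M := le_inf le_normalizer Fr.S0_le_C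
  have hModd : ¬ 2 ∣ Fr.S0.relIndex M := fun h =>
    Fr.S0_odd (h.trans ⟨_, (relIndex_mul_relIndex _ _ _ hMS inf_le_right).symm⟩)
  by_cases hT : ∃ n ∈ N, ∃ v ∈ Fr.V, v ≠ 1 ∧ n * Fr.t * n⁻¹ = Fr.t * v
  swap
  · exfalso
    by_cases hfix : ∃ n ∈ N, n * Fr.t * n⁻¹ ≠ Fr.t
    · obtain ⟨m, hm, hmt⟩ := hfix
      obtain ⟨hv, hv1⟩ := ((hcases m hm).resolve_left hmt).resolve_right
        fun ⟨v, h⟩ => hT ⟨m, hm, v, h⟩
      set v := m * Fr.t * m⁻¹ with hvd
      obtain ⟨b, hb, hb1, hbv⟩ : ∃ b ∈ Fr.V, b ≠ 1 ∧ b ≠ v := by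
        by_contra hne
        push Not at hne
        have hsub : (Fr.V : Set G) ⊆ {1, v} := fun w hw => by
          by_cases h : w = 1
          exacts [Or.inl h, Or.inr (hne w hw h)]
        have := Set.ncard_le_ncard hsub (Set.toFinite _)
        rw [← Nat.card_coe_set_eq] at this
        have h4 := (Set.ncard_insert_le (1 : G) {v})
        rw [Set.ncard_singleton] at h4
        have := Fr.four
        simp only [SetLike.coe_sort_coe] at *
        omega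
      have hvb1 : v * b ≠ 1 := fun h => hbv (by
        rw [eq_inv_of_mul_eq_one_right h, inv_eq_of_mul_eq_one_right (E.sq v hv)])
      obtain ⟨j, hj⟩ := E.trans v hv b hb hv1 hb1
      obtain ⟨i, hi⟩ := E.trans v hv (v * b) (mul_mem hv hb) hv1 hvb1
      set n₁ := m⁻¹ * (E.r ^ j * m)
      set n₂ := m⁻¹ * (E.r ^ i * m)
      have hn₁ : n₁ ∈ N := mul_mem (inv_mem hm) (mul_mem (pow_mem hrN j) hm)
      have hn₂ : n₂ ∈ N := mul_mem (inv_mem hm) (mul_mem (pow_mem hrN i) hm)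
      have e1 : n₁ * Fr.t * n₁⁻¹ = m⁻¹ * b * m := by
        rw [← hj, hvd]; simp only [n₁]; group
      have e2 : n₂ * Fr.t * n₂⁻¹ = Fr.t * (n₁ * Fr.t * n₁⁻¹) := by
        rw [e1]
        calc n₂ * Fr.t * n₂⁻¹ = m⁻¹ * (E.r ^ i * v * (E.r ^ i)⁻¹) * m := by
              rw [hvd]; simp only [n₂]; group
          _ = m⁻¹ * (v * b) * m := by rw [hi]
          _ = _ := by rw [hvd]; group
      rcases hcases n₁ hn₁ with h | ⟨h, h'⟩ | ⟨w, hw, hw1, h⟩
      · rw [e1] at h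
        exact hbv (by rw [hvd, ← h]; group)
      · exact hT ⟨n₂, hn₂, _, h, h', e2⟩
      · exact hT ⟨n₁, hn₁, w, hw, hw1, h⟩
    push Not at hfix
    have hN : N ≤ M := fun n hn => ⟨hn, mem_centralizer_singleton_iff.2 (mul_inv_eq_iff_eq_mul.1 (hfix n hn))⟩
    have hodd : ¬ 2 ∣ Fr.S0.index := hsyl fun h => hModd ((congrArg (fun X => Fr.S0.relIndex X) (le_antisymm hN inf_le_left : N = M)) ▸ h)
    let S : Sylow 2 G := IsPGroup.toSylow Fr.S0_two hodd
    have hcomm : IsMulCommutative Fr.S0 := ⟨⟨fun a b => Subtype.ext (by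
      show (a : G) * b = b * a
      have h1 := E.S0_sq (mul_mem a.2 b.2)
      calc (a : G) * b = (a * b) * (((b : G) * a) * (b * a)) := by
            rw [E.S0_sq (mul_mem b.2 a.2), mul_one]
        _ = a * ((b : G) * b) * a * (b * a) := by group
        _ = b * a := by rw [E.S0_sq b.2, mul_one, E.S0_sq a.2, one_mul])⟩⟩
    exact H70.ne_one_of_two Fr.ht
      (H70.eq_one_of_mem_commutator_of_fixed S hcomm Fr.t_mem_S0 (Fr.hperf ▸ mem_top _) hfix)
  obtain ⟨n₀, hn₀, v₀, hv₀, hv₀1, hn₀t⟩ := hT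
  have hallT : ∀ w ∈ Fr.V, w ≠ 1 → ∃ n ∈ N, n * Fr.t * n⁻¹ = Fr.t * w := by
    intro w hw hw1
    obtain ⟨j, hj⟩ := E.trans v₀ hv₀ w hw hv₀1 hw1
    refine ⟨E.r ^ j * n₀, mul_mem (pow_mem hrN j) hn₀, ?_⟩
    rw [← hj, ← hrt, ← hn₀t]; group
  by_cases hV : ∃ n ∈ N, n * Fr.t * n⁻¹ ∈ Fr.V
  swap
  · -- the first level
    right
    have horb : ∀ n ∈ N, n * Fr.t * n⁻¹ = Fr.t ∨ ∃ v ∈ Fr.V, v ≠ 1 ∧ n * Fr.t * n⁻¹ = Fr.t * v := fun n hn =>
      (hcases n hn).imp id fun h => h.resolve_left fun h' => hV ⟨n, hn, h'.1⟩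
    refine ⟨⟨le_rfl, fun a ha b hb => E.comm ha hb, Fr.V_two, fun m hm => ?_, fun m hm _ => hm, Fr.S0,
      fun x => Iff.rfl, fun n hn => ?_, fun _ => ⟨n₀, hn₀, ?_⟩, E.r, E.r_C, E.r_N, E.r_odd, fun v _ => rfl⟩⟩
    · rw [← Fr.commute_t (Fr.V_le hm), mul_inv_cancel_right, inv_eq_of_mul_eq_one_right (E.sq m hm)]
    · refine mem_normalizer_of fun v hv => ?_
      by_cases hv1 : v = 1
      · simp [hv1, one_mem]
      obtain ⟨m, hm, hmt⟩ := hallT v hv hv1
      have hprod : n * v * n⁻¹ = (n * Fr.t * n⁻¹) * ((n * m) * Fr.t * (n * m)⁻¹) := by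
        rw [show (n * m) * Fr.t * (n * m)⁻¹ = n * (m * Fr.t * m⁻¹) * n⁻¹ by group, hmt]
        calc n * v * n⁻¹ = n * (Fr.t * Fr.t) * v * n⁻¹ := by rw [Fr.t_mul_t, mul_one]
          _ = _ := by group
      have hin : ∀ n ∈ N, ∃ a ∈ Fr.V, n * Fr.t * n⁻¹ = Fr.t * a := fun n hn => by
        rcases horb n hn with h | ⟨w, hw, -, h⟩
        · exact ⟨1, one_mem _, by rw [h, mul_one]⟩
        · exact ⟨w, hw, h⟩
      obtain ⟨a, hav, h1⟩ := hin n hn
      obtain ⟨b, hbv, h2⟩ := hin _ (mul_mem hn hm)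
      rw [hprod, h1, h2, show Fr.t * a * (Fr.t * b) = Fr.t * (a * Fr.t) * b by group,
        Fr.commute_t (Fr.V_le hav), ← mul_assoc Fr.t Fr.t a, Fr.t_mul_t, one_mul]
      exact mul_mem hav hbv
    · rw [hn₀t]; intro h; exact hv₀1 (by simpa using h)
  -- all involutions of `S0` are conjugate under its normalizer
  left
  obtain ⟨m₀, hm₀, hm₀V⟩ := hV
  have hm₀1 : m₀ * Fr.t * m₀⁻¹ ≠ 1 := fun h => H70.ne_one_of_two Fr.ht (conj_eq_one_iff.1 h)
  have honto : ∀ x ∈ Fr.S0, x ≠ 1 → ∃ n ∈ N, n * Fr.t * n⁻¹ = x := by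
    intro x hx hx1
    rcases hx with h | h
    · obtain ⟨j, hj⟩ := E.trans _ hm₀V x h hm₀1 hx1
      refine ⟨E.r ^ j * m₀, mul_mem (pow_mem hrN j) hm₀, ?_⟩
      rw [← hj]; group
    · by_cases h1 : Fr.t * x = 1
      · exact ⟨1, one_mem _, by rw [eq_inv_of_mul_eq_one_right h1, Fr.t_inv]; simp⟩
      · obtain ⟨n, hn, he⟩ := hallT _ h h1
        exact ⟨n, hn, by rw [he, ← mul_assoc, Fr.t_mul_t, one_mul]⟩
  choose m hmN hmt using honto
  have hidx : (M.subgroupOf N).index = Nat.card Fr.S0 - 1 := by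
    rw [Subgroup.index_eq_card]
    have e : Nat.card {x : Fr.S0 // x ≠ 1} = Nat.card Fr.S0 - 1 := by
      haveI := Fintype.ofFinite Fr.S0
      rw [Nat.card_eq_fintype_card, Nat.card_eq_fintype_card, Fintype.card_subtype_compl,
        Fintype.card_subtype_eq]
    rw [← e]
    refine (Nat.card_congr (Equiv.ofBijective
      (fun w : {x : Fr.S0 // x ≠ 1} =>
        ((⟨m w.1 w.1.2 (fun h => w.2 (Subtype.ext h)), hmN _ _ _⟩ : N) : N ⧸ M.subgroupOf N)) ⟨?_, ?_⟩)).symm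
    · intro a b hab
      rw [QuotientGroup.eq, mem_subgroupOf] at hab
      have hc := mem_centralizer_singleton_iff.1 (mem_inf.1 hab).2
      simp only [Subgroup.coe_mul, Subgroup.coe_inv] at hc
      refine Subtype.ext (Subtype.ext ?_)
      set ma := m a.1 a.1.2 (fun h => a.2 (Subtype.ext h))
      set mb := m b.1 b.1.2 (fun h => b.2 (Subtype.ext h))
      rw [← hmt a.1 a.1.2 (fun h => a.2 (Subtype.ext h)), ← hmt b.1 b.1.2 (fun h => b.2 (Subtype.ext h))]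
      calc ma * Fr.t * ma⁻¹ = ma * (Fr.t * (ma⁻¹ * mb)) * mb⁻¹ := by group
        _ = ma * (ma⁻¹ * mb * Fr.t) * mb⁻¹ := by rw [hc]
        _ = mb * Fr.t * mb⁻¹ := by group
    · intro q
      obtain ⟨⟨g, hg⟩, rfl⟩ := QuotientGroup.mk_surjective q
      have hgS : g * Fr.t * g⁻¹ ∈ Fr.S0 := conj_mem_of_mem_normalizer hg Fr.t_mem_S0
      have hg1 : g * Fr.t * g⁻¹ ≠ 1 := fun h => H70.ne_one_of_two Fr.ht (conj_eq_one_iff.1 h)
      refine ⟨⟨⟨_, hgS⟩, fun h => hg1 (congrArg Subtype.val h)⟩,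
        QuotientGroup.eq.2 (mem_subgroupOf.2 (mem_inf.2 ⟨?_, ?_⟩))⟩
      · exact mul_mem (inv_mem (hmN _ _ _)) hg
      · refine mem_centralizer_singleton_iff.2 ?_
        show (m _ hgS hg1)⁻¹ * g * Fr.t = Fr.t * ((m _ hgS hg1)⁻¹ * g)
        calc (m _ hgS hg1)⁻¹ * g * Fr.t = (m _ hgS hg1)⁻¹ * (g * Fr.t * g⁻¹) * g := by group
          _ = (m _ hgS hg1)⁻¹ * (m _ hgS hg1 * Fr.t * (m _ hgS hg1)⁻¹) * g := by rw [hmt _ hgS hg1]
          _ = _ := by group
  have hodd : ¬ 2 ∣ Fr.S0.index := hsyl fun h => by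
    rw [← relIndex_mul_relIndex Fr.S0 M N hMS inf_le_left] at h
    rcases Nat.prime_two.dvd_mul.1 h with h' | h'
    · exact hModd h'
    · rw [Subgroup.relIndex, hidx, Fr.card_S0] at h'
      have := Fr.four
      omega
  -- the size of `V`
  have hQ : Nat.card Fr.V = 4 := by
    letI : CommGroup Fr.S0 :=
      { (inferInstance : Group Fr.S0) with
        mul_comm := fun a b => Subtype.ext (by
          show (a : G) * b = b * a
          calc (a : G) * b = (a * b) * (((b : G) * a) * (b * a)) := by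
                rw [E.S0_sq (mul_mem b.2 a.2), mul_one]
            _ = a * ((b : G) * b) * a * (b * a) := by group
            _ = b * a := by rw [E.S0_sq b.2, mul_one, E.S0_sq a.2, one_mul]) }
    let act : N →* MulAut Fr.S0 := normalizerMonoidHom Fr.S0
    haveI : Finite (MulAut Fr.S0) := Finite.of_injective (fun f => (f : Fr.S0 → Fr.S0)) DFunLike.coe_injective
    have hact : ∀ (n : N) (a : Fr.S0), ((act n a : Fr.S0) : G) = n * a * (n : G)⁻¹ := fun n a => rfl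
    have hXodd : Odd (Nat.card act.range) := by
      rw [Nat.odd_iff, ← Nat.two_dvd_ne_zero, ← Subgroup.index_ker act]
      intro h2
      have hle : Fr.S0.subgroupOf N ≤ act.ker := by
        intro x hx
        rw [MonoidHom.mem_ker]
        refine MulEquiv.ext fun a => ?_
        show act x a = a
        have h1 : (⟨(x : G), hx⟩ : Fr.S0) * a * ⟨(x : G), hx⟩⁻¹ = a := by
          rw [mul_comm (⟨(x : G), hx⟩ : Fr.S0) a, mul_inv_cancel_right]
        exact h1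
      exact hodd (h2.trans ((Subgroup.index_dvd_of_le hle).trans
        ⟨N.index, (Subgroup.relIndex_mul_index le_normalizer).symm⟩))
    haveI hsol : Group.IsSolvable act.range := H16.FT.oddOrder hXodd
    obtain ⟨j, hj⟩ := IsPGroup.iff_card.1 Fr.S0_two
    set t' : Fr.S0 := ⟨Fr.t, Fr.t_mem_S0⟩
    have ht' : t' ≠ 1 := fun h => H70.ne_one_of_two Fr.ht (congrArg Subtype.val h)
    have hle := card_stab_le (fun a => Subtype.ext (E.S0_sq a.2)) hj act.range hsol (fun a b ha hb => by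
      have ha' : (a : G) ≠ 1 := fun h => ha (Subtype.ext h)
      have hb' : (b : G) ≠ 1 := fun h => hb (Subtype.ext h)
      refine ⟨act (⟨m _ b.2 hb' * (m _ a.2 ha')⁻¹, mul_mem (hmN _ _ _) (inv_mem (hmN _ _ _))⟩ : N),
        ⟨_, rfl⟩, Subtype.ext ?_⟩
      rw [hact]
      calc m _ b.2 hb' * (m _ a.2 ha')⁻¹ * a * (m _ b.2 hb' * (m _ a.2 ha')⁻¹)⁻¹
          = m _ b.2 hb' * ((m _ a.2 ha')⁻¹ * a * m _ a.2 ha') * (m _ b.2 hb')⁻¹ := by group
        _ = m _ b.2 hb' * Fr.t * (m _ b.2 hb')⁻¹ := by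
          congr 2
          calc (m _ a.2 ha')⁻¹ * (a : G) * m _ a.2 ha'
              = (m _ a.2 ha')⁻¹ * (m _ a.2 ha' * Fr.t * (m _ a.2 ha')⁻¹) * m _ a.2 ha' :=
                congrArg (fun y => (m _ a.2 ha')⁻¹ * y * m _ a.2 ha') (hmt _ a.2 ha').symm
            _ = Fr.t := by group
        _ = b := hmt _ b.2 hb') t' ht'
    obtain ⟨v, hv, hv1⟩ := E.exists_ne
    have hsub : Nat.card Fr.V - 1 ≤ Nat.card {x : act.range // (x : MulAut Fr.S0) t' = t'} := by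
      haveI := Fintype.ofFinite Fr.V
      have e : Nat.card {x : Fr.V // x ≠ 1} = Nat.card Fr.V - 1 := by
        rw [Nat.card_eq_fintype_card, Nat.card_eq_fintype_card, Fintype.card_subtype_compl,
          Fintype.card_subtype_eq]
      rw [← e]
      choose i hi using fun w : {x : Fr.V // x ≠ 1} =>
        E.trans v hv w.1 w.1.2 hv1 (fun h => w.2 (Subtype.ext h))
      refine Nat.card_le_card_of_injective
        (fun w => ⟨⟨act ⟨E.r ^ i w, pow_mem hrN _⟩, ⟨_, rfl⟩⟩, Subtype.ext ?_⟩) ?_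
      · rw [hact]
        show E.r ^ i w * Fr.t * (E.r ^ i w)⁻¹ = Fr.t
        rw [mem_centralizer_singleton_iff.1 (pow_mem E.r_C _), mul_inv_cancel_right]
      · intro a b h
        have h1 := congrArg (fun x => (((x.1.1 : MulAut Fr.S0) ⟨v, Fr.V_le_S0 hv⟩ : Fr.S0) : G)) h
        simp only [hact] at h1
        rw [hi a, hi b] at h1
        exact Subtype.ext (Subtype.ext h1)
    obtain ⟨k, hk⟩ := IsPGroup.iff_card.1 Fr.V_two
    have hjk : j = k + 1 := by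
      rw [Fr.card_S0, hk, ← pow_succ'] at hj
      exact (Nat.pow_right_injective le_rfl hj).symm
    have hk2 : 2 ≤ k := by
      by_contra h
      have := Fr.four
      interval_cases k <;> simp_all
    rcases Nat.lt_or_ge k 3 with h | h
    · rw [hk, show k = 2 by omega]; norm_num
    · exfalso
      have h3 : k + 3 ≤ 2 ^ k := by
        obtain ⟨i, rfl⟩ : ∃ i, k = i + 3 := ⟨k - 3, by omega⟩
        have := Nat.lt_two_pow_self (n := i)
        rw [pow_add]; omega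
      omega
  intro S
  let S' : Sylow 2 G := IsPGroup.toSylow Fr.S0_two hodd
  obtain ⟨g, hg⟩ := MulAction.exists_smul_eq G S' S
  have hS : (S : Subgroup G) = H70.cj g Fr.S0 := by rw [← hg, Sylow.coe_subgroup_smul]; rfl
  rw [hS]
  refine ⟨by rw [H70.card_cj, Fr.card_S0, hQ], ?_⟩
  rintro _ ⟨a, ha, rfl⟩
  rw [← map_pow, pow_two, E.S0_sq ha, map_one]

end H70.TwoLayer
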