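import Cfsg.Agent.H70.TwoLayer.FrameFacts
import Cfsg.Agent.H70.ThreeInvol

/-! The case of a dihedral Sylow subgroup of order at least eight: it does not occur. -/

set_option autoImplicit false
set_option linter.style.haveILetI false

namespace H70.TwoLayer

open Subgroup

universe u v

variable {G : Type u} [Group G] [Finite G] {P : Type v} [Group P] [Finite P]

local notation "C(" x ")" => Subgroup.centralizer ({x} : Set G)

/-- the structure of `V` in the dihedral case -/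
structure VDih (Fr : Frame G P) where
  R : Subgroup G
  R_le : R ≤ Fr.V
  r : G
  zp : zpowers r = R
  four_dvd : 4 ∣ orderOf r
  card : Nat.card Fr.V = 2 * orderOf r
  out : ∀ x ∈ Fr.V, x ∉ R → x * x = 1
  outMul : ∀ x ∈ Fr.V, ∀ y ∈ Fr.V, x ∉ R → y ∉ R → x * y ∈ R
  s : G
  s_mem : s ∈ Fr.V
  s_not : s ∉ R
  z : G
  z_mem : z ∈ R
  z_two : orderOf z = 2
  z_unique : ∀ x ∈ R, x * x = 1 → x = 1 ∨ x = z
  klein : ∀ W ≤ Fr.V, Nat.card W = 4 → (∀ w ∈ W, w * w = 1) →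
    ∃ k ∈ Fr.ME, k ∈ normalizer (W : Set G) ∧ ∀ w ∈ W, w ≠ 1 → k * w * k⁻¹ ≠ w

theorem Frame.exists_vdih (Fr : Frame G P) (hD : DihData Fr.D) : Nonempty (VDih Fr) := by
  classical
  obtain ⟨h8, ⟨R₀, hR₀, hcyc, hcard, hout⟩, hklein⟩ := hD
  haveI : Fact (Nat.Prime 2) := ⟨Nat.prime_two⟩
  let φ : Fr.V → Fr.D := fun v => ⟨Fr.f v, Fr.f_mem v v.2⟩
  have hinj : ∀ x ∈ Fr.V, ∀ y ∈ Fr.V, Fr.f x = Fr.f y → x = y := fun x hx y hy h =>
    Fr.f_inj Fr.V_le Fr.V_two hx hy h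
  let R : Subgroup G :=
    { carrier := {x | x ∈ Fr.V ∧ Fr.f x ∈ R₀}
      one_mem' := ⟨one_mem _, Fr.f_one.symm ▸ one_mem _⟩
      mul_mem' := fun {a b} ha hb => ⟨mul_mem ha.1 hb.1, by
        rw [Fr.f_mul _ (Fr.V_le ha.1) _ (Fr.V_le hb.1)]; exact mul_mem ha.2 hb.2⟩
      inv_mem' := fun {a} ha => ⟨inv_mem ha.1, by rw [Fr.f_inv (Fr.V_le ha.1)]; exact inv_mem ha.2⟩ }
  have hRV : R ≤ Fr.V := fun x hx => hx.1
  have hRc : Nat.card R = Nat.card R₀ := by
    refine Nat.card_congr (Equiv.ofBijective (fun x => (⟨Fr.f x, x.2.2⟩ : R₀)) ⟨?_, ?_⟩)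
    · exact fun a b h => Subtype.ext (hinj _ a.2.1 _ b.2.1 (congrArg Subtype.val h))
    · rintro ⟨d, hd⟩
      obtain ⟨v, hv, he⟩ := Fr.f_onto d (hR₀ hd)
      exact ⟨⟨v, hv, he.symm ▸ hd⟩, Subtype.ext he⟩
  obtain ⟨⟨ρ, hρ⟩, hgen⟩ := IsCyclic.exists_generator (α := R₀)
  obtain ⟨r, hr, hfr⟩ := Fr.f_onto ρ (hR₀ hρ)
  have hrR : r ∈ R := ⟨hr, hfr.symm ▸ hρ⟩
  have hzp : zpowers r = R := by
    refine le_antisymm (zpowers_le.2 hrR) fun x hx => ?_
    obtain ⟨k, hk⟩ := mem_zpowers_iff.1 (hgen ⟨Fr.f x, hx.2⟩)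
    refine mem_zpowers_iff.2 ⟨k, hinj _ (zpow_mem hr k) _ hx.1 ?_⟩
    have h1 : Fr.f (r ^ k) = ρ ^ k := by
      rw [← hfr]
      exact map_zpow Fr.hom ⟨r, Fr.V_le hr⟩ k
    rw [h1]
    exact congrArg Subtype.val hk
  have hord : orderOf r = Nat.card R₀ := by rw [← hRc, ← hzp, Nat.card_zpowers]
  have hVc : Nat.card Fr.V = 2 * orderOf r := by rw [Fr.card_V, hcard, hord]
  have h4 : 4 ∣ orderOf r := by
    obtain ⟨k, hk⟩ := IsPGroup.iff_orderOf.1 Fr.V_two ⟨r, hr⟩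
    rw [Subgroup.orderOf_mk] at hk
    have : 4 ≤ 2 ^ k := by rw [← hk]; rw [Fr.card_V.symm.trans hVc] at h8; omega
    obtain ⟨j, rfl⟩ : ∃ j, k = j + 2 := ⟨k - 2, by
      rcases k with _ | _ | k <;> simp at this ⊢⟩
    exact hk.symm ▸ ⟨2 ^ j, by rw [pow_add]; ring⟩
  have hpos := orderOf_pos r
  set z := r ^ (orderOf r / 2) with hz
  have hz2 : orderOf z = 2 := by
    rw [hz, orderOf_pow_of_dvd (by omega) (Nat.div_dvd_of_dvd (by omega))]
    obtain ⟨j, hj⟩ := h4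
    rw [show orderOf r / 2 = 2 * j by omega, show orderOf r = 2 * (2 * j) by omega]
    exact Nat.mul_div_cancel _ (by omega)
  have huniq : ∀ x ∈ R, x * x = 1 → x = 1 ∨ x = z := by
    intro x hx hx2
    rw [← hzp, mem_zpowers_iff] at hx
    obtain ⟨k, rfl⟩ := hx
    rw [← zpow_add, ← orderOf_dvd_iff_zpow_eq_one] at hx2
    obtain ⟨j, hj⟩ := h4
    have hd : ((orderOf r / 2 : ℕ) : ℤ) ∣ k := by
      rw [show orderOf r / 2 = 2 * j by omega]
      obtain ⟨c, hc⟩ := hx2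
      refine ⟨c, ?_⟩
      rw [hj] at hc
      push_cast at hc ⊢
      linarith
    obtain ⟨c, rfl⟩ := hd
    rw [zpow_mul, zpow_natCast, ← hz]
    rcases Int.even_or_odd c with ⟨d, rfl⟩ | ⟨d, rfl⟩
    · left
      rw [← two_mul, zpow_mul, zpow_two, H70.mul_self_of_two hz2, one_zpow]
    · right
      rw [zpow_add, zpow_one, zpow_mul, zpow_two, H70.mul_self_of_two hz2, one_zpow, one_mul]
  obtain ⟨s, hs, hsR⟩ : ∃ s ∈ Fr.V, s ∉ R := by
    by_contra h
    push Not at h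
    have := Subgroup.card_le_of_le (show Fr.V ≤ R from h)
    rw [hRc, hVc, ← hord] at this
    omega
  have houtMul : ∀ x ∈ Fr.V, ∀ y ∈ Fr.V, x ∉ R → y ∉ R → x * y ∈ R := by
    intro x hx y hy hxR hyR
    have hidx : (R.subgroupOf Fr.V).index = 2 := by
      have h := (R.subgroupOf Fr.V).card_mul_index
      rw [Nat.card_congr (subgroupOfEquivOfLe hRV).toEquiv, hRc, hVc, ← hord, mul_comm 2] at h
      exact Nat.eq_of_mul_eq_mul_left hpos h
    exact (Subgroup.mul_mem_iff_of_index_two hidx (a := ⟨x, hx⟩) (b := ⟨y, hy⟩)).2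
      (iff_of_false hxR hyR)
  refine ⟨⟨R, hRV, r, hzp, h4, hVc, fun x hx hxR => ?_, houtMul, s, hs, hsR, z,
    hzp ▸ npow_mem_zpowers _ _, hz2, huniq, fun W hW hWc hW2 => ?_⟩⟩
  · refine hinj _ (mul_mem hx hx) _ (one_mem _) ?_
    rw [Fr.f_mul _ (Fr.V_le hx) _ (Fr.V_le hx), Fr.f_one]
    exact hout _ (Fr.f_mem x hx) fun h => hxR ⟨hx, h⟩
  · have hWM : W ≤ Fr.ME := hW.trans Fr.V_le
    let W' : Subgroup P := (W.subgroupOf Fr.ME).map Fr.hom
    have hmem : ∀ p, p ∈ W' ↔ ∃ w ∈ W, Fr.f w = p := by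
      intro p
      constructor
      · rintro ⟨⟨w, hwM⟩, hw, rfl⟩; exact ⟨w, hw, rfl⟩
      · rintro ⟨w, hw, rfl⟩; exact ⟨⟨w, hWM hw⟩, hw, rfl⟩
    have hW'D : W' ≤ Fr.D := fun p hp => by
      obtain ⟨w, hw, rfl⟩ := (hmem p).1 hp; exact Fr.f_mem w (hW hw)
    have hW'c : Nat.card W' = 4 := by
      rw [← hWc]
      refine (Nat.card_congr (Equiv.ofBijective
        (fun w : W => (⟨Fr.f w, (hmem _).2 ⟨w, w.2, rfl⟩⟩ : W')) ⟨?_, ?_⟩)).symm
      · exact fun a b h => Subtype.ext (hinj _ (hW a.2) _ (hW b.2) (congrArg Subtype.val h))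
      · rintro ⟨p, hp⟩
        obtain ⟨w, hw, rfl⟩ := (hmem p).1 hp
        exact ⟨⟨w, hw⟩, rfl⟩
    haveI : Nontrivial W' := Finite.one_lt_card_iff_nontrivial.1 (by omega)
    have hexp : Monoid.exponent W' = 2 := by
      refine Monoid.exponent_eq_prime_iff Nat.prime_two |>.2 fun g hg => ?_
      refine orderOf_eq_prime ?_ hg
      obtain ⟨w, hw, he⟩ := (hmem _).1 g.2
      refine Subtype.ext ?_
      rw [pow_two]
      show (g : P) * g = 1
      rw [← he, ← Fr.f_mul _ (hWM hw) _ (hWM hw), hW2 w hw, Fr.f_one]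
    obtain ⟨p, hp, hfpf⟩ := hklein W' hW'D ⟨hW'c, hexp⟩
    obtain ⟨k, hk, hkN, hkf⟩ := Fr.lift_normalizer hW (p := p) fun w hw => by
      obtain ⟨w', hw', he⟩ := (hmem _).1 (conj_mem_of_mem_normalizer hp ((hmem _).2 ⟨w, hw, rfl⟩))
      exact ⟨w', hw', he⟩
    refine ⟨k, hk, hkN, fun w hw hw1 he => ?_⟩
    refine hfpf _ ((hmem _).2 ⟨w, hw, rfl⟩) (fun h => hw1 (hinj _ (hW hw) _ (one_mem _) (h.trans Fr.f_one.symm))) ?_
    rw [← hkf w hw, he]

section

variable {Fr : Frame G P} (Z : VDih Fr)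

theorem VDih.z_V : Z.z ∈ Fr.V := Z.R_le Z.z_mem

theorem VDih.r_mem : Z.r ∈ Z.R := Z.zp ▸ mem_zpowers _

theorem VDih.R_comm {x y : G} (hx : x ∈ Z.R) (hy : y ∈ Z.R) : x * y = y * x := by
  rw [← Z.zp, mem_zpowers_iff] at hx hy
  obtain ⟨i, rfl⟩ := hx
  obtain ⟨j, rfl⟩ := hy
  rw [← zpow_add, ← zpow_add, add_comm]

theorem VDih.out_inv {x : G} (hx : x ∈ Fr.V) (hxR : x ∉ Z.R) {y : G} (hy : y ∈ Z.R) :
    x * y * x⁻¹ = y⁻¹ := by
  have h1 : x * y ∉ Z.R := fun h => hxR (by simpa using mul_mem h (inv_mem hy))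
  have h2 := Z.out _ (mul_mem hx (Z.R_le hy)) h1
  have h3 : x⁻¹ = x := (eq_inv_of_mul_eq_one_left (Z.out x hx hxR)).symm
  rw [h3, eq_inv_iff_mul_eq_one]
  simpa [mul_assoc] using h2

theorem VDih.z_central {x : G} (hx : x ∈ Fr.V) : x * Z.z = Z.z * x := by
  by_cases hxR : x ∈ Z.R
  · exact Z.R_comm hxR Z.z_mem
  · have h := Z.out_inv hx hxR Z.z_mem
    rw [H70.inv_eq_self_of_two Z.z_two] at h
    exact mul_inv_eq_iff_eq_mul.1 h

theorem VDih.z_central_S0 {x : G} (hx : x ∈ Fr.S0) : x * Z.z = Z.z * x := by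
  rcases hx with hx | hx
  · exact Z.z_central hx
  · have h := Z.z_central hx
    rw [mul_assoc, ← mul_assoc Z.z, Fr.commute_t (Fr.V_le Z.z_V), mul_assoc] at h
    exact mul_left_cancel h

theorem VDih.exists_sqrt : ∃ y ∈ Fr.V, y * y = Z.z := by
  obtain ⟨j, hj⟩ := Z.four_dvd
  refine ⟨Z.r ^ j, pow_mem (Z.R_le Z.r_mem) j, ?_⟩
  have hpos := orderOf_pos Z.r
  have h2 : orderOf (Z.r ^ (j + j)) = 2 := by
    rw [orderOf_pow_of_dvd (by omega) ⟨2, by omega⟩, hj]
    exact Nat.div_eq_of_eq_mul_left (by omega) (by omega)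
  rw [← pow_add]
  refine (Z.z_unique _ (pow_mem Z.r_mem _) (H70.mul_self_of_two h2)).resolve_left fun h => ?_
  rw [h, orderOf_one] at h2
  omega

theorem VDih.sq_eq_z {x : G} (hx : x ∈ Fr.S0) (h : orderOf (x * x) = 2) : x * x = Z.z := by
  have key : ∀ v ∈ Fr.V, orderOf (v * v) = 2 → v * v = Z.z := by
    intro v hv h
    by_cases hvR : v ∈ Z.R
    · refine (Z.z_unique _ (mul_mem hvR hvR) (H70.mul_self_of_two h)).resolve_left fun he => ?_
      rw [he, orderOf_one] at h; omega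
    · rw [Z.out v hv hvR, orderOf_one] at h; omega
  rcases hx with hx' | hx'
  · exact key x hx' h
  · have hc : x * Fr.t = Fr.t * x := mem_centralizer_singleton_iff.1 (Fr.S0_le_C (Or.inr hx'))
    have he : (Fr.t * x) * (Fr.t * x) = x * x := by
      calc Fr.t * x * (Fr.t * x) = Fr.t * (x * Fr.t) * x := by group
        _ = Fr.t * Fr.t * (x * x) := by rw [hc]; group
        _ = _ := by rw [Fr.t_mul_t, one_mul]
    rw [← he] at h ⊢
    exact key _ hx' h

theorem VDih.fix_z {g : G} (hg : g ∈ normalizer (Fr.S0 : Set G)) : g * Z.z * g⁻¹ = Z.z := by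
  obtain ⟨y, hy, hyz⟩ := Z.exists_sqrt
  rw [← hyz, show g * (y * y) * g⁻¹ = (g * y * g⁻¹) * (g * y * g⁻¹) by group]
  rw [hyz]
  refine (Z.sq_eq_z (conj_mem_of_mem_normalizer hg (Fr.V_le_S0 hy)) ?_).trans rfl
  rw [show (g * y * g⁻¹) * (g * y * g⁻¹) = g * (y * y) * g⁻¹ by group, hyz]
  exact (MulEquiv.orderOf_eq (MulAut.conj g) Z.z).trans Z.z_two

theorem VDih.invol_conj_z {x : G} (hx : x ∈ Fr.V) (h2 : orderOf x = 2) : IsConj Z.z x := by
  obtain ⟨c, -, he⟩ := Fr.invol_conj (Fr.V_le Z.z_V) Z.z_two (Fr.V_le hx) h2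
  exact isConj_iff.2 ⟨c, he⟩

theorem VDih.out_two {x : G} (hx : x ∈ Fr.V) (hxR : x ∉ Z.R) : orderOf x = 2 := by
  haveI : Fact (Nat.Prime 2) := ⟨Nat.prime_two⟩
  exact orderOf_eq_prime (by rw [pow_two]; exact Z.out x hx hxR) fun h => hxR (h ▸ one_mem _)

/-- central involutions of `S0` -/
theorem VDih.central_cases {x : G} (hx : x ∈ Fr.S0) (h2 : orderOf x = 2)
    (hc : ∀ y ∈ Fr.S0, x * y = y * x) : x = Fr.t ∨ x = Z.z ∨ x = Fr.t * Z.z := by
  have key : ∀ v ∈ Fr.V, orderOf v = 2 → (∀ y ∈ Fr.V, v * y = y * v) → v = Z.z := by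
    intro v hv hv2 hvc
    by_cases hvR : v ∈ Z.R
    · exact (Z.z_unique v hvR (H70.mul_self_of_two hv2)).resolve_left (H70.ne_one_of_two hv2)
    · exfalso
      have h := Z.out_inv hv hvR Z.r_mem
      rw [hvc _ (Z.R_le Z.r_mem), mul_inv_cancel_right, eq_inv_iff_mul_eq_one] at h
      have hd : orderOf Z.r ∣ 2 := orderOf_dvd_of_pow_eq_one (by rw [pow_two]; exact h)
      have := Nat.le_of_dvd two_pos hd
      obtain ⟨j, hj⟩ := Z.four_dvd
      have := orderOf_pos Z.r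
      omega
  rcases Fr.invol_cases hx h2 with h | h | ⟨v, hv, hv2, rfl⟩
  · exact Or.inr (Or.inl (key x h h2 fun y hy => hc y (Fr.V_le_S0 hy)))
  · exact Or.inl h
  · refine Or.inr (Or.inr ?_)
    rw [key v hv hv2 fun y hy => ?_]
    have h := hc y (Fr.V_le_S0 hy)
    rw [mul_assoc, ← mul_assoc y, Fr.commute_t (Fr.V_le hy), mul_assoc] at h
    exact mul_left_cancel h

include Z in
/-- `S0` is not a Sylow subgroup of `G` -/
theorem VDih.two_dvd : 2 ∣ Fr.S0.index := by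
  by_contra hodd
  haveI : Fact (Nat.Prime 2) := ⟨Nat.prime_two⟩
  have key : ∀ w ∈ Fr.S0, orderOf w = 2 → (∀ y ∈ Fr.S0, w * y = y * w) → IsConj Fr.t w → w = Fr.t := by
    intro w hw hw2 hwc hcj
    obtain ⟨g, hg⟩ := isConj_iff.1 hcj
    have hle1 : H70.cj g Fr.S0 ≤ C(w) := by
      rw [← hg, ← cj_centralizer]; exact H70.cj_mono g Fr.S0_le_C
    have hle2 : Fr.S0 ≤ C(w) := fun y hy => mem_centralizer_singleton_iff.2 (hwc y hy).symm
    have hodd' : ¬ 2 ∣ Fr.S0.relIndex C(w) := fun h =>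
      hodd (h.trans ⟨_, (Subgroup.relIndex_mul_index hle2).symm⟩)
    obtain ⟨h, hh, hle⟩ := exists_cj_le_of_odd Fr.S0_two hle2 hodd' (Fr.S0_two.map _) hle1
    rw [H70.cj_cj] at hle
    set n := h * g
    have hn : n ∈ normalizer (Fr.S0 : Set G) := H70.cj_eq_self_iff.1 (H70.eq_of_cj_le hle)
    have hnt : n * Fr.t * n⁻¹ = w := by
      calc n * Fr.t * n⁻¹ = h * (g * Fr.t * g⁻¹) * h⁻¹ := by simp [n, mul_assoc]
        _ = h * w * h⁻¹ := by rw [hg]
        _ = w := by rw [mem_centralizer_singleton_iff.1 hh, mul_inv_cancel_right]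
    rcases Z.central_cases hw hw2 hwc with rfl | rfl | rfl
    · rfl
    · exfalso
      have := Z.fix_z hn
      rw [← hnt] at this
      have h1 := mul_left_cancel (mul_right_cancel this)
      rw [hnt] at h1
      exact Fr.t_not_V (h1 ▸ Z.z_V)
    · exfalso
      obtain ⟨a, m, hm, hom, -⟩ := exists_odd_power n
      have hsq : n * (Fr.t * Z.z) * n⁻¹ = Fr.t := by
        calc n * (Fr.t * Z.z) * n⁻¹ = (n * Fr.t * n⁻¹) * (n * Z.z * n⁻¹) := by group
          _ = _ := by rw [hnt, Z.fix_z hn, mul_assoc, H70.mul_self_of_two Z.z_two, mul_one]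
      have hpow : ∀ i : ℕ, (n ^ i) * Fr.t * (n ^ i)⁻¹ = if Even i then Fr.t else Fr.t * Z.z := by
        intro i
        induction i with
        | zero => simp
        | succ i ih =>
          rw [pow_succ', mul_inv_rev, show n * n ^ i * Fr.t * ((n ^ i)⁻¹ * n⁻¹) =
            n * (n ^ i * Fr.t * (n ^ i)⁻¹) * n⁻¹ by group, ih]
          by_cases he : Even i
          · rw [if_pos he, if_neg (by simp [Nat.even_add_one, he]), hnt]
          · rw [if_neg he, if_pos (by simp [Nat.even_add_one, he]), hsq]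
      have hm' : n ^ m ∈ normalizer (Fr.S0 : Set G) := pow_mem hn m
      have h2 : IsPGroup 2 (zpowers (n ^ m)) := by
        refine IsPGroup.of_card (n := a) ?_
        rw [Nat.card_zpowers, orderOf_pow, hom, Nat.gcd_eq_right (dvd_mul_left _ _),
          Nat.mul_div_cancel _ (by obtain ⟨j, rfl⟩ := hm; omega)]
      have hsup : IsPGroup 2 (zpowers (n ^ m) ⊔ Fr.S0 : Subgroup G) :=
        IsPGroup.to_sup_of_normal_right' h2 Fr.S0_two (zpowers_le.2 hm')
      let S : Sylow 2 G := IsPGroup.toSylow Fr.S0_two hodd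
      have hS : (zpowers (n ^ m) ⊔ Fr.S0 : Subgroup G) = Fr.S0 := S.is_maximal' hsup le_sup_right
      have hnS : n ^ m ∈ Fr.S0 := hS ▸ mem_sup_left (mem_zpowers _)
      have h3 := hpow m
      rw [if_neg (Nat.not_even_iff_odd.2 hm), mem_centralizer_singleton_iff.1 (Fr.S0_le_C hnS),
        mul_inv_cancel_right] at h3
      exact H70.ne_one_of_two Z.z_two (mul_left_cancel ((mul_one Fr.t).trans h3)).symm
  have hz : ¬ IsConj Fr.t Z.z := fun h =>
    Fr.t_not_V (key _ (Fr.V_le_S0 Z.z_V) Z.z_two (fun y hy => (Z.z_central_S0 hy).symm) h ▸ Z.z_V)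
  refine Fr.no_transfer Fr.S0_two hodd Fr.V_le_S0 ?_ fun x hx hcj => ?_
  · have h := (Fr.V.subgroupOf Fr.S0).card_mul_index
    rw [Nat.card_congr (subgroupOfEquivOfLe Fr.V_le_S0).toEquiv, Fr.card_S0, mul_comm 2] at h
    exact Nat.eq_of_mul_eq_mul_left Nat.card_pos h
  · have h2 : orderOf x = 2 := by
      obtain ⟨g, rfl⟩ := isConj_iff.1 hcj
      exact (MulEquiv.orderOf_eq (MulAut.conj g) Fr.t).trans Fr.ht
    exact hz (hcj.trans (Z.invol_conj_z hx h2).symm)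

/-- a 2-subgroup strictly over `S0` provides a normalizing element sending `t` to `tz` -/
theorem VDih.exists_swap : ∃ (S : Subgroup G) (g : G), IsPGroup 2 S ∧ ¬ 2 ∣ S.index ∧ Fr.S0 < S ∧
    g ∈ S ∧ g ∉ Fr.S0 ∧ g ∈ normalizer (Fr.S0 : Set G) ∧ g * Fr.t * g⁻¹ = Fr.t * Z.z := by
  haveI : Fact (Nat.Prime 2) := ⟨Nat.prime_two⟩
  obtain ⟨S, hS⟩ := Fr.S0_two.exists_le_sylow
  have hlt : Fr.S0 < S := lt_of_le_of_ne hS fun h => S.not_dvd_index (h ▸ Z.two_dvd)
  obtain ⟨g, hgS, hg0, hgN⟩ := exists_mem_normalizer_of_lt S.2 hlt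
  refine ⟨S, g, S.2, S.not_dvd_index, hlt, hgS, hg0, hgN, ?_⟩
  have hgC : g ∉ C(Fr.t) := by
    intro hgC
    have h1 := Fr.two_bound (sup_zpowers_two S.2 hS hgS) (IsConj.refl _)
      (sup_le Fr.S0_le_C (zpowers_le.2 hgC))
    rw [← Fr.card_S0] at h1
    have he : Fr.S0 = Fr.S0 ⊔ zpowers g := eq_of_le_of_card_ge le_sup_left (Nat.le_of_dvd Nat.card_pos h1)
    exact hg0 (he.symm ▸ mem_sup_right (mem_zpowers g))
  have hw : g * Fr.t * g⁻¹ ∈ Fr.S0 := conj_mem_of_mem_normalizer hgN Fr.t_mem_S0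
  have hwc : ∀ y ∈ Fr.S0, g * Fr.t * g⁻¹ * y = y * (g * Fr.t * g⁻¹) := by
    intro y hy
    have hy' : g⁻¹ * y * g ∈ Fr.S0 := by
      simpa using conj_mem_of_mem_normalizer (inv_mem hgN) hy
    have h : g⁻¹ * y * g * Fr.t = Fr.t * (g⁻¹ * y * g) :=
      mem_centralizer_singleton_iff.1 (Fr.S0_le_C hy')
    calc g * Fr.t * g⁻¹ * y = g * (Fr.t * (g⁻¹ * y * g)) * g⁻¹ := by group
      _ = g * (g⁻¹ * y * g * Fr.t) * g⁻¹ := by rw [h]
      _ = _ := by group
  rcases Z.central_cases hw ((MulEquiv.orderOf_eq (MulAut.conj g) Fr.t).trans Fr.ht) hwc with h | h | h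
  · exact absurd (mem_centralizer_singleton_iff.2 (mul_inv_eq_iff_eq_mul.1 h)) hgC
  · exfalso
    have h2 := Z.fix_z hgN
    rw [← h] at h2
    have h3 := mul_left_cancel (mul_right_cancel h2)
    rw [h] at h3
    exact Fr.t_not_V (h3 ▸ Z.z_V)
  · exact h

include Z in
theorem VDih.isConj_iff_t {x : G} (hx : x ∈ Fr.S0) :
    IsConj Fr.t x ↔ x = Fr.t ∨ ∃ v ∈ Fr.V, orderOf v = 2 ∧ x = Fr.t * v := by
  obtain ⟨S, g, hS, -, hlt, hgS, hg0, hgN, hg⟩ := Z.exists_swap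
  have hne : ¬ IsConj Fr.t Z.z := by
    refine Fr.not_conj_of_centralizer (sup_zpowers_two hS hlt.le hgS) (sup_le
      (fun y hy => mem_centralizer_singleton_iff.2 (Z.z_central_S0 hy))
      (zpowers_le.2 (mem_centralizer_singleton_iff.2 (mul_inv_eq_iff_eq_mul.1 (Z.fix_z hgN))))) ?_
    rw [← Fr.card_S0]
    by_contra hle
    have he : Fr.S0 = Fr.S0 ⊔ zpowers g := eq_of_le_of_card_ge le_sup_left (Nat.not_lt.1 hle)
    exact hg0 (he.symm ▸ mem_sup_right (mem_zpowers g))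
  constructor
  · intro h
    have h2 : orderOf x = 2 := by
      obtain ⟨c, rfl⟩ := isConj_iff.1 h
      exact (MulEquiv.orderOf_eq (MulAut.conj c) Fr.t).trans Fr.ht
    rcases Fr.invol_cases hx h2 with h' | h'
    · exact absurd (h.trans (Z.invol_conj_z h' h2).symm) hne
    · exact h'
  · rintro (rfl | ⟨v, hv, hv2, rfl⟩)
    · exact IsConj.refl _
    · exact (isConj_iff.2 ⟨g, hg⟩ : IsConj Fr.t (Fr.t * Z.z)).trans (Fr.tv_conj Z.z_V Z.z_two hv hv2)

/-- the four-group `{1, z, x, xz}` -/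
theorem VDih.exists_four : ∃ W : Subgroup G, W ≤ Fr.V ∧ Nat.card W = 4 ∧ (∀ w ∈ W, w * w = 1) ∧ Z.z ∈ W := by
  classical
  have hs2 := Z.out Z.s Z.s_mem Z.s_not
  have hzz := H70.mul_self_of_two Z.z_two
  have hc := Z.z_central Z.s_mem
  have hsz : Z.s * Z.z * (Z.s * Z.z) = 1 := by
    calc Z.s * Z.z * (Z.s * Z.z) = Z.s * (Z.z * Z.s) * Z.z := by group
      _ = (Z.s * Z.s) * (Z.z * Z.z) := by rw [← hc]; group
      _ = 1 := by rw [hs2, hzz, one_mul]
  let W : Subgroup G :=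
    { carrier := {x | x ∈ Fr.V ∧ x * x = 1 ∧ (x ∈ Z.R ∨ x * Z.s ∈ Z.R) ∧ x * Z.s = Z.s * x}
      one_mem' := ⟨one_mem _, mul_one 1, Or.inl (one_mem _), by rw [one_mul, mul_one]⟩
      mul_mem' := by
        rintro a b ⟨ha, ha2, haR, hac⟩ ⟨hb, hb2, hbR, hbc⟩
        have hab : a * b = b * a := by
          rcases haR with haR | haR
          · rcases Z.z_unique a haR ha2 with rfl | rfl
            · rw [one_mul, mul_one]
            · exact (Z.z_central hb).symm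
          · rcases hbR with hbR | hbR
            · rcases Z.z_unique b hbR hb2 with rfl | rfl
              · rw [one_mul, mul_one]
              · exact Z.z_central ha
            · have h1 : a * Z.s * (b * Z.s) = b * Z.s * (a * Z.s) := Z.R_comm haR hbR
              rw [show a * Z.s * (b * Z.s) = a * (Z.s * b) * Z.s by group,
                show b * Z.s * (a * Z.s) = b * (Z.s * a) * Z.s by group, ← hbc, ← hac,
                show a * (b * Z.s) * Z.s = a * b * (Z.s * Z.s) by group,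
                show b * (a * Z.s) * Z.s = b * a * (Z.s * Z.s) by group, hs2, mul_one, mul_one] at h1
              exact h1
        refine ⟨mul_mem ha hb, ?_, ?_, by rw [mul_assoc, hbc, ← mul_assoc, hac, mul_assoc]⟩
        · calc a * b * (a * b) = a * (b * a) * b := by group
            _ = (a * a) * (b * b) := by rw [← hab]; group
            _ = 1 := by rw [ha2, hb2, one_mul]
        · rcases haR with haR | haR <;> rcases hbR with hbR | hbR
          · exact Or.inl (mul_mem haR hbR)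
          · exact Or.inr (by rw [mul_assoc]; exact mul_mem haR hbR)
          · refine Or.inr ?_
            rw [mul_assoc, hbc, ← mul_assoc]; exact mul_mem haR hbR
          · refine Or.inl ?_
            have h := mul_mem haR hbR
            rw [show a * Z.s * (b * Z.s) = a * (Z.s * b) * Z.s by group, ← hbc,
              show a * (b * Z.s) * Z.s = a * b * (Z.s * Z.s) by group, hs2, mul_one] at h
            exact h
      inv_mem' := by
        rintro a ⟨ha, ha2, haR, hac⟩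
        rw [inv_eq_of_mul_eq_one_right ha2]
        exact ⟨ha, ha2, haR, hac⟩ }
  have hzW : Z.z ∈ W := ⟨Z.z_V, hzz, Or.inl Z.z_mem, hc.symm⟩
  refine ⟨W, fun x hx => hx.1, ?_, fun x hx => hx.2.1, hzW⟩
  have hsW : Z.s ∈ W := ⟨Z.s_mem, hs2, Or.inr (hs2.symm ▸ one_mem _), rfl⟩
  have hz1 := H70.ne_one_of_two Z.z_two
  have hs1 : Z.s ≠ 1 := fun h => Z.s_not (h ▸ one_mem _)
  have hsz' : Z.s ≠ Z.z := fun h => Z.s_not (h ▸ Z.z_mem)
  have hall : ∀ x ∈ W, x = 1 ∨ x = Z.z ∨ x = Z.s ∨ x = Z.s * Z.z := by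
    rintro x ⟨hx, hx2, hxR | hxR, hxc⟩
    · rcases Z.z_unique x hxR hx2 with h | h
      · exact Or.inl h
      · exact Or.inr (Or.inl h)
    · have h2 : x * Z.s * (x * Z.s) = 1 := by
        calc x * Z.s * (x * Z.s) = x * (Z.s * x) * Z.s := by group
          _ = (x * x) * (Z.s * Z.s) := by rw [← hxc]; group
          _ = 1 := by rw [hx2, hs2, one_mul]
      rcases Z.z_unique _ hxR h2 with h | h
      · right; right; left
        rw [mul_eq_one_iff_eq_inv.1 h, inv_eq_of_mul_eq_one_right hs2]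
      · right; right; right
        calc x = x * (Z.s * Z.s) := by rw [hs2, mul_one]
          _ = x * Z.s * Z.s := by group
          _ = Z.z * Z.s := by rw [h]
          _ = _ := hc.symm
  rw [show Nat.card W = Nat.card ((W : Set G) : Type u) from rfl, Nat.card_coe_set_eq,
    show (W : Set G) = ↑({1, Z.z, Z.s, Z.s * Z.z} : Finset G) by
      ext x
      constructor
      · intro hx; simpa using hall x hx
      · intro hx
        simp at hx
        rcases hx with rfl | rfl | rfl | rfl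
        exacts [one_mem W, hzW, hsW, mul_mem hsW hzW], Set.ncard_coe_finset]
  have e1 : Z.s * Z.z ≠ 1 := fun h => hsz' (by
    rw [mul_eq_one_iff_eq_inv.1 h, H70.inv_eq_self_of_two Z.z_two])
  simp [Finset.card_insert_of_notMem, Ne.symm hz1, Ne.symm hs1, Ne.symm e1, Ne.symm hsz', hs1, hz1]

end

end H70.TwoLayer
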