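import Cfsg.Agent.H70.TwoLayer.DihedralCase

/-! Conclusion of the dihedral case. -/

set_option autoImplicit false
set_option linter.style.haveILetI false

namespace H70.TwoLayer

open Subgroup

universe u v

variable {G : Type u} [Group G] [Finite G] {P : Type v} [Group P] [Finite P]

local notation "C(" x ")" => Subgroup.centralizer ({x} : Set G)

/-- a four-group inside `V` -/
structure Four (Fr : Frame G P) (W : Subgroup G) : Prop where
  le : W ≤ Fr.V
  card : Nat.card W = 4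
  sq : ∀ w ∈ W, w * w = 1

theorem Four.comm {Fr : Frame G P} {W : Subgroup G} (h : Four Fr W) {a b : G} (ha : a ∈ W) (hb : b ∈ W) :
    a * b = b * a := by
  have h1 := h.sq _ (mul_mem ha hb)
  calc a * b = (a * b) * ((b * a) * (b * a)) := by rw [h.sq _ (mul_mem hb ha), mul_one]
    _ = a * (b * b) * a * (b * a) := by group
    _ = b * a := by rw [h.sq b hb, mul_one, h.sq a ha, one_mul]

theorem Four.ext_sq {Fr : Frame G P} {W : Subgroup G} (h : Four Fr W) {x : G}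
    (hx : x ∈ Fr.ext W (h.le.trans Fr.V_le)) : x * x = 1 := by
  rcases hx with hx | hx
  · exact h.sq x hx
  · have hc : Fr.t * x * Fr.t = Fr.t * (Fr.t * x) := Fr.commute_t (Fr.V_le (h.le hx))
    calc x * x = Fr.t * (Fr.t * x) * (Fr.t * (Fr.t * x)) := by
          rw [← mul_assoc Fr.t Fr.t x, Fr.t_mul_t, one_mul]
      _ = Fr.t * (Fr.t * x * Fr.t) * (Fr.t * x) := by group
      _ = (Fr.t * Fr.t) * ((Fr.t * x) * (Fr.t * x)) := by rw [hc]; group
      _ = 1 := by rw [Fr.t_mul_t, h.sq _ hx, one_mul]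

variable {Fr : Frame G P}

theorem VDih.exists_out_mem (Z : VDih Fr) {W : Subgroup G} (h : Four Fr W) :
    ∃ s ∈ W, s ∉ Z.R ∧ Z.z ∈ W := by
  classical
  have h2 : ∀ w ∈ W, w ∈ Z.R → w = 1 ∨ w = Z.z := fun w hw hR => Z.z_unique w hR (h.sq w hw)
  obtain ⟨s, hs, hs1⟩ : ∃ s ∈ W, s ∉ Z.R := by
    by_contra hne
    push Not at hne
    have hsub : (W : Set G) ⊆ {1, Z.z} := fun w hw => by simpa using h2 w hw (hne w hw)
    have := Set.ncard_le_ncard hsub (Set.toFinite _)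
    rw [← Nat.card_coe_set_eq] at this
    have h4 := (Set.ncard_insert_le (1 : G) {Z.z})
    rw [Set.ncard_singleton] at h4
    have := h.card
    simp only [SetLike.coe_sort_coe] at *
    omega
  refine ⟨s, hs, hs1, ?_⟩
  by_contra hz
  have hsub : (W : Set G) ⊆ {1, s} := by
    intro w hw
    by_cases hw1 : w = 1
    · simp [hw1]
    have hwR : w ∉ Z.R := fun hR => by
      rcases h2 w hw hR with rfl | rfl
      exacts [hw1 rfl, hz hw]
    rcases h2 _ (mul_mem hs hw) (Z.outMul s (h.le hs) w (h.le hw) hs1 hwR) with he | he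
    · right
      rw [Set.mem_singleton_iff, ← inv_eq_of_mul_eq_one_right he, inv_eq_of_mul_eq_one_right (h.sq s hs)]
    · exact absurd (he ▸ mul_mem hs hw) hz
  have := Set.ncard_le_ncard hsub (Set.toFinite _)
  rw [← Nat.card_coe_set_eq] at this
  have h4 := (Set.ncard_insert_le (1 : G) {s})
  rw [Set.ncard_singleton] at h4
  have := h.card
  simp only [SetLike.coe_sort_coe] at *
  omega

/-- a four-group is self-centralizing in `V` -/
theorem VDih.four_self_cent (Z : VDih Fr) {W : Subgroup G} (h : Four Fr W) {y : G} (hy : y ∈ Fr.V)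
    (hc : ∀ w ∈ W, y * w = w * y) : y ∈ W := by
  obtain ⟨s, hs, hsR, hz⟩ := Z.exists_out_mem h
  have key : ∀ x ∈ Z.R, x * s = s * x → x ∈ W := by
    intro x hx hxs
    have hi := Z.out_inv (h.le hs) hsR hx
    rw [← hxs, mul_inv_cancel_right, eq_inv_iff_mul_eq_one] at hi
    rcases Z.z_unique x hx hi with rfl | rfl
    exacts [one_mem W, hz]
  by_cases hyR : y ∈ Z.R
  · exact key y hyR (hc s hs)
  · have := key _ (Z.outMul y hy s (h.le hs) hyR hsR)
      (by rw [mul_assoc, h.sq s hs, mul_one, ← mul_assoc, ← hc s hs, mul_assoc, h.sq s hs, mul_one])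
    simpa using mul_mem this (inv_mem hs)

/-- a conjugate of an eight-group containing `t` is an eight-group of the same shape -/
theorem VDih.eight_cj (Z : VDih Fr) {W : Subgroup G} (h : Four Fr W) (g : G)
    (hle : H70.cj g (Fr.ext W (h.le.trans Fr.V_le)) ≤ Fr.S0)
    (ht : Fr.t ∈ H70.cj g (Fr.ext W (h.le.trans Fr.V_le))) :
    ∃ (W' : Subgroup G) (h' : Four Fr W'),
      H70.cj g (Fr.ext W (h.le.trans Fr.V_le)) = Fr.ext W' (h'.le.trans Fr.V_le) := by
  have _ := Z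
  set E := Fr.ext W (h.le.trans Fr.V_le)
  set E' := H70.cj g E
  let W' : Subgroup G := E' ⊓ Fr.V
  have hW' : W' ≤ Fr.ME := inf_le_right.trans Fr.V_le
  have he : E' = Fr.ext W' hW' := by
    ext x
    rw [Frame.mem_ext]
    constructor
    · intro hx
      rcases hle hx with h' | h'
      · exact Or.inl ⟨hx, h'⟩
      · exact Or.inr ⟨mul_mem ht hx, h'⟩
    · rintro (h' | h')
      · exact h'.1
      · have := mul_mem ht h'.1
        rwa [← mul_assoc, Fr.t_mul_t, one_mul] at this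
  have hsq : ∀ x ∈ E', x * x = 1 := by
    rintro _ ⟨a, ha, rfl⟩
    show (MulAut.conj g a) * (MulAut.conj g a) = 1
    rw [← map_mul, h.ext_sq ha, map_one]
  refine ⟨W', ⟨inf_le_right, ?_, fun w hw => hsq w hw.1⟩, he⟩
  have hc : Nat.card E' = 8 := by
    rw [H70.card_cj, Fr.card_ext, h.card]
  rw [he, Fr.card_ext] at hc
  omega

/-- 2-groups centralizing an eight-group -/
theorem VDih.cent_eight (Z : VDih Fr) {W : Subgroup G} (h : Four Fr W) {x : G}
    (h2 : ∃ k : ℕ, x ^ 2 ^ k = 1)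
    (hc : ∀ e ∈ Fr.ext W (h.le.trans Fr.V_le), x * e = e * x) : x ∈ Fr.ext W (h.le.trans Fr.V_le) := by
  haveI : Fact (Nat.Prime 2) := ⟨Nat.prime_two⟩
  set E := Fr.ext W (h.le.trans Fr.V_le)
  have hE2 : IsPGroup 2 E := IsPGroup.of_card (n := 3) (by rw [Fr.card_ext, h.card]; norm_num)
  obtain ⟨k, hk⟩ := h2
  have hx2 : IsPGroup 2 (zpowers x) := by
    obtain ⟨j, -, hj⟩ := (Nat.dvd_prime_pow Nat.prime_two).1 (orderOf_dvd_of_pow_eq_one hk)
    exact IsPGroup.of_card (n := j) (by rw [Nat.card_zpowers, hj])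
  have hxN : x ∈ normalizer (E : Set G) := mem_normalizer_of fun e he => by
    rw [hc e he, mul_inv_cancel_right]; exact he
  have hA : IsPGroup 2 (zpowers x ⊔ E : Subgroup G) :=
    IsPGroup.to_sup_of_normal_right' hx2 hE2 (zpowers_le.2 hxN)
  have hcent : (zpowers x ⊔ E : Subgroup G) ≤ centralizer (E : Set G) := by
    refine sup_le (zpowers_le.2 (mem_centralizer_iff.2 fun e he => (hc e he).symm)) fun a ha =>
      mem_centralizer_iff.2 fun e he => ?_
    have h1 := h.ext_sq (mul_mem ha he)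
    calc e * a = (a * e * (a * e)) * (e * a) := by rw [h1, one_mul]
      _ = a * e * a * (e * e) * a := by group
      _ = a * e := by rw [h.ext_sq he, mul_one, mul_assoc (a * e), h.ext_sq ha, mul_one]
  have htE : Fr.t ∈ E := Fr.t_mem_ext _
  have hAC : (zpowers x ⊔ E : Subgroup G) ≤ C(Fr.t) := fun a ha =>
    mem_centralizer_singleton_iff.2 (mem_centralizer_iff.1 (hcent ha) _ htE).symm
  obtain ⟨c, hcC, hcS⟩ := Fr.exists_cj_S0 hA hAC
  have htE' : Fr.t ∈ H70.cj c E := H70.mem_cj.2 (by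
    rw [mul_assoc, ← mem_centralizer_singleton_iff.1 hcC, ← mul_assoc, inv_mul_cancel, one_mul]; exact htE)
  obtain ⟨W', h', he⟩ := Z.eight_cj h c ((H70.cj_mono c le_sup_right).trans hcS) htE'
  have hxc : c * x * c⁻¹ ∈ Fr.S0 := hcS ⟨x, mem_sup_left (mem_zpowers x), rfl⟩
  have hcomm : ∀ w ∈ W', c * x * c⁻¹ * w = w * (c * x * c⁻¹) := by
    intro w hw
    obtain ⟨e, hee, rfl⟩ : w ∈ H70.cj c E := he ▸ Fr.le_ext _ hw
    show c * x * c⁻¹ * (c * e * c⁻¹) = c * e * c⁻¹ * (c * x * c⁻¹)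
    rw [show c * x * c⁻¹ * (c * e * c⁻¹) = c * (x * e) * c⁻¹ by group, hc e hee]
    group
  have hx' : c * x * c⁻¹ ∈ Fr.ext W' (h'.le.trans Fr.V_le) := by
    rcases hxc with hh | hh
    · exact Or.inl (Z.four_self_cent h' hh hcomm)
    · refine Or.inr (Z.four_self_cent h' hh fun w hw => ?_)
      rw [mul_assoc, hcomm w hw, ← mul_assoc, ← Fr.commute_t (Fr.V_le (h'.le hw)), mul_assoc]
  rw [← he, H70.mem_cj] at hx'
  simpa [mul_assoc] using hx'

/-- an eight-group whose normalizer moves `t` has normalizer of order divisible by 64 -/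
theorem VDih.sixtyfour (Z : VDih Fr) {W : Subgroup G} (h : Four Fr W) {n : G}
    (hn : n ∈ normalizer (Fr.ext W (h.le.trans Fr.V_le) : Set G)) (hnt : n * Fr.t * n⁻¹ ≠ Fr.t) :
    64 ∣ Nat.card (normalizer (Fr.ext W (h.le.trans Fr.V_le) : Set G)) := by
  classical
  haveI : Fact (Nat.Prime 2) := ⟨Nat.prime_two⟩
  set E := Fr.ext W (h.le.trans Fr.V_le)
  set N := normalizer (E : Set G)
  set M := N ⊓ C(Fr.t)
  have hES : E ≤ Fr.S0 := fun x hx => hx.imp (fun h' => h.le h') fun h' => h.le h'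
  have hcases : ∀ m ∈ N, m * Fr.t * m⁻¹ = Fr.t ∨ ∃ w ∈ W, w ≠ 1 ∧ m * Fr.t * m⁻¹ = Fr.t * w := by
    intro m hm
    have hmE : m * Fr.t * m⁻¹ ∈ E := conj_mem_of_mem_normalizer hm (Fr.t_mem_ext _)
    rcases (Z.isConj_iff_t (hES hmE)).1 (isConj_iff.2 ⟨m, rfl⟩) with he | ⟨v, hv, hv2, he⟩
    · exact Or.inl he
    · refine Or.inr ⟨v, ?_, H70.ne_one_of_two hv2, he⟩
      rw [he] at hmE
      rcases hmE with h' | h'
      · exact absurd (Fr.V_le (h.le h')) (Fr.t_mul_not_ME (Fr.V_le hv))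
      · rwa [← mul_assoc, Fr.t_mul_t, one_mul] at h'
  obtain ⟨w₀, hw₀, hw₀1, hnw⟩ := (hcases n hn).resolve_left hnt
  obtain ⟨k, hk, hkW, hfpf⟩ := Z.klein W h.le h.card h.sq
  have hkC : k ∈ C(Fr.t) := Fr.le_C hk
  have hkt : ∀ w, k * (Fr.t * w) * k⁻¹ = Fr.t * (k * w * k⁻¹) := fun w => by
    rw [← mul_assoc, Fr.commute_t hk]; group
  have hkN : k ∈ N := mem_normalizer_of fun x hx => by
    rcases hx with h' | h'
    · exact Or.inl (conj_mem_of_mem_normalizer hkW h')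
    · right
      have he := hkt (Fr.t * x)
      rw [← mul_assoc Fr.t Fr.t x, Fr.t_mul_t, one_mul] at he
      rw [he, ← mul_assoc, Fr.t_mul_t, one_mul]
      exact conj_mem_of_mem_normalizer hkW h'
  set w₁ := k * w₀ * k⁻¹ with hw₁d
  set w₂ := k * w₁ * k⁻¹ with hw₂d
  have hw₁ : w₁ ∈ W := conj_mem_of_mem_normalizer hkW hw₀
  have hw₂ : w₂ ∈ W := conj_mem_of_mem_normalizer hkW hw₁
  have hw₁1 : w₁ ≠ 1 := fun e => hw₀1 (conj_eq_one_iff.1 e)
  have hw₂1 : w₂ ≠ 1 := fun e => hw₁1 (conj_eq_one_iff.1 e)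
  have h10 : w₁ ≠ w₀ := hfpf w₀ hw₀ hw₀1
  have h21 : w₂ ≠ w₁ := hfpf w₁ hw₁ hw₁1
  have h20 : w₂ ≠ w₀ := fun e => hfpf (w₀ * w₁) (mul_mem hw₀ hw₁)
    (fun e' => h10 (by rw [eq_inv_of_mul_eq_one_right e', inv_eq_of_mul_eq_one_right (h.sq w₀ hw₀)]))
    (by rw [show k * (w₀ * w₁) * k⁻¹ = (k * w₀ * k⁻¹) * (k * w₁ * k⁻¹) by group, ← hw₁d, ← hw₂d, e]
        exact h.comm hw₁ hw₀)
  have hall : ∀ w ∈ W, w = 1 ∨ w = w₀ ∨ w = w₁ ∨ w = w₂ := by
    intro w hw
    by_contra hne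
    push Not at hne
    have hsub : ↑({1, w₀, w₁, w₂, w} : Finset G) ⊆ (W : Set G) := by
      intro y hy
      simp only [Finset.coe_insert, Finset.coe_singleton, Set.mem_insert_iff, Set.mem_singleton_iff] at hy
      rcases hy with rfl | rfl | rfl | rfl | rfl
      exacts [one_mem W, hw₀, hw₁, hw₂, hw]
    have h5 := Set.ncard_le_ncard hsub (Set.toFinite _)
    rw [Set.ncard_coe_finset, ← Nat.card_coe_set_eq] at h5
    have := h.card
    simp [Finset.card_insert_of_notMem, Ne.symm hw₀1, Ne.symm hw₁1, Ne.symm hw₂1, Ne.symm h10,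
      Ne.symm h21, Ne.symm h20, Ne.symm hne.1, Ne.symm hne.2.1, Ne.symm hne.2.2.1, Ne.symm hne.2.2.2] at h5
    omega
  have honto : ∀ w ∈ W, ∃ m ∈ N, m * Fr.t * m⁻¹ = Fr.t * w := by
    intro w hw
    rcases hall w hw with rfl | rfl | rfl | rfl
    · exact ⟨1, one_mem _, by simp⟩
    · exact ⟨n, hn, hnw⟩
    · refine ⟨k * n, mul_mem hkN hn, ?_⟩
      rw [show k * n * Fr.t * (k * n)⁻¹ = k * (n * Fr.t * n⁻¹) * k⁻¹ by group, hnw, hkt]
    · refine ⟨k * (k * n), mul_mem hkN (mul_mem hkN hn), ?_⟩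
      rw [show k * (k * n) * Fr.t * (k * (k * n))⁻¹ = k * (k * (n * Fr.t * n⁻¹) * k⁻¹) * k⁻¹ by group, hnw,
        hkt, hkt]
  choose m hmN hmt using honto
  have hidx : (M.subgroupOf N).index = 4 := by
    rw [Subgroup.index_eq_card, ← h.card]
    refine (Nat.card_congr (Equiv.ofBijective
      (fun w : W => ((⟨m w w.2, hmN w w.2⟩ : N) : N ⧸ M.subgroupOf N)) ⟨?_, ?_⟩)).symm
    · intro a b hab
      rw [QuotientGroup.eq, mem_subgroupOf] at hab
      have hc := mem_centralizer_singleton_iff.1 (mem_inf.1 hab).2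
      simp only [Subgroup.coe_mul, Subgroup.coe_inv] at hc
      refine Subtype.ext (mul_left_cancel (a := Fr.t) ?_)
      rw [← hmt a a.2, ← hmt b b.2]
      calc m a a.2 * Fr.t * (m a a.2)⁻¹
          = m a a.2 * (Fr.t * ((m a a.2)⁻¹ * m b b.2)) * (m b b.2)⁻¹ := by group
        _ = m a a.2 * ((m a a.2)⁻¹ * m b b.2 * Fr.t) * (m b b.2)⁻¹ := by rw [hc]
        _ = m b b.2 * Fr.t * (m b b.2)⁻¹ := by group
    · intro q
      obtain ⟨⟨g, hg⟩, rfl⟩ := QuotientGroup.mk_surjective q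
      obtain ⟨w, hw, he⟩ : ∃ w ∈ W, g * Fr.t * g⁻¹ = Fr.t * w := by
        rcases hcases g hg with he | ⟨w, hw, -, he⟩
        exacts [⟨1, one_mem _, by rw [mul_one, he]⟩, ⟨w, hw, he⟩]
      refine ⟨⟨w, hw⟩, QuotientGroup.eq.2 (mem_subgroupOf.2 (mem_inf.2 ⟨?_, ?_⟩))⟩
      · exact mul_mem (inv_mem (hmN w hw)) hg
      · refine mem_centralizer_singleton_iff.2 ?_
        show (m w hw)⁻¹ * g * Fr.t = Fr.t * ((m w hw)⁻¹ * g)
        calc (m w hw)⁻¹ * g * Fr.t = (m w hw)⁻¹ * (g * Fr.t * g⁻¹) * g := by group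
          _ = (m w hw)⁻¹ * (m w hw * Fr.t * (m w hw)⁻¹) * g := by rw [he, hmt w hw]
          _ = _ := by group
  -- a subgroup of order at least 16 inside `M`
  have hlt : W < Fr.V := lt_of_le_of_ne h.le fun e => by
    have h1 := Z.card
    rw [← e, h.card] at h1
    obtain ⟨j, hj⟩ := Z.four_dvd
    omega
  obtain ⟨g, hgV, hgW, hgN⟩ := exists_mem_normalizer_of_lt Fr.V_two hlt
  set U := W ⊔ zpowers g with hU
  have hUV : U ≤ Fr.V := sup_le h.le (zpowers_le.2 hgV)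
  have hUM : Fr.ext U (hUV.trans Fr.V_le) ≤ M := by
    have hUW : ∀ v ∈ U, v ∈ normalizer (W : Set G) := sup_le le_normalizer (zpowers_le.2 hgN)
    have hmem : ∀ v ∈ U, v ∈ M := fun v hv => by
      refine ⟨mem_normalizer_of fun x hx => ?_, Fr.le_C (Fr.V_le (hUV hv))⟩
      have hvc := Fr.commute_t (Fr.V_le (hUV hv))
      rcases hx with h' | h'
      · exact Or.inl (conj_mem_of_mem_normalizer (hUW v hv) h')
      · right
        have := conj_mem_of_mem_normalizer (hUW v hv) h'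
        rwa [← mul_assoc, hvc, show Fr.t * v * x * v⁻¹ = Fr.t * (v * x * v⁻¹) by group] at this
    intro x hx
    rcases hx with h' | h'
    · exact hmem x h'
    · have ht : Fr.t ∈ M := ⟨le_normalizer (Fr.t_mem_ext _), Fr.t_mem_C⟩
      simpa [← mul_assoc, Fr.t_mul_t] using mul_mem ht (hmem _ h')
  have h16 : 16 ∣ Nat.card M := by
    refine Nat.dvd_trans ?_ (card_dvd_of_le hUM)
    obtain ⟨j, hj⟩ := IsPGroup.iff_card.1 (Fr.V_two.to_le hUV)
    have hU4 : 4 < Nat.card U := by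
      have h1 := Nat.le_of_dvd Nat.card_pos (card_dvd_of_le (le_sup_left : W ≤ U))
      rw [h.card] at h1
      refine lt_of_le_of_ne h1 fun e => hgW ?_
      have he : W = U := eq_of_le_of_card_ge le_sup_left (by rw [h.card, ← e])
      exact he.symm ▸ mem_sup_right (mem_zpowers g)
    rw [Fr.card_ext, hj]
    obtain ⟨i, rfl⟩ : ∃ i, j = i + 3 := ⟨j - 3, by
      rcases j with _ | _ | _ | j
      all_goals first | omega | (rw [hj] at hU4; norm_num at hU4)⟩
    exact ⟨2 ^ i, by rw [pow_add]; ring⟩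
  have h1 := (M.subgroupOf N).card_mul_index
  rw [Nat.card_congr (subgroupOfEquivOfLe (inf_le_left : M ≤ N)).toEquiv, hidx] at h1
  rw [← h1]
  exact Nat.mul_dvd_mul_right h16 4

/-- some eight-group has a large normalizer -/
theorem VDih.exists_sixtyfour (Z : VDih Fr) : ∃ (W : Subgroup G) (h : Four Fr W),
    64 ∣ Nat.card (normalizer (Fr.ext W (h.le.trans Fr.V_le) : Set G)) := by
  obtain ⟨W, hW, hWc, hW2, hz⟩ := Z.exists_four
  have h : Four Fr W := ⟨hW, hWc, hW2⟩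
  obtain ⟨-, g, -, -, -, -, -, -, hg⟩ := Z.exists_swap
  set E := Fr.ext W (h.le.trans Fr.V_le)
  by_cases hfix : ∃ n ∈ normalizer (E : Set G), n * Fr.t * n⁻¹ ≠ Fr.t
  · obtain ⟨n, hn, hnt⟩ := hfix
    exact ⟨W, h, Z.sixtyfour h hn hnt⟩
  push Not at hfix
  -- transport along `g`
  have hE2 : IsPGroup 2 E := IsPGroup.of_card (n := 3) (by rw [Fr.card_ext, hWc]; norm_num)
  have htE : Fr.t ∈ H70.cj g⁻¹ E := H70.mem_cj.2 (by
    rw [inv_inv, hg]; exact Fr.t_mul_mem_ext _ hz)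
  have hle : H70.cj g⁻¹ E ≤ C(Fr.t) := by
    rintro _ ⟨e, he, rfl⟩
    refine mem_centralizer_singleton_iff.2 ?_
    show g⁻¹ * e * g⁻¹⁻¹ * Fr.t = Fr.t * (g⁻¹ * e * g⁻¹⁻¹)
    have h2 : e * (Fr.t * Z.z) = Fr.t * Z.z * e := by
      have h3 : e ∈ Fr.S0 := he.imp (fun h' => h.le h') fun h' => h.le h'
      have h4 : e * Fr.t = Fr.t * e := mem_centralizer_singleton_iff.1 (Fr.S0_le_C h3)
      rw [← mul_assoc, h4, mul_assoc, Z.z_central_S0 h3, ← mul_assoc]
    calc g⁻¹ * e * g⁻¹⁻¹ * Fr.t = g⁻¹ * (e * (g * Fr.t * g⁻¹)) * g := by group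
      _ = g⁻¹ * (g * Fr.t * g⁻¹ * e) * g := by rw [hg, h2]
      _ = _ := by group
  obtain ⟨c, hc, hcS⟩ := Fr.exists_cj_S0 (hE2.map _) hle
  rw [H70.cj_cj] at hcS
  have ht' : Fr.t ∈ H70.cj (c * g⁻¹) E := by
    rw [← H70.cj_cj, H70.mem_cj, mul_assoc, ← mem_centralizer_singleton_iff.1 hc, ← mul_assoc,
      inv_mul_cancel, one_mul]
    exact htE
  obtain ⟨W', h', he⟩ := Z.eight_cj h (c * g⁻¹) hcS ht'
  refine ⟨W', h', ?_⟩
  obtain ⟨k, hk, hkW, hfpf⟩ := Z.klein W hW hWc hW2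
  have hkN : k ∈ normalizer (E : Set G) := mem_normalizer_of fun x hx => by
    rcases hx with h' | h'
    · exact Or.inl (conj_mem_of_mem_normalizer hkW h')
    · right
      have h1 := conj_mem_of_mem_normalizer hkW h'
      rwa [← mul_assoc, Fr.commute_t hk, show Fr.t * k * x * k⁻¹ = Fr.t * (k * x * k⁻¹) by group] at h1
  refine Z.sixtyfour h' (n := (c * g⁻¹) * k * (c * g⁻¹)⁻¹) ?_ ?_
  · rw [← H70.cj_eq_self_iff, ← he, H70.cj_cj, inv_mul_cancel_right, ← H70.cj_cj,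
      H70.cj_eq_self_iff.2 hkN]
  · intro heq
    apply hfpf Z.z hz (H70.ne_one_of_two Z.z_two)
    have h2 : k * (g * Fr.t * g⁻¹) * k⁻¹ = g * Fr.t * g⁻¹ := by
      have h3 : c⁻¹ * Fr.t * c = Fr.t := by
        rw [mul_assoc, ← mem_centralizer_singleton_iff.1 hc, inv_mul_cancel_left]
      calc k * (g * Fr.t * g⁻¹) * k⁻¹ = k * (g * (c⁻¹ * Fr.t * c) * g⁻¹) * k⁻¹ := by rw [h3]
        _ = g * c⁻¹ * ((c * g⁻¹ * k * (c * g⁻¹)⁻¹) * Fr.t * (c * g⁻¹ * k * (c * g⁻¹)⁻¹)⁻¹) * c * g⁻¹ := by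
          group
        _ = g * c⁻¹ * Fr.t * c * g⁻¹ := by rw [heq]
        _ = g * (c⁻¹ * Fr.t * c) * g⁻¹ := by group
        _ = _ := by rw [h3]
    rw [hg, ← mul_assoc, Fr.commute_t hk, show Fr.t * k * Z.z * k⁻¹ = Fr.t * (k * Z.z * k⁻¹) by group] at h2
    exact mul_left_cancel h2

/-- the dihedral case does not occur -/
theorem VDih.false (Z : VDih Fr) : False := by
  classical
  haveI : Fact (Nat.Prime 2) := ⟨Nat.prime_two⟩
  obtain ⟨S, g₀, hS2, hSodd, hlt, hg₀S, hg₀, hg₀N, hg₀t⟩ := Z.exists_swap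
  obtain ⟨j4, hj4⟩ := Z.four_dvd
  have hrpos := orderOf_pos Z.r
  have hS0c : Nat.card Fr.S0 = 4 * orderOf Z.r := by rw [Fr.card_S0, Z.card]; ring
  have hRc : Nat.card Z.R = orderOf Z.r := by rw [← Z.zp, Nat.card_zpowers]
  have hmul : Nat.card S = Nat.card Fr.S0 * Fr.S0.relIndex S := by
    have h := (Fr.S0.subgroupOf S).card_mul_index
    rw [Nat.card_congr (subgroupOfEquivOfLe hlt.le).toEquiv] at h
    exact h.symm
  have hr4 : 4 ∣ Fr.S0.relIndex S := by
    obtain ⟨i, hi⟩ := (hS2.index (Fr.S0.subgroupOf S))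
    have hi' : Fr.S0.relIndex S = 2 ^ i := hi
    rcases i with _ | _ | i
    · exact absurd (relIndex_eq_one.1 (hi'.trans (pow_zero 2))) (not_le_of_gt hlt)
    · -- index two is impossible
      exfalso
      rw [zero_add, pow_one] at hi'
      haveI hn : (Fr.S0.subgroupOf S).Normal := normal_of_index_eq_two hi'
      have hSN : ∀ x ∈ S, x ∈ normalizer (Fr.S0 : Set G) := fun x hx =>
        mem_normalizer_of fun y hy => mem_subgroupOf.1 (hn.conj_mem ⟨y, hlt.le hy⟩ (mem_subgroupOf.2 hy) ⟨x, hx⟩)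
      have hout : ∀ x ∈ S, ∀ v ∈ Fr.V, v ∉ Z.R → x * v * x⁻¹ ∈ Fr.V := by
        intro x hx v hv hvR
        have h2 := Z.out_two hv hvR
        have hm := conj_mem_of_mem_normalizer (hSN x hx) (Fr.V_le_S0 hv)
        rcases Fr.invol_cases hm ((MulEquiv.orderOf_eq (MulAut.conj x) v).trans h2) with h | h | h
        · exact h
        all_goals
          exfalso
          have hcj := (Z.isConj_iff_t hm).2 (by first | exact Or.inl h | exact Or.inr h)
          have h3 : IsConj Fr.t Z.z := (hcj.trans (isConj_iff.2 ⟨x, rfl⟩ : IsConj v (x * v * x⁻¹)).symm).trans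
            (Z.invol_conj_z hv h2).symm
          rcases (Z.isConj_iff_t (Fr.V_le_S0 Z.z_V)).1 h3 with h4 | ⟨w, hw, -, h4⟩
          · exact Fr.t_not_V (h4 ▸ Z.z_V)
          · exact Fr.tv_not_V hw (h4 ▸ Z.z_V)
      have hRn : ∀ x ∈ S, ∀ y ∈ Z.R, x * y * x⁻¹ ∈ Z.R := by
        intro x hx y hy
        have hy' : ∃ i : ℤ, Z.r ^ i = y := by rw [← Z.zp] at hy; exact mem_zpowers_iff.1 hy
        obtain ⟨i, rfl⟩ := hy'
        have hrV : x * Z.r * x⁻¹ ∈ Fr.V := by
          have h1 : Z.r * Z.s ∉ Z.R := fun h => Z.s_not (by simpa using mul_mem (inv_mem Z.r_mem) h)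
          have h2 := mul_mem (hout x hx _ (mul_mem (Z.R_le Z.r_mem) Z.s_mem) h1) (hout x hx _ Z.s_mem Z.s_not)
          rw [show x * (Z.r * Z.s) * x⁻¹ * (x * Z.s * x⁻¹) = x * (Z.r * (Z.s * Z.s)) * x⁻¹ by group,
            Z.out _ Z.s_mem Z.s_not, mul_one] at h2
          exact h2
        have hrR : x * Z.r * x⁻¹ ∈ Z.R := by
          by_contra hne
          have h3 := Z.out_two hrV hne
          have h4 : orderOf Z.r = 2 := (MulEquiv.orderOf_eq (MulAut.conj x) Z.r).symm.trans h3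
          omega
        rw [← conj_zpow]
        exact zpow_mem hrR i
      obtain ⟨W, hW, h64⟩ := Z.exists_sixtyfour
      set E := Fr.ext W (hW.le.trans Fr.V_le)
      set N := normalizer (E : Set G)
      obtain ⟨T₀⟩ := (inferInstance : Nonempty (Sylow 2 N))
      set T₁ := (T₀ : Subgroup N).map N.subtype
      have hT1c : 64 ∣ Nat.card T₁ := by
        rw [card_map_of_injective N.subtype_injective, show (64 : ℕ) = 2 ^ 6 by norm_num]
        exact T₀.pow_dvd_card_of_pow_dvd_card h64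
      have hEle : E ≤ T₁ := by
        have hE2 : IsPGroup 2 (E.subgroupOf N) :=
          (IsPGroup.of_card (n := 3) (by rw [Fr.card_ext, hW.card]; norm_num : Nat.card E = 2 ^ 3)).of_equiv
            (subgroupOfEquivOfLe le_normalizer).symm
        haveI : (E.subgroupOf N).Normal := normal_in_normalizer
        have h1 := IsPGroup.to_sup_of_normal_right T₀.2 hE2
        have h2 := T₀.is_maximal' h1 le_sup_left
        intro e he
        exact ⟨⟨e, le_normalizer he⟩, h2 ▸ mem_sup_right (mem_subgroupOf.2 he), rfl⟩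
      let Sy : Sylow 2 G := IsPGroup.toSylow hS2 hSodd
      obtain ⟨h, -, hh⟩ := H70.exists_cj_le_sylow Sy (K := ⊤) le_top (T₀.2.map N.subtype) le_top
      change H70.cj h T₁ ≤ S at hh
      set Y := Z.R ⊓ H70.cj h T₁
      have hY8 : 8 ≤ Nat.card Y := by
        have h1 := card_mul_card_le (Z.R_le.trans (Fr.V_le_S0.trans hlt.le)) hh
        rw [hRc, H70.card_cj, hmul, hi', hS0c] at h1
        have h3 := Nat.le_of_dvd Nat.card_pos hT1c
        have h4 : orderOf Z.r * 64 ≤ Nat.card Y * (4 * orderOf Z.r * 2) :=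
          le_trans (Nat.mul_le_mul_left _ h3) h1
        by_contra hlt8
        have h5 : Nat.card Y * (4 * orderOf Z.r * 2) ≤ 7 * (4 * orderOf Z.r * 2) :=
          Nat.mul_le_mul_right _ (by omega)
        omega
      haveI : IsCyclic Y := by
        haveI : IsCyclic Z.R := by rw [← Z.zp]; exact Subgroup.isCyclic_zpowers _
        exact isCyclic_of_injective (inclusion (inf_le_left : Y ≤ Z.R)) (inclusion_injective _)
      obtain ⟨⟨x, hx⟩, hxgen⟩ := IsCyclic.exists_generator (α := Y)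
      have hxo : 8 ≤ orderOf x := by
        rw [← Subgroup.orderOf_mk x hx, orderOf_eq_card_of_forall_mem_zpowers hxgen]
        exact hY8
      obtain ⟨hxR, hxT⟩ := mem_inf.1 hx
      have hxS : x ∈ S := hh hxT
      rw [H70.mem_cj] at hxT
      set y := h⁻¹ * x * h
      have hzz := H70.mul_self_of_two Z.z_two
      have key : ∀ e ∈ E, y ^ 2 * e = e * y ^ 2 := by
        intro e he
        set e' := h * e * h⁻¹
        have he'S : e' ∈ S := hh ⟨e, hEle he, rfl⟩
        have hyN : y ∈ N := map_subtype_le _ hxT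
        set δ := x * e' * x⁻¹ * e'⁻¹ with hδ
        have hδE : h⁻¹ * δ * h ∈ E := by
          rw [show h⁻¹ * δ * h = (y * e * y⁻¹) * e⁻¹ by simp only [δ, y, e']; group]
          exact mul_mem (conj_mem_of_mem_normalizer hyN he) (inv_mem he)
        have hδR : δ ∈ Z.R := by
          rw [show δ = x * (e' * x⁻¹ * e'⁻¹) by simp only [δ]; group]
          exact mul_mem hxR (hRn e' he'S _ (inv_mem hxR))
        have hδ2 : δ * δ = 1 := by
          have := hW.ext_sq hδE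
          rw [show h⁻¹ * δ * h * (h⁻¹ * δ * h) = h⁻¹ * (δ * δ) * h⁻¹⁻¹ by group, conj_eq_one_iff] at this
          exact this
        have h1 : x * e' * x⁻¹ = δ * e' := by rw [hδ]; group
        have h2 : x ^ 2 * e' * (x ^ 2)⁻¹ = e' := by
          calc x ^ 2 * e' * (x ^ 2)⁻¹ = x * (x * e' * x⁻¹) * x⁻¹ := by simp [pow_two, mul_assoc]
            _ = x * (δ * e') * x⁻¹ := by rw [h1]
            _ = (x * δ * x⁻¹) * (x * e' * x⁻¹) := by group
            _ = δ * (δ * e') := by rw [h1, Z.R_comm hxR hδR, mul_inv_cancel_right]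
            _ = e' := by rw [← mul_assoc, hδ2, one_mul]
        have h3 : y ^ 2 = h⁻¹ * x ^ 2 * h := by simp [y, pow_two, mul_assoc]
        rw [h3]
        calc h⁻¹ * x ^ 2 * h * e = h⁻¹ * (x ^ 2 * e' * (x ^ 2)⁻¹) * x ^ 2 * h := by simp only [e']; group
          _ = e * (h⁻¹ * x ^ 2 * h) := by rw [h2]; simp only [e']; group
      have h2p : ∃ k : ℕ, (y ^ 2) ^ 2 ^ k = 1 := by
        obtain ⟨k, hk⟩ := (T₀.2.map N.subtype) (⟨y ^ 2, pow_mem hxT 2⟩ : T₁)
        exact ⟨k, congrArg Subtype.val hk⟩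
      have hy4 := hW.ext_sq (Z.cent_eight hW h2p key)
      have hx4 : orderOf x ∣ 4 := by
        refine orderOf_dvd_of_pow_eq_one ?_
        have h5 : y ^ 4 = 1 := by rw [show y ^ 4 = y ^ 2 * y ^ 2 by rw [← pow_add]]; exact hy4
        rw [show x = h * y * h⁻¹ by simp only [y]; group, conj_pow, h5]; group
      have := Nat.le_of_dvd (by norm_num) hx4
      omega
    · exact hi' ▸ ⟨2 ^ i, by rw [pow_add]; ring⟩
  have h4 : 4 ∣ Fr.S0.index := hr4.trans ⟨S.index, (Subgroup.relIndex_mul_index hlt.le).symm⟩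
  -- conjugates of `t` in `S0`
  have hk : Nat.card {x : G // x ∈ Fr.S0 ∧ IsConj Fr.t x} = orderOf Z.r + 2 := by
    set I : Set G := {v | v ∈ Fr.V ∧ orderOf v = 2}
    have hI : I.ncard = orderOf Z.r + 1 := by
      have he : I = insert Z.z ((Fr.V : Set G) \ (Z.R : Set G)) := by
        ext x
        constructor
        · rintro ⟨hx, hx2⟩
          by_cases hxR : x ∈ Z.R
          · exact Or.inl ((Z.z_unique x hxR (H70.mul_self_of_two hx2)).resolve_left (H70.ne_one_of_two hx2))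
          · exact Or.inr ⟨hx, hxR⟩
        · rintro (rfl | ⟨hx, hxR⟩)
          · exact ⟨Z.z_V, Z.z_two⟩
          · exact ⟨hx, Z.out_two hx hxR⟩
      rw [he, Set.ncard_insert_of_notMem (fun h => h.2 Z.z_mem) (Set.toFinite _),
        Set.ncard_sdiff (fun x hx => Z.R_le hx) (Set.toFinite _)]
      have a1 : (Fr.V : Set G).ncard = 2 * orderOf Z.r := by rw [← Nat.card_coe_set_eq]; exact Z.card
      have a2 : (Z.R : Set G).ncard = orderOf Z.r := by rw [← Nat.card_coe_set_eq]; exact hRc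
      omega
    have he : {x : G | x ∈ Fr.S0 ∧ IsConj Fr.t x} = insert Fr.t ((fun v => Fr.t * v) '' I) := by
      ext x
      constructor
      · rintro ⟨hx, hc⟩
        rcases (Z.isConj_iff_t hx).1 hc with h | ⟨v, hv, hv2, rfl⟩
        exacts [Or.inl h, Or.inr ⟨v, ⟨hv, hv2⟩, rfl⟩]
      · rintro (rfl | ⟨v, ⟨hv, hv2⟩, rfl⟩)
        · exact ⟨Fr.t_mem_S0, IsConj.refl _⟩
        · exact ⟨Fr.tv_mem_S0 hv, (Z.isConj_iff_t (Fr.tv_mem_S0 hv)).2 (Or.inr ⟨v, hv, hv2, rfl⟩)⟩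
    calc Nat.card {x : G // x ∈ Fr.S0 ∧ IsConj Fr.t x}
        = {x : G | x ∈ Fr.S0 ∧ IsConj Fr.t x}.ncard := Nat.card_coe_set_eq _
      _ = orderOf Z.r + 2 := by
        have hni : Fr.t ∉ (fun v => Fr.t * v) '' I := by
          rintro ⟨v, ⟨_, hv2⟩, hv⟩
          exact H70.ne_one_of_two hv2 (by simpa using hv)
        rw [he, Set.ncard_insert_of_notMem hni (Set.toFinite _),
          Set.ncard_image_of_injective _ (mul_right_injective Fr.t), hI]
  obtain ⟨j, hj, hc⟩ := Fr.card_C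
  refine parity_false Fr.hno Fr.S0 Fr.t Fr.t_mul_t h4 (j * (orderOf Z.r + 2)) (by rw [hk, hc]; ring) ?_
  obtain ⟨i, rfl⟩ := hj
  rw [show (2 * i + 1) * (orderOf Z.r + 2) = 2 * i * (orderOf Z.r) + 4 * i + (orderOf Z.r + 2) by ring]
  have h5 : 4 ∣ 2 * i * orderOf Z.r := Dvd.dvd.mul_left ⟨j4, hj4⟩ _
  omega

theorem Frame.dihedral_false (Fr : Frame G P) (hD : DihData Fr.D) : False :=
  let ⟨Z⟩ := Fr.exists_vdih hD
  Z.false

end H70.TwoLayer
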