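import Cfsg.Agent.H70.TwoLayer.FrameFacts
import Cfsg.Agent.H70.ThreeInvol

/-! The elementary abelian case: the automorphism `r` of `V` from the centralizer. -/

set_option autoImplicit false
set_option linter.style.haveILetI false

namespace H70.TwoLayer

open Subgroup

universe u v

variable {G : Type u} [Group G] [Finite G] {P : Type v} [Group P] [Finite P]

local notation "C(" x ")" => Subgroup.centralizer ({x} : Set G)

/-- `r ∈ C(t)` has odd order and is transitive on `V#`, generating a normal part of the automiser -/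
structure VElem (Fr : Frame G P) where
  sq : ∀ v ∈ Fr.V, v * v = 1
  r : G
  r_C : r ∈ C(Fr.t)
  r_N : r ∈ normalizer (Fr.V : Set G)
  r_odd : Odd (orderOf r)
  trans : ∀ v ∈ Fr.V, ∀ w ∈ Fr.V, v ≠ 1 → w ≠ 1 → ∃ j : ℕ, r ^ j * v * (r ^ j)⁻¹ = w
  norm : ∀ x ∈ C(Fr.t), x ∈ normalizer (Fr.V : Set G) → ∃ j : ℕ,
    ∀ v ∈ Fr.V, (x * r * x⁻¹) * v * (x * r * x⁻¹)⁻¹ = r ^ j * v * (r ^ j)⁻¹

theorem Frame.exists_velem (Fr : Frame G P) (hD : ElemData Fr.D) : Nonempty (VElem Fr) := by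
  obtain ⟨hsq, -, p, hp, hgen, htr⟩ := hD
  haveI : Fact (Nat.Prime 2) := ⟨Nat.prime_two⟩
  have hinj : ∀ x ∈ Fr.V, ∀ y ∈ Fr.V, Fr.f x = Fr.f y → x = y := fun x hx y hy h =>
    Fr.f_inj Fr.V_le Fr.V_two hx hy h
  have hv2 : ∀ v ∈ Fr.V, v * v = 1 := fun v hv => hinj _ (mul_mem hv hv) _ (one_mem _) (by
    rw [Fr.f_mul _ (Fr.V_le hv) _ (Fr.V_le hv), Fr.f_one, hsq _ (Fr.f_mem v hv)])
  have hcomm : ∀ v ∈ Fr.V, ∀ w ∈ Fr.V, v * w = w * v := fun v hv w hw => by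
    calc v * w = (v * w) * ((w * v) * (w * v)) := by rw [hv2 _ (mul_mem hw hv), mul_one]
      _ = v * (w * w) * v * (w * v) := by group
      _ = w * v := by rw [hv2 w hw, mul_one, hv2 v hv, one_mul]
  obtain ⟨k, hk, hkN, hkf⟩ := Fr.lift_normalizer le_rfl (p := p) fun v hv => by
    obtain ⟨w, hw, he⟩ := Fr.f_onto _ (conj_mem_of_mem_normalizer hp (Fr.f_mem v hv))
    exact ⟨w, hw, he⟩
  obtain ⟨r, w, hrodd, hrw, hrk, hwk, a, hwa⟩ := exists_odd_part k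
  -- the 2-part centralizes `V`
  have hwM : w ∈ Fr.ME := (zpowers_le.2 hk) hwk
  have hwN : w ∈ normalizer (Fr.V : Set G) := (zpowers_le.2 hkN) hwk
  have hwV : w ∈ Fr.V := by
    have h2 : IsPGroup 2 (zpowers w) := by
      obtain ⟨i, -, hi⟩ := (Nat.dvd_prime_pow Nat.prime_two).1 hwa
      exact IsPGroup.of_card (n := i) (by rw [Nat.card_zpowers, hi])
    have hsup : IsPGroup 2 (zpowers w ⊔ Fr.V : Subgroup G) :=
      IsPGroup.to_sup_of_normal_right' h2 Fr.V_two (zpowers_le.2 hwN)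
    have h1 := card_le_of_isPGroup Fr.V_two Fr.V_le Fr.V_odd hsup (sup_le (zpowers_le.2 hwM) Fr.V_le)
    have he : Fr.V = zpowers w ⊔ Fr.V :=
      eq_of_le_of_card_ge le_sup_right (Nat.le_of_dvd Nat.card_pos h1)
    rw [he]; exact mem_sup_left (mem_zpowers w)
  have hrN : r ∈ normalizer (Fr.V : Set G) := (zpowers_le.2 hkN) hrk
  have hrM : r ∈ Fr.ME := (zpowers_le.2 hk) hrk
  have hact : ∀ v ∈ Fr.V, r * v * r⁻¹ = k * v * k⁻¹ := fun v hv => by
    rw [hrw, mul_inv_rev, show k * w * v * (w⁻¹ * k⁻¹) = k * (w * v * w⁻¹) * k⁻¹ by group,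
      hcomm w hwV v hv, mul_inv_cancel_right]
  have hpow : ∀ (j : ℕ), ∀ v ∈ Fr.V, Fr.f (r ^ j * v * (r ^ j)⁻¹) = p ^ j * Fr.f v * (p ^ j)⁻¹ := by
    intro j
    induction j with
    | zero => simp
    | succ j ih =>
      intro v hv
      have hkv := conj_mem_of_mem_normalizer hkN hv
      rw [pow_succ, mul_inv_rev, show r ^ j * r * v * (r⁻¹ * (r ^ j)⁻¹) = r ^ j * (r * v * r⁻¹) * (r ^ j)⁻¹ by group,
        hact v hv, ih _ hkv, hkf v hv, pow_succ]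
      group
  refine ⟨⟨hv2, r, Fr.le_C hrM, hrN, hrodd, fun v hv u hu h1 h1' => ?_, fun x hx hxN => ?_⟩⟩
  · obtain ⟨j, hj⟩ := htr _ (Fr.f_mem v hv) _ (Fr.f_mem u hu)
      (fun h => h1 (hinj _ hv _ (one_mem _) (h.trans Fr.f_one.symm)))
      (fun h => h1' (hinj _ hu _ (one_mem _) (h.trans Fr.f_one.symm)))
    exact ⟨j, hinj _ (conj_mem_of_mem_normalizer (pow_mem hrN j) hv) _ hu ((hpow j v hv).trans hj)⟩
  · set y := x * r * x⁻¹
    have hyM : y ∈ Fr.ME := Fr.normal x hx r hrM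
    have hyN : y ∈ normalizer (Fr.V : Set G) := mul_mem (mul_mem hxN hrN) (inv_mem hxN)
    have hfy : Fr.f y ∈ normalizer (Fr.D : Set P) := mem_normalizer_of fun d hd => by
      obtain ⟨v, hv, rfl⟩ := Fr.f_onto d hd
      rw [← Fr.f_conj hyM (Fr.V_le hv)]
      exact Fr.f_mem _ (conj_mem_of_mem_normalizer hyN hv)
    obtain ⟨j, hj⟩ := hgen _ hfy
    refine ⟨j, fun v hv => hinj _ (conj_mem_of_mem_normalizer hyN hv) _
      (conj_mem_of_mem_normalizer (pow_mem hrN j) hv) ?_⟩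
    rw [Fr.f_conj hyM (Fr.V_le hv), hpow j v hv, hj _ (Fr.f_mem v hv)]

variable {Fr : Frame G P}

theorem VElem.comm (E : VElem Fr) {v w : G} (hv : v ∈ Fr.V) (hw : w ∈ Fr.V) : v * w = w * v := by
  calc v * w = (v * w) * ((w * v) * (w * v)) := by rw [E.sq _ (mul_mem hw hv), mul_one]
    _ = v * (w * w) * v * (w * v) := by group
    _ = w * v := by rw [E.sq w hw, mul_one, E.sq v hv, one_mul]

theorem VElem.S0_sq (E : VElem Fr) {x : G} (hx : x ∈ Fr.S0) : x * x = 1 := by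
  rcases hx with hx | hx
  · exact E.sq x hx
  · have hc : Fr.t * x * Fr.t = Fr.t * (Fr.t * x) := Fr.commute_t (Fr.V_le hx)
    calc x * x = Fr.t * (Fr.t * x) * (Fr.t * (Fr.t * x)) := by
          rw [← mul_assoc Fr.t Fr.t x, Fr.t_mul_t, one_mul]
      _ = Fr.t * (Fr.t * x * Fr.t) * (Fr.t * x) := by group
      _ = (Fr.t * Fr.t) * ((Fr.t * x) * (Fr.t * x)) := by rw [hc]; group
      _ = 1 := by rw [Fr.t_mul_t, E.sq _ hx, one_mul]

theorem VElem.two (E : VElem Fr) {v : G} (hv : v ∈ Fr.V) (h : v ≠ 1) : orderOf v = 2 := by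
  haveI : Fact (Nat.Prime 2) := ⟨Nat.prime_two⟩
  exact orderOf_eq_prime (by rw [pow_two]; exact E.sq v hv) h

theorem VElem.exists_ne (E : VElem Fr) : ∃ v ∈ Fr.V, v ≠ 1 := by
  have _ := E
  have := Fr.four
  haveI : Nontrivial Fr.V := Finite.one_lt_card_iff_nontrivial.1 (by omega)
  obtain ⟨⟨v, hv⟩, hne⟩ := _root_.exists_ne (1 : Fr.V)
  exact ⟨v, hv, fun h => hne (Subtype.ext h)⟩

end H70.TwoLayer
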