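import Cfsg.Agent.H70.TwoLayer.Setup
import Cfsg.Agent.H6.Transfer

/-! The Sylow subgroup `⟨t⟩ × V` of the centralizer and conjugation inside the centralizer. -/

set_option autoImplicit false
set_option linter.style.haveILetI false

namespace H70.TwoLayer

open Subgroup

universe u v

variable {G : Type u} [Group G] [Finite G] {P : Type v} [Group P] [Finite P]

local notation "C(" x ")" => Subgroup.centralizer ({x} : Set G)

theorem Frame.f_one (Fr : Frame G P) : Fr.f 1 = 1 := map_one Fr.hom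

theorem Frame.f_inv (Fr : Frame G P) {x : G} (hx : x ∈ Fr.ME) : Fr.f x⁻¹ = (Fr.f x)⁻¹ :=
  map_inv Fr.hom ⟨x, hx⟩

theorem Frame.f_conj (Fr : Frame G P) {k x : G} (hk : k ∈ Fr.ME) (hx : x ∈ Fr.ME) :
    Fr.f (k * x * k⁻¹) = Fr.f k * Fr.f x * (Fr.f k)⁻¹ := by
  rw [Fr.f_mul _ (mul_mem hk hx) _ (inv_mem hk), Fr.f_mul _ hk _ hx, Fr.f_inv hk]

theorem Frame.f_inj (Fr : Frame G P) {A : Subgroup G} (hA : A ≤ Fr.ME) (h2 : IsPGroup 2 A) {x y : G}
    (hx : x ∈ A) (hy : y ∈ A) (h : Fr.f x = Fr.f y) : x = y := by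
  refine mul_inv_eq_one.1 (Fr.f_ker A hA h2 _ (mul_mem hx (inv_mem hy)) ?_)
  rw [Fr.f_mul _ (hA hx) _ (inv_mem (hA hy)), Fr.f_inv (hA hy), h, mul_inv_cancel]

theorem Frame.commute_t (Fr : Frame G P) {x : G} (hx : x ∈ Fr.ME) : x * Fr.t = Fr.t * x :=
  mem_centralizer_singleton_iff.1 (Fr.le_C hx)

theorem Frame.t_mul_t (Fr : Frame G P) : Fr.t * Fr.t = 1 := H70.mul_self_of_two Fr.ht

theorem Frame.t_inv (Fr : Frame G P) : Fr.t⁻¹ = Fr.t := H70.inv_eq_self_of_two Fr.ht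

theorem Frame.t_mem_C (Fr : Frame G P) : Fr.t ∈ C(Fr.t) := mem_centralizer_singleton_iff.2 rfl

/-- `⟨t⟩ × W` -/
def Frame.ext (Fr : Frame G P) (W : Subgroup G) (hW : W ≤ Fr.ME) : Subgroup G where
  carrier := {x | x ∈ W ∨ Fr.t * x ∈ W}
  one_mem' := Or.inl (one_mem _)
  mul_mem' := by
    intro x y hx hy
    rcases hx with hx | hx <;> rcases hy with hy | hy
    · exact Or.inl (mul_mem hx hy)
    · right
      rw [← mul_assoc, ← Fr.commute_t (hW hx), mul_assoc]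
      exact mul_mem hx hy
    · right
      rw [← mul_assoc]
      exact mul_mem hx hy
    · left
      have h1 : x * y = (Fr.t * x) * (Fr.t * y) := by
        have hc := Fr.commute_t (hW hx)
        have hc' : x * Fr.t = Fr.t * x := by
          rwa [← mul_assoc, Fr.t_mul_t, one_mul, mul_assoc, ← eq_inv_mul_iff_mul_eq, Fr.t_inv] at hc
        calc x * y = x * (Fr.t * Fr.t) * y := by rw [Fr.t_mul_t, mul_one]
          _ = x * Fr.t * (Fr.t * y) := by group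
          _ = _ := by rw [hc']
      rw [h1]; exact mul_mem hx hy
  inv_mem' := by
    intro x hx
    rcases hx with hx | hx
    · exact Or.inl (inv_mem hx)
    · right
      have hc := Fr.commute_t (hW (inv_mem hx))
      rw [mul_inv_rev, Fr.t_inv] at hc
      rw [show Fr.t * x⁻¹ = (Fr.t * x)⁻¹ by
        rw [mul_inv_rev, Fr.t_inv]
        rw [mul_assoc, Fr.t_mul_t, mul_one, ← mul_assoc] at hc
        conv_rhs => rw [hc]
        rw [mul_assoc, Fr.t_mul_t, mul_one]]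
      exact inv_mem hx

theorem Frame.mem_ext (Fr : Frame G P) {W : Subgroup G} {hW : W ≤ Fr.ME} {x : G} :
    x ∈ Fr.ext W hW ↔ x ∈ W ∨ Fr.t * x ∈ W := Iff.rfl

theorem Frame.le_ext (Fr : Frame G P) {W : Subgroup G} (hW : W ≤ Fr.ME) : W ≤ Fr.ext W hW :=
  fun _ h => Or.inl h

theorem Frame.t_mem_ext (Fr : Frame G P) {W : Subgroup G} (hW : W ≤ Fr.ME) : Fr.t ∈ Fr.ext W hW :=
  Or.inr (by rw [Fr.t_mul_t]; exact one_mem _)

theorem Frame.t_mul_mem_ext (Fr : Frame G P) {W : Subgroup G} (hW : W ≤ Fr.ME) {v : G} (hv : v ∈ W) :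
    Fr.t * v ∈ Fr.ext W hW :=
  mul_mem (Fr.t_mem_ext hW) (Fr.le_ext hW hv)

theorem Frame.t_mul_not_ME (Fr : Frame G P) {v : G} (hv : v ∈ Fr.ME) : Fr.t * v ∉ Fr.ME := fun h =>
  Fr.ht_not (by simpa using mul_mem h (inv_mem hv))

theorem Frame.card_ext (Fr : Frame G P) (W : Subgroup G) (hW : W ≤ Fr.ME) :
    Nat.card (Fr.ext W hW) = 2 * Nat.card W := by
  classical
  rw [← Nat.card_congr (Equiv.ofBijective
    (fun p : Bool × W => (if p.1 then ⟨Fr.t * p.2, Fr.t_mul_mem_ext hW p.2.2⟩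
      else ⟨p.2, Fr.le_ext hW p.2.2⟩ : Fr.ext W hW))
    ⟨?_, ?_⟩), Nat.card_prod, Nat.card_eq_fintype_card (α := Bool), Fintype.card_bool]
  · rintro ⟨a, x⟩ ⟨b, y⟩ h
    cases a <;> cases b <;> simp only [Bool.false_eq_true, if_false, if_true] at h <;>
      have h' := congrArg Subtype.val h
    · exact Prod.ext rfl (Subtype.ext h')
    · exact absurd (show Fr.t * (y : G) ∈ Fr.ME by
        rw [← show (x : G) = Fr.t * y from h']; exact hW x.2) (Fr.t_mul_not_ME (hW y.2))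
    · exact absurd (show Fr.t * (x : G) ∈ Fr.ME by
        rw [show Fr.t * (x : G) = y from h']; exact hW y.2) (Fr.t_mul_not_ME (hW x.2))
    · exact Prod.ext rfl (Subtype.ext (mul_left_cancel h'))
  · rintro ⟨x, hx | hx⟩
    · exact ⟨⟨false, ⟨x, hx⟩⟩, by simp⟩
    · exact ⟨⟨true, ⟨Fr.t * x, hx⟩⟩, by simp [← mul_assoc, Fr.t_mul_t]⟩

/-- `⟨t⟩ × V` -/
def Frame.S0 (Fr : Frame G P) : Subgroup G := Fr.ext Fr.V Fr.V_le

theorem Frame.mem_S0 (Fr : Frame G P) {x : G} : x ∈ Fr.S0 ↔ x ∈ Fr.V ∨ Fr.t * x ∈ Fr.V := Iff.rfl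

theorem Frame.V_le_S0 (Fr : Frame G P) : Fr.V ≤ Fr.S0 := Fr.le_ext Fr.V_le

theorem Frame.t_mem_S0 (Fr : Frame G P) : Fr.t ∈ Fr.S0 := Fr.t_mem_ext Fr.V_le

theorem Frame.tv_mem_S0 (Fr : Frame G P) {v : G} (hv : v ∈ Fr.V) : Fr.t * v ∈ Fr.S0 :=
  Fr.t_mul_mem_ext Fr.V_le hv

theorem Frame.t_not_V (Fr : Frame G P) : Fr.t ∉ Fr.V := fun h => Fr.ht_not (Fr.V_le h)

theorem Frame.tv_not_V (Fr : Frame G P) {v : G} (hv : v ∈ Fr.V) : Fr.t * v ∉ Fr.V := fun h =>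
  Fr.t_not_V (by simpa using mul_mem h (inv_mem hv))

theorem Frame.S0_le_C (Fr : Frame G P) : Fr.S0 ≤ C(Fr.t) := by
  intro x hx
  rcases hx with hx | hx
  · exact Fr.le_C (Fr.V_le hx)
  · have h := mul_mem Fr.t_mem_C (Fr.le_C (Fr.V_le hx))
    rwa [← mul_assoc, Fr.t_mul_t, one_mul] at h

theorem Frame.card_S0 (Fr : Frame G P) : Nat.card Fr.S0 = 2 * Nat.card Fr.V :=
  Fr.card_ext _ _

theorem Frame.S0_two (Fr : Frame G P) : IsPGroup 2 Fr.S0 := by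
  haveI : Fact (Nat.Prime 2) := ⟨Nat.prime_two⟩
  obtain ⟨k, hk⟩ := IsPGroup.iff_card.1 Fr.V_two
  exact IsPGroup.of_card (n := k + 1) (by rw [Fr.card_S0, hk, pow_succ, mul_comm])

theorem Frame.card_C (Fr : Frame G P) :
    ∃ j, Odd j ∧ Nat.card C(Fr.t) = Nat.card Fr.S0 * j := by
  obtain ⟨j, hj, hc⟩ := Fr.hcard
  have h : Nat.card Fr.ME = Nat.card Fr.V * Fr.V.relIndex Fr.ME := by
    have h1 := (Fr.V.subgroupOf Fr.ME).card_mul_index
    rw [Nat.card_congr (subgroupOfEquivOfLe Fr.V_le).toEquiv] at h1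
    exact h1.symm
  refine ⟨j * Fr.V.relIndex Fr.ME, hj.mul (Nat.not_even_iff_odd.1 fun he => Fr.V_odd (even_iff_two_dvd.1 he)), ?_⟩
  rw [hc, Fr.card_S0, h]; ring

theorem Frame.S0_odd (Fr : Frame G P) : ¬ 2 ∣ Fr.S0.relIndex C(Fr.t) := by
  obtain ⟨j, hj, hc⟩ := Fr.card_C
  have h1 := (Fr.S0.subgroupOf C(Fr.t)).card_mul_index
  rw [Nat.card_congr (subgroupOfEquivOfLe Fr.S0_le_C).toEquiv, hc] at h1
  rw [Subgroup.relIndex, Nat.eq_of_mul_eq_mul_left Nat.card_pos h1]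
  exact fun h => (Nat.not_even_iff_odd.2 hj) (even_iff_two_dvd.2 h)

theorem Frame.exists_cj_S0 (Fr : Frame G P) {A : Subgroup G} (hA : IsPGroup 2 A) (hle : A ≤ C(Fr.t)) :
    ∃ c ∈ C(Fr.t), H70.cj c A ≤ Fr.S0 :=
  exists_cj_le_of_odd Fr.S0_two Fr.S0_le_C Fr.S0_odd hA hle

theorem cj_centralizer (g x : G) : H70.cj g (centralizer ({x} : Set G)) = centralizer ({g * x * g⁻¹} : Set G) := by
  ext y
  rw [H70.mem_cj, mem_centralizer_singleton_iff, mem_centralizer_singleton_iff]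
  constructor
  · intro h
    calc y * (g * x * g⁻¹) = g * (g⁻¹ * y * g * x) * g⁻¹ := by group
      _ = g * (x * (g⁻¹ * y * g)) * g⁻¹ := by rw [h]
      _ = g * x * g⁻¹ * y := by group
  · intro h
    calc g⁻¹ * y * g * x = g⁻¹ * (y * (g * x * g⁻¹)) * g := by group
      _ = g⁻¹ * (g * x * g⁻¹ * y) * g := by rw [h]
      _ = x * (g⁻¹ * y * g) := by group

/-- 2-subgroups centralizing a conjugate of `t` have order dividing `2|V|` -/
theorem Frame.two_bound (Fr : Frame G P) {A : Subgroup G} (hA : IsPGroup 2 A) {x : G}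
    (hx : IsConj Fr.t x) (hle : A ≤ C(x)) : Nat.card A ∣ 2 * Nat.card Fr.V := by
  obtain ⟨g, rfl⟩ := isConj_iff.1 hx
  rw [← cj_centralizer, ← inv_inv g, ← H70.cj_le_iff] at hle
  rw [← Fr.card_S0, ← H70.card_cj g⁻¹ A]
  exact card_le_of_isPGroup Fr.S0_two Fr.S0_le_C Fr.S0_odd (hA.map _) hle

theorem Frame.not_conj_of_centralizer (Fr : Frame G P) {A : Subgroup G} (hA : IsPGroup 2 A) {x : G}
    (hle : A ≤ C(x)) (hlt : 2 * Nat.card Fr.V < Nat.card A) : ¬ IsConj Fr.t x := fun hx =>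
  absurd (Nat.le_of_dvd (Nat.mul_pos two_pos Nat.card_pos) (Fr.two_bound hA hx hle)) (Nat.not_le.2 hlt)

/-- elements normalizing a 2-subgroup of the image lift -/
theorem Frame.lift_normalizer (Fr : Frame G P) {W : Subgroup G} (hW : W ≤ Fr.V) {p : P}
    (hp : ∀ w ∈ W, ∃ w' ∈ W, Fr.f w' = p * Fr.f w * p⁻¹) :
    ∃ k ∈ Fr.ME, k ∈ normalizer (W : Set G) ∧ ∀ w ∈ W, Fr.f (k * w * k⁻¹) = p * Fr.f w * p⁻¹ := by
  haveI : Fact (Nat.Prime 2) := ⟨Nat.prime_two⟩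
  obtain ⟨k₀, hk₀, hfk⟩ := Fr.f_surj p
  have hWM : W ≤ Fr.ME := hW.trans Fr.V_le
  have hW2 : IsPGroup 2 W := Fr.V_two.to_le hW
  -- the preimage of the image of `W`
  let π : Fr.ME →* P := Fr.hom
  set W' := W.subgroupOf Fr.ME
  let H : Subgroup Fr.ME := (W'.map π).comap π
  have hW'H : W' ≤ H := le_comap_map π W'
  set H' : Subgroup G := H.map Fr.ME.subtype
  have hWH : W ≤ H' := fun w hw => ⟨⟨w, hWM hw⟩, hW'H hw, rfl⟩
  have hodd : ¬ 2 ∣ W.relIndex H' := by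
    intro h2
    have hd : W.relIndex H' ∣ Nat.card π.ker := by
      have e : Nat.card H' = Nat.card π.ker * Nat.card (W'.map π) := by
        rw [card_map_of_injective Fr.ME.subtype_injective]
        have h1 : Nat.card H = Nat.card (H.map π) * Nat.card π.ker := by
          have hkH : π.ker ≤ H := fun x hx => mem_comap.2 (hx.symm ▸ one_mem _)
          have h2' := (π.domRestrict H).ker.card_mul_index
          rw [Subgroup.index_ker, MonoidHom.domRestrict_range] at h2'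
          rw [← h2', mul_comm]
          congr 1
          exact Nat.card_congr ((MulEquiv.subgroupCongr (MonoidHom.ker_domRestrict H π)).trans (subgroupOfEquivOfLe hkH)).toEquiv
        rw [h1, Subgroup.map_comap_eq_self (map_le_range π W'), mul_comm]
      have h3 := (W.subgroupOf H').card_mul_index
      rw [Nat.card_congr (subgroupOfEquivOfLe hWH).toEquiv, e] at h3
      have h4 : Nat.card (W'.map π) ∣ Nat.card W := by
        rw [← Nat.card_congr (subgroupOfEquivOfLe hWM).toEquiv]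
        exact card_dvd_of_surjective _ (π.subgroupMap_surjective W')
      obtain ⟨c, hc⟩ := h4
      refine ⟨c, ?_⟩
      have h5 : Nat.card (W'.map π) * (c * W.relIndex H') = Nat.card (W'.map π) * Nat.card π.ker := by
        rw [← mul_assoc, ← hc, mul_comm _ (Nat.card π.ker)]; exact h3
      rw [← Nat.eq_of_mul_eq_mul_left Nat.card_pos h5, mul_comm]
    exact Fr.ker_odd (h2.trans hd)
  have hA : H70.cj k₀ W ≤ H' := by
    rintro _ ⟨w, hw, rfl⟩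
    refine ⟨⟨k₀ * w * k₀⁻¹, mul_mem (mul_mem hk₀ (hWM hw)) (inv_mem hk₀)⟩, ?_, rfl⟩
    obtain ⟨w', hw', he⟩ := hp w hw
    refine mem_comap.2 ⟨⟨w', hWM hw'⟩, hw', ?_⟩
    show Fr.f w' = Fr.f (k₀ * w * k₀⁻¹)
    rw [he, Fr.f_conj hk₀ (hWM hw), hfk]
  obtain ⟨h, hhH, hh⟩ := exists_cj_le_of_odd hW2 hWH hodd (hW2.map _) hA
  obtain ⟨⟨h', hhM⟩, hh', rfl⟩ := hhH
  obtain ⟨⟨w₁, hw₁M⟩, hw₁, hfw₁⟩ := mem_comap.1 hh'
  change Fr.f w₁ = Fr.f h' at hfw₁
  set h₁ := w₁⁻¹ * h' with hh₁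
  have hh₁M : h₁ ∈ Fr.ME := mul_mem (inv_mem hw₁M) hhM
  have hfh₁ : Fr.f h₁ = 1 := by
    rw [hh₁, Fr.f_mul _ (inv_mem hw₁M) _ hhM, Fr.f_inv hw₁M, hfw₁, inv_mul_cancel]
  have hkW : ∀ w ∈ W, h₁ * k₀ * w * (h₁ * k₀)⁻¹ ∈ W := by
    intro w hw
    have h2 : h' * (k₀ * w * k₀⁻¹) * h'⁻¹ ∈ W := hh ⟨_, ⟨w, hw, rfl⟩, rfl⟩
    have h3 := mul_mem (mul_mem (inv_mem (show w₁ ∈ W from hw₁)) h2) (show w₁ ∈ W from hw₁)
    rw [show w₁⁻¹ * (h' * (k₀ * w * k₀⁻¹) * h'⁻¹) * w₁ = h₁ * k₀ * w * (h₁ * k₀)⁻¹ by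
      rw [hh₁]; group] at h3
    exact h3
  refine ⟨h₁ * k₀, mul_mem hh₁M hk₀, mem_normalizer_of hkW, fun w hw => ?_⟩
  rw [Fr.f_conj (mul_mem hh₁M hk₀) (hWM hw), Fr.f_mul _ hh₁M _ hk₀, hfh₁, one_mul, hfk]

theorem Frame.f_orderOf (Fr : Frame G P) {v : G} (hv : v ∈ Fr.ME) (h : orderOf v = 2) :
    orderOf (Fr.f v) = 2 := by
  haveI : Fact (Nat.Prime 2) := ⟨Nat.prime_two⟩
  refine orderOf_eq_prime ?_ fun h1 => ?_
  · rw [pow_two, ← Fr.f_mul _ hv _ hv, H70.mul_self_of_two h, Fr.f_one]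
  · have h2 : IsPGroup 2 (zpowers v) := IsPGroup.of_card (n := 1) (by rw [Nat.card_zpowers, h, pow_one])
    have := Fr.f_ker _ (zpowers_le.2 hv) h2 v (mem_zpowers v) h1
    rw [this, orderOf_one] at h
    omega

/-- the involutions of `ME` are conjugate under it -/
theorem Frame.invol_conj (Fr : Frame G P) {v w : G} (hv : v ∈ Fr.ME) (hv2 : orderOf v = 2)
    (hw : w ∈ Fr.ME) (hw2 : orderOf w = 2) : ∃ c ∈ Fr.ME, c * v * c⁻¹ = w := by
  obtain ⟨p, hp⟩ := isConj_iff.1 (Fr.conj_inv _ _ (Fr.f_orderOf hv hv2) (Fr.f_orderOf hw hw2))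
  obtain ⟨k, hk, hfk⟩ := Fr.f_surj p
  let a : Fr.ME := ⟨k * v * k⁻¹, mul_mem (mul_mem hk hv) (inv_mem hk)⟩
  let b : Fr.ME := ⟨w, hw⟩
  have ha : orderOf a = 2 := by
    rw [← Subgroup.orderOf_coe]
    exact (MulEquiv.orderOf_eq (MulAut.conj k) v).trans hv2
  have hb : orderOf b = 2 := by rw [← Subgroup.orderOf_coe]; exact hw2
  have hab : a * b ∈ Fr.hom.ker := by
    show Fr.f (k * v * k⁻¹ * w) = 1
    rw [Fr.f_mul _ a.2 _ hw, Fr.f_conj hk hv, hfk, hp]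
    exact H70.mul_self_of_two (Fr.f_orderOf hw hw2)
  have hodd : Odd (orderOf (a * b)) := by
    rw [← Nat.not_even_iff_odd, even_iff_two_dvd]
    exact fun h => Fr.ker_odd (h.trans (Subgroup.orderOf_dvd_natCard _ hab))
  obtain ⟨h, hh⟩ := isConj_iff.1 (H70.isConj_of_odd_prod ha hb hodd)
  refine ⟨(h : G) * k, mul_mem h.2 hk, ?_⟩
  have := congrArg (Subtype.val : Fr.ME → G) hh
  calc (h : G) * k * v * ((h : G) * k)⁻¹ = h * (k * v * k⁻¹) * (h : G)⁻¹ := by group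
    _ = w := this

/-- all `tv`, `v` an involution of `V`, are conjugate in the centralizer -/
theorem Frame.tv_conj (Fr : Frame G P) {v w : G} (hv : v ∈ Fr.V) (hv2 : orderOf v = 2) (hw : w ∈ Fr.V)
    (hw2 : orderOf w = 2) : IsConj (Fr.t * v) (Fr.t * w) := by
  obtain ⟨c, hc, he⟩ := Fr.invol_conj (Fr.V_le hv) hv2 (Fr.V_le hw) hw2
  refine isConj_iff.2 ⟨c, ?_⟩
  rw [← he, ← mul_assoc, Fr.commute_t hc]
  group

/-- involutions of `S0` -/
theorem Frame.invol_cases (Fr : Frame G P) {x : G} (hx : x ∈ Fr.S0) (h2 : orderOf x = 2) :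
    (x ∈ Fr.V) ∨ x = Fr.t ∨ ∃ v ∈ Fr.V, orderOf v = 2 ∧ x = Fr.t * v := by
  rcases hx with hx | hx
  · exact Or.inl hx
  right
  by_cases h1 : Fr.t * x = 1
  · left; rw [← Fr.t_inv]; exact eq_inv_of_mul_eq_one_right h1
  · right
    refine ⟨Fr.t * x, hx, orderOf_eq_prime ?_ h1, by rw [← mul_assoc, Fr.t_mul_t, one_mul]⟩
    have hc : x * Fr.t = Fr.t * x := mem_centralizer_singleton_iff.1 (Fr.S0_le_C (Or.inr hx))
    rw [(show Commute Fr.t x from hc.symm).mul_pow, pow_two, pow_two, Fr.t_mul_t,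
      H70.mul_self_of_two h2, one_mul]

/-- if an index-two subgroup of a Sylow subgroup meets no conjugate of an involution: contradiction -/
theorem Frame.no_transfer (Fr : Frame G P) {T Q : Subgroup G} (hT : IsPGroup 2 T)
    (hTodd : ¬ 2 ∣ T.index) (hQ : Q ≤ T) (hidx : Q.relIndex T = 2)
    (hno : ∀ x ∈ Q, ¬ IsConj Fr.t x) : False := by
  obtain ⟨M, -, hM⟩ := H6.exists_index_two_of_not_conj_mem Q T.index
    (Nat.not_even_iff_odd.1 fun h => hTodd (even_iff_two_dvd.1 h))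
    (by rw [← Subgroup.relIndex_mul_index hQ, hidx]) Fr.t
    (by rw [pow_two]; exact Fr.t_mul_t) (fun g hg => hno _ hg (isConj_iff.2 ⟨g, rfl⟩))
  exact Fr.hno M hM.1

end H70.TwoLayer
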