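import Cfsg.Agent.H70.TwoLayer.LevelFacts
import Cfsg.Agent.H70.TwoLayer.AffineFinal

/-! The case where the centralizer of `V` fixes the class of `t`. -/

set_option autoImplicit false
set_option linter.style.haveILetI false
set_option maxHeartbeats 800000

namespace H70.TwoLayer

open Subgroup

universe u v

variable {G : Type u} [Group G] [Finite G] {P : Type v} [Group P] [Finite P]

local notation "C(" x ")" => Subgroup.centralizer ({x} : Set G)

/-- elements of an elementary group of order eight fixed by an involution -/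
theorem card_fixed_of_involution {V : Subgroup G} (h8 : Nat.card V = 8) (hsq : ∀ v ∈ V, v * v = 1)
    {u : G} (hu : u ∈ normalizer (V : Set G)) (hu2 : ∀ v ∈ V, u * (u * v * u⁻¹) * u⁻¹ = v)
    (hne : ∃ v ∈ V, u * v * u⁻¹ ≠ v) : Nat.card (V ⊓ C(u) : Subgroup G) = 4 := by
  have hcomm : ∀ a ∈ V, ∀ b ∈ V, a * b = b * a := fun a ha b hb => by
    calc a * b = (a * b) * ((b * a) * (b * a)) := by rw [hsq _ (mul_mem hb ha), mul_one]
      _ = a * (b * b) * a * (b * a) := by group
      _ = b * a := by rw [hsq b hb, mul_one, hsq a ha, one_mul]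
  set F := V ⊓ C(u)
  let f : V →* G :=
    { toFun := fun v => (v : G) * (u * v * u⁻¹)
      map_one' := by simp
      map_mul' := fun a b => by
        have h := hcomm _ (conj_mem_of_mem_normalizer hu a.2) b b.2
        show (a : G) * b * (u * (a * b) * u⁻¹) = a * (u * a * u⁻¹) * (b * (u * b * u⁻¹))
        calc (a : G) * b * (u * (a * b) * u⁻¹) = a * ((b : G) * (u * a * u⁻¹)) * (u * b * u⁻¹) := by group
          _ = a * (u * a * u⁻¹ * (b : G)) * (u * b * u⁻¹) := by rw [h]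
          _ = _ := by group }
  have hk : f.ker = F.subgroupOf V := by
    ext v
    rw [MonoidHom.mem_ker, mem_subgroupOf]
    constructor
    · intro h
      refine mem_inf.2 ⟨v.2, mem_centralizer_singleton_iff.2 ?_⟩
      have h1 : u * (v : G) * u⁻¹ = v :=
        (eq_inv_of_mul_eq_one_right h).trans (inv_eq_of_mul_eq_one_right (hsq v v.2))
      exact (mul_inv_eq_iff_eq_mul.1 h1).symm
    · intro h
      show (v : G) * (u * v * u⁻¹) = 1
      rw [← mem_centralizer_singleton_iff.1 (mem_inf.1 h).2, mul_inv_cancel_right, hsq v v.2]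
  have hr : f.range ≤ F := by
    rintro _ ⟨v, rfl⟩
    refine mem_inf.2 ⟨mul_mem v.2 (conj_mem_of_mem_normalizer hu v.2), mem_centralizer_singleton_iff.2 ?_⟩
    have h1 : u * ((v : G) * (u * v * u⁻¹)) * u⁻¹ = (v : G) * (u * v * u⁻¹) := by
      calc u * ((v : G) * (u * v * u⁻¹)) * u⁻¹ = (u * v * u⁻¹) * (u * (u * v * u⁻¹) * u⁻¹) := by group
        _ = (u * v * u⁻¹) * v := by rw [hu2 v v.2]
        _ = _ := hcomm _ (conj_mem_of_mem_normalizer hu v.2) _ v.2
    exact (mul_inv_eq_iff_eq_mul.1 h1).symm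
  have h := f.ker.card_mul_index
  rw [Subgroup.index_ker, hk, Nat.card_congr (subgroupOfEquivOfLe (inf_le_left : F ≤ V)).toEquiv, h8] at h
  have hle := card_le_of_le hr
  have hd : Nat.card F ∣ 8 := h8 ▸ card_dvd_of_le inf_le_left
  have hne8 : Nat.card F ≠ 8 := fun h' => by
    obtain ⟨v, hv, hv'⟩ := hne
    have he : F = V := eq_of_le_of_card_ge inf_le_left (by rw [h', h8])
    have h2 := mem_centralizer_singleton_iff.1 (mem_inf.1 (he.symm ▸ hv : v ∈ F)).2
    exact hv' (by rw [← h2, mul_inv_cancel_right])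
  have h3 := Nat.le_of_dvd (by norm_num) hd
  interval_cases (Nat.card F) <;> omega

variable {Fr : Frame G P} {E : VElem Fr} {M : Subgroup G}

/-- the affine group of a level -/
theorem Level.exists_aff (L : Level Fr E M)
    (htriv : ∀ k ∈ normalizer (L.Z : Set G), (∀ v ∈ Fr.V, k * v = v * k) → L.c k = 1) {n : ℕ}
    (hn : Nat.card Fr.V = 2 ^ n) (hn2 : 2 ≤ n) :
    n ≤ 3 ∧ 3 ≤ n ∧ (normalizer (L.Z : Set G) ⊓ L.St).relIndex (normalizer (L.Z : Set G)) = 2 ^ n := by
  classical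
  haveI : Fact (Nat.Prime 2) := ⟨Nat.prime_two⟩
  set N := normalizer (L.Z : Set G)
  letI : CommGroup Fr.V :=
    { (inferInstance : Group Fr.V) with mul_comm := fun a b => Subtype.ext (E.comm a.2 b.2) }
  let ρ : N →* MulAut Fr.V :=
    { toFun := fun x =>
        { toFun := fun v => ⟨(x : G) * v * (x : G)⁻¹, L.conj_N_V x.2 v.2⟩
          invFun := fun v => ⟨(x : G)⁻¹ * v * x, by simpa using L.conj_N_V (inv_mem x.2) v.2⟩
          left_inv := fun v => Subtype.ext (by simp [mul_assoc])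
          right_inv := fun v => Subtype.ext (by simp [mul_assoc])
          map_mul' := fun a b => Subtype.ext (by simp [mul_assoc]) }
      map_one' := MulEquiv.ext fun v => Subtype.ext (by simp)
      map_mul' := fun x y => MulEquiv.ext fun v => Subtype.ext (by simp [mul_assoc]) }
  have hρ : ∀ (x : N) (v : Fr.V), ((ρ x v : Fr.V) : G) = x * v * (x : G)⁻¹ := fun _ _ => rfl
  let cN : N → Fr.V := fun x => ⟨L.c x, L.c_mem x.2⟩
  have hcoc : ∀ x y : N, cN (x * y) = cN x * ρ x (cN y) := fun x y => Subtype.ext (L.c_mul x.2 y.2)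
  have hwd : ∀ x y : N, ρ x = ρ y → cN x = cN y := by
    intro x y h
    have hk : ρ (x⁻¹ * y) = 1 := by rw [map_mul, map_inv, h, inv_mul_cancel]
    have h1 : cN (x⁻¹ * y) = 1 := Subtype.ext (htriv _ (x⁻¹ * y).2 fun v hv => by
      have h2 := congrArg (fun f : MulAut Fr.V => ((f ⟨v, hv⟩ : Fr.V) : G)) hk
      simp only [hρ, MulAut.one_apply] at h2
      exact mul_inv_eq_iff_eq_mul.1 h2)
    have h3 := hcoc x (x⁻¹ * y)
    rw [mul_inv_cancel_left, h1, map_one, mul_one] at h3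
    exact h3.symm
  let cX : ρ.range → Fr.V := fun X => cN X.2.choose
  have hcX : ∀ x : N, cX ⟨ρ x, ⟨x, rfl⟩⟩ = cN x := fun x =>
    hwd _ _ (Exists.choose_spec (⟨x, rfl⟩ : ∃ y, ρ y = ρ x))
  have honto : ∀ v : Fr.V, ∃ x : N, cN x = v := by
    intro v
    by_cases hv : (v : G) = 1
    · exact ⟨1, Subtype.ext (L.c_one.trans hv.symm)⟩
    obtain ⟨k, hk, hk1⟩ := L.exists_c_ne
    obtain ⟨j, hj⟩ := L.trans (L.c_mem hk) v.2 hk1 hv
    refine ⟨⟨L.r ^ j * k * (L.r ^ j)⁻¹,
      mul_mem (mul_mem (pow_mem L.r_N_Z j) hk) (inv_mem (pow_mem L.r_N_Z j))⟩, Subtype.ext ?_⟩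
    show L.c (L.r ^ j * k * (L.r ^ j)⁻¹) = v
    rw [L.c_conj (pow_mem L.r_C j) (pow_mem L.r_N_Z j) hk, hj]
  set St' := L.St.subgroupOf N
  have hSt : ∀ x : N, x ∈ St' ↔ cN x = 1 := fun x =>
    ⟨fun h => Subtype.ext (mem_subgroupOf.1 h).2, fun h => mem_subgroupOf.2 ⟨x.2, congrArg Subtype.val h⟩⟩
  have hidx : St'.index = 2 ^ n := by
    rw [Subgroup.index_eq_card, ← hn]
    refine Nat.card_congr (Equiv.ofBijective (fun q => cN q.out) ⟨?_, ?_⟩)
    · intro a b h
      change cN a.out = cN b.out at h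
      rw [← QuotientGroup.out_eq' a, ← QuotientGroup.out_eq' b]
      refine QuotientGroup.eq.2 ((hSt _).2 ?_)
      have h1 := hcoc a.out (a.out⁻¹ * b.out)
      rw [mul_inv_cancel_left, h, left_eq_mul, ← map_one (ρ a.out)] at h1
      exact (ρ a.out).injective h1
    · intro v
      obtain ⟨x, hx⟩ := honto v
      refine ⟨(x : N ⧸ St'), ?_⟩
      obtain ⟨⟨l, hl⟩, he⟩ := QuotientGroup.mk_out_eq_mul St' x
      show cN (Quotient.out (x : N ⧸ St')) = v
      rw [he, hcoc, (hSt l).1 hl, map_one, mul_one, hx]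
  have hodd : Odd (Nat.card {X : ρ.range // cX X = 1}) := by
    let g : St' →* MulAut Fr.V := ρ.comp St'.subtype
    have hco : Nat.card {X : ρ.range // cX X = 1} = Nat.card g.range := by
      refine Nat.card_congr (Equiv.ofBijective (fun X => (⟨(X.1 : MulAut Fr.V), ?_⟩ : g.range)) ⟨?_, ?_⟩)
      · obtain ⟨⟨f, x, rfl⟩, hx⟩ := X
        rw [hcX] at hx
        exact ⟨⟨x, (hSt x).2 hx⟩, rfl⟩
      · rintro ⟨a, ha⟩ ⟨b, hb⟩ h
        simp only [Subtype.mk.injEq] at h
        exact Subtype.ext (Subtype.ext h)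
      · rintro ⟨_, ⟨x, hx⟩, rfl⟩
        exact ⟨⟨⟨ρ x, ⟨x, rfl⟩⟩, by rw [hcX]; exact (hSt x).1 hx⟩, rfl⟩
    rw [hco, ← Subgroup.index_ker]
    rw [← Nat.not_even_iff_odd, even_iff_two_dvd]
    intro h2
    obtain ⟨S, hS⟩ := (L.Z_two.of_equiv (subgroupOfEquivOfLe L.Z_le_St).symm).exists_le_sylow
    have hSZ : ((S : Subgroup L.St).map L.St.subtype) ≤ L.Z :=
      L.two_le_Z (S.2.map _) (fun x hx => ⟨⟨x, L.Z_le_St hx⟩, hS hx, rfl⟩) (map_subtype_le _)
    let e : St' ≃* L.St := subgroupOfEquivOfLe (fun x hx => hx.1)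
    have hker : (S : Subgroup L.St).comap e.toMonoidHom ≤ g.ker := by
      intro x hx
      rw [MonoidHom.mem_ker]
      refine MulEquiv.ext fun v => Subtype.ext ?_
      have hxZ : (((x : St') : N) : G) ∈ L.Z := hSZ ⟨e x, hx, rfl⟩
      show ((x : N) : G) * v * ((x : N) : G)⁻¹ = v
      rw [L.Z_comm_V hxZ v.2, mul_inv_cancel_right]
    have h3 := h2.trans (Subgroup.index_dvd_of_le hker)
    rw [Subgroup.index_comap_of_surjective _ e.surjective] at h3
    exact S.not_dvd_index h3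
  let r' : N := ⟨L.r, L.r_N_Z⟩
  let D : Aff ρ.range Fr.V :=
    { n := n, hV := hn, hn := hn2, ρ := ρ.range.subtype, inj := Subtype.val_injective, c := cX
      coc := by
        rintro ⟨_, x, rfl⟩ ⟨_, y, rfl⟩
        rw [show (⟨ρ x, ⟨x, rfl⟩⟩ : ρ.range) * ⟨ρ y, ⟨y, rfl⟩⟩ = ⟨ρ (x * y), ⟨x * y, rfl⟩⟩ from
          Subtype.ext (map_mul ρ x y).symm, hcX, hcX, hcX]
        exact hcoc x y
      onto := fun v => let ⟨x, hx⟩ := honto v; ⟨⟨ρ x, ⟨x, rfl⟩⟩, (hcX x).trans hx⟩
      odd := hodd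
      r := ⟨ρ r', ⟨r', rfl⟩⟩
      hr := (hcX r').trans (Subtype.ext (L.c_of_C L.r_C))
      trans := fun v w hv hw => by
        obtain ⟨j, hj⟩ := L.trans v.2 w.2 (fun h => hv (Subtype.ext h)) (fun h => hw (Subtype.ext h))
        refine ⟨j, Subtype.ext ?_⟩
        show (((ρ r') ^ j) v : G) = w
        rw [← map_pow, hρ]
        simpa using hj
      norm := by
        rintro ⟨_, x, rfl⟩ hx
        rw [hcX] at hx
        obtain ⟨m, hm, hmx⟩ := L.exists_mul_C (mem_subgroupOf.1 ((hSt x).2 hx))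
        have hmN : m ∈ N := le_normalizer (L.M_le_Z hm)
        have hV : m * (x : G) ∈ normalizer (Fr.V : Set G) :=
          mem_normalizer_of fun v hv => L.conj_N_V (mul_mem hmN x.2) hv
        obtain ⟨j, hj⟩ := E.norm _ hmx hV
        refine ⟨j, Subtype.ext ?_⟩
        show ρ x * ρ r' * (ρ x)⁻¹ = (ρ r') ^ j
        rw [← map_pow, ← map_inv, ← map_mul, ← map_mul]
        refine MulEquiv.ext fun v => Subtype.ext ?_
        rw [hρ, hρ]
        show (x : G) * L.r * (x : G)⁻¹ * v * ((x : G) * L.r * (x : G)⁻¹)⁻¹ = L.r ^ j * v * (L.r ^ j)⁻¹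
        rw [L.r_pow_act j v.2, ← hj v v.2]
        set y := m * (x : G)
        have hmV : ∀ w ∈ Fr.V, m * w * m⁻¹ = w := fun w hw => by
          rw [L.comm m hm w (L.V_le hw), mul_inv_cancel_right]
        have hxV : ∀ w ∈ Fr.V, y * w * y⁻¹ = (x : G) * w * (x : G)⁻¹ := fun w hw => by
          rw [show y * w * y⁻¹ = m * ((x : G) * w * (x : G)⁻¹) * m⁻¹ by simp only [y]; group,
            hmV _ (L.conj_N_V x.2 hw)]
        have hw : (x : G)⁻¹ * v * x ∈ Fr.V := by simpa using L.conj_N_V (inv_mem x.2) v.2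
        have hyw : y⁻¹ * v * y = (x : G)⁻¹ * v * x := by
          calc y⁻¹ * v * y = y⁻¹ * ((x : G) * ((x : G)⁻¹ * v * x) * (x : G)⁻¹) * y := by group
            _ = y⁻¹ * (y * ((x : G)⁻¹ * v * x) * y⁻¹) * y := by rw [hxV _ hw]
            _ = _ := by group
        calc (x : G) * L.r * (x : G)⁻¹ * v * ((x : G) * L.r * (x : G)⁻¹)⁻¹
            = (x : G) * (L.r * ((x : G)⁻¹ * v * x) * L.r⁻¹) * (x : G)⁻¹ := by group
          _ = (x : G) * (E.r * ((x : G)⁻¹ * v * x) * E.r⁻¹) * (x : G)⁻¹ := by rw [L.r_act _ hw]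
          _ = y * (E.r * (y⁻¹ * v * y) * E.r⁻¹) * y⁻¹ := by
            rw [hyw, hxV _ (conj_mem_of_mem_normalizer E.r_N hw)]
          _ = _ := by group }
  refine ⟨D.degree_le, ?_, ?_⟩
  · by_contra h3
    have hn' : n = 2 := by omega
    obtain ⟨f, hf, -, hc⟩ := D.card_eq
    -- the group embeds in the symmetric group on three letters
    let a : ρ.range →* Equiv.Perm {v : Fr.V // v ≠ 1} :=
      { toFun := fun x => Equiv.Perm.subtypePerm (x : MulAut Fr.V).toEquiv (fun v =>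
          not_congr (MulEquiv.map_eq_one_iff (x : MulAut Fr.V)))
        map_one' := rfl
        map_mul' := fun x y => rfl }
    have ha : Function.Injective a := fun x y h => Subtype.ext (MulEquiv.ext fun v => by
      by_cases hv : v = 1
      · rw [hv, map_one, map_one]
      · exact congrArg Subtype.val (Equiv.congr_fun h ⟨v, hv⟩))
    have h6 := Subgroup.card_dvd_of_injective a ha
    haveI := Fintype.ofFinite Fr.V
    have hp : Nat.card (Equiv.Perm {v : Fr.V // v ≠ 1}) = 6 := by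
      have h4 : Fintype.card {v : Fr.V // v ≠ 1} = 3 := by
        rw [Fintype.card_subtype_compl, Fintype.card_subtype_eq, ← Nat.card_eq_fintype_card, hn, hn']; norm_num
      rw [Nat.card_eq_fintype_card, Fintype.card_perm, h4]; rfl
    rw [hp, hc, show D.n = n from rfl, hn'] at h6
    norm_num at h6
    have := Nat.le_of_dvd (by norm_num) h6
    obtain ⟨i, rfl⟩ := hf
    omega
  · rw [show (N ⊓ L.St).relIndex N = St'.index from by
      rw [Subgroup.relIndex, inf_comm, inf_subgroupOf_right]]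
    exact hidx

/-- no `V`-centralizing element moves the class: contradiction -/
theorem Level.triv_false (L : Level Fr E M)
    (htriv : ∀ k ∈ normalizer (L.Z : Set G), (∀ v ∈ Fr.V, k * v = v * k) → L.c k = 1) : False := by
  classical
  haveI : Fact (Nat.Prime 2) := ⟨Nat.prime_two⟩
  obtain ⟨n, hn⟩ := IsPGroup.iff_card.1 Fr.V_two
  have hQ := Fr.four
  have hn2 : 2 ≤ n := by
    by_contra h
    interval_cases n <;> omega
  obtain ⟨hn3, hn3', hidx⟩ := L.exists_aff htriv hn hn2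
  obtain rfl : n = 3 := le_antisymm hn3 hn3'
  norm_num at hn hidx
  set N := normalizer (L.Z : Set G)
  have hM8 : 8 ≤ Nat.card M := hn ▸ card_le_of_le L.V_le
  -- a Sylow subgroup of `N`
  obtain ⟨T₀, hT₀⟩ := (L.Z_two.of_equiv (subgroupOfEquivOfLe (le_normalizer : L.Z ≤ N)).symm).exists_le_sylow
  set T := (T₀ : Subgroup N).map N.subtype
  have hT2 : IsPGroup 2 T := T₀.2.map N.subtype
  have hTN : T ≤ N := map_subtype_le _
  have hZT : L.Z ≤ T := fun x hx => ⟨⟨x, le_normalizer hx⟩, hT₀ hx, rfl⟩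
  have hTc : Nat.card T = 16 * Nat.card M := by
    refine le_antisymm ?_ (Nat.le_of_dvd Nat.card_pos ?_)
    · have := L.card_two_le hT2 hZT hTN
      rw [hn] at this; linarith
    · obtain ⟨k, hk⟩ := IsPGroup.iff_card.1 L.two
      rw [card_map_of_injective N.subtype_injective, hk, show 16 * 2 ^ k = 2 ^ (k + 4) by rw [pow_add]; ring]
      refine T₀.pow_dvd_card_of_pow_dvd_card ?_
      have hd := Subgroup.card_dvd_of_le (le_inf le_normalizer L.Z_le_St : L.Z ≤ N ⊓ L.St)
      rw [L.Z_card, hk] at hd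
      have h := ((N ⊓ L.St).subgroupOf N).card_mul_index
      rw [Nat.card_congr (subgroupOfEquivOfLe (inf_le_left : N ⊓ L.St ≤ N)).toEquiv,
        show ((N ⊓ L.St).subgroupOf N).index = 8 from hidx] at h
      rw [← h, show 2 ^ (k + 4) = 2 * 2 ^ k * 8 by rw [pow_add]; ring]
      exact Nat.mul_dvd_mul_right hd 8
  have hTSt : ∀ x ∈ T, L.c x = 1 → x ∈ L.Z := fun x hx h =>
    L.two_le_Z (hT2.to_le (inf_le_left : T ⊓ L.St ≤ T)) (le_inf hZT L.Z_le_St) inf_le_right
      (mem_inf.2 ⟨hx, hTN hx, h⟩)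
  have hTK : ∀ x ∈ T, (∀ v ∈ Fr.V, x * v = v * x) → x ∈ L.Z := fun x hx h =>
    hTSt x hx (htriv x (hTN hx) h)
  have honto : ∀ v ∈ Fr.V, ∃ x ∈ T, L.c x = v := by
    intro v hv
    have h := (L.Z.subgroupOf T).card_mul_index
    rw [Nat.card_congr (subgroupOfEquivOfLe hZT).toEquiv, L.Z_card, hTc] at h
    have h8 : (L.Z.subgroupOf T).index = 8 :=
      Nat.eq_of_mul_eq_mul_left (show 0 < 2 * Nat.card M by omega) (by rw [h]; ring)
    let f : T ⧸ L.Z.subgroupOf T → Fr.V := fun q => ⟨L.c q.out, L.c_mem (hTN q.out.2)⟩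
    have hf : Function.Injective f := by
      intro a b hab
      rw [← QuotientGroup.out_eq' a, ← QuotientGroup.out_eq' b]
      refine QuotientGroup.eq.2 (mem_subgroupOf.2 (hTSt _ (mul_mem (inv_mem a.out.2) b.out.2) ?_))
      have h1 : L.c (a.out : G) = L.c (b.out : G) := congrArg Subtype.val hab
      have h2 := L.c_mul (hTN a.out.2) (mul_mem (inv_mem (hTN a.out.2)) (hTN b.out.2))
      rw [mul_inv_cancel_left, ← h1, left_eq_mul, conj_eq_one_iff] at h2
      exact h2
    have hb : Function.Bijective f := (Nat.bijective_iff_injective_and_card f).2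
      ⟨hf, by rw [← Subgroup.index_eq_card, h8, hn]⟩
    obtain ⟨q, hq⟩ := hb.2 ⟨v, hv⟩
    exact ⟨q.out, q.out.2, congrArg Subtype.val hq⟩
  have hconj : ∀ m ∈ M, ∃ w ∈ T, w * Fr.t * w⁻¹ = Fr.t * m := by
    intro m hm
    obtain ⟨τ, hτ, hτc⟩ := honto _ (L.pow_e_mem hm)
    have hdm := L.d_mem (hTN hτ)
    obtain ⟨y, hy, hyy⟩ := L.exists_sqrt (mul_mem (inv_mem hm) hdm) (by
      rw [L.pow_e_mul (inv_mem hm) hdm, show L.d τ ^ L.e = m ^ L.e from hτc, inv_pow, inv_mul_cancel])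
    refine ⟨y * τ, mul_mem (hZT (L.M_le_Z hy)) hτ, ?_⟩
    calc y * τ * Fr.t * (y * τ)⁻¹ = y * (τ * Fr.t * τ⁻¹) * y⁻¹ := by group
      _ = y * (Fr.t * (m * (y * y))) * y⁻¹ := by rw [L.conj_t, hyy, mul_inv_cancel_left]
      _ = y * Fr.t * (m * y) := by group
      _ = Fr.t * y⁻¹ * (y * m) := by rw [L.inv' (inv_mem hy), inv_inv, L.comm m hm y hy]
      _ = _ := by group
  have hcent : ∀ m ∈ M, ∀ x ∈ T, x * (Fr.t * m) = Fr.t * m * x → x ∈ L.Z := by
    intro m hm x hx hc
    obtain ⟨w, hw, he⟩ := hconj m hm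
    have h1 : w⁻¹ * x * w ∈ C(Fr.t) := mem_centralizer_singleton_iff.2 (by
      rw [← he] at hc
      calc w⁻¹ * x * w * Fr.t = w⁻¹ * (x * (w * Fr.t * w⁻¹)) * w := by group
        _ = w⁻¹ * (w * Fr.t * w⁻¹ * x) * w := by rw [hc]
        _ = _ := by group)
    have h2 := hTSt _ (mul_mem (mul_mem (inv_mem hw) hx) hw) (L.c_of_C h1)
    have := conj_mem_of_mem_normalizer (hTN hw) h2
    rwa [show w * (w⁻¹ * x * w) * w⁻¹ = x by group] at this
  have hMn : ∀ x ∈ T, ∀ m ∈ M, x * m * x⁻¹ ∈ M := fun x hx m hm =>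
    conj_mem_of_mem_normalizer (L.hMN x (hTN hx)) hm
  -- the conjugates of `t` in `T` lie in `tM`
  have hT : ∀ x ∈ T, IsConj Fr.t x → x ∈ L.Z := by
    intro u huT huc
    by_contra huZ
    obtain ⟨g₀, hg₀⟩ := isConj_iff.1 huc
    have hu2 : u * u = 1 := by
      rw [← hg₀, show g₀ * Fr.t * g₀⁻¹ * (g₀ * Fr.t * g₀⁻¹) = g₀ * (Fr.t * Fr.t) * g₀⁻¹ by group,
        Fr.t_mul_t, mul_one, mul_inv_cancel]
    have hui : u⁻¹ = u := inv_eq_of_mul_eq_one_right hu2
    have huN := hTN huT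
    have huV : u ∈ normalizer (Fr.V : Set G) := mem_normalizer_of fun v hv => L.conj_N_V huN hv
    obtain ⟨v₁, hv₁, hv₁'⟩ : ∃ v ∈ Fr.V, u * v * u⁻¹ ≠ v := by
      by_contra hne
      push Not at hne
      exact huZ (hTK u huT fun v hv => mul_inv_eq_iff_eq_mul.1 (hne v hv))
    have hF := card_fixed_of_involution hn E.sq huV (fun v _ => by
      calc u * (u * v * u⁻¹) * u⁻¹ = (u * u) * v * (u * u)⁻¹ := by group
        _ = v := by rw [hu2]; group) ⟨v₁, hv₁, hv₁'⟩
    set F := Fr.V ⊓ C(u) with hFdef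
    -- centralizer of `u` in `Z`
    have hCZ : ∀ z ∈ L.Z, u * z = z * u → z ∈ F := by
      intro z hz hc
      rcases (L.mem_Z z).1 hz with h | h
      · refine mem_inf.2 ⟨L.mem_V_of_sq h ?_, mem_centralizer_singleton_iff.2 hc.symm⟩
        have hz2 : IsPGroup 2 (H70.cj g₀⁻¹ (zpowers z)) := (L.two.to_le (zpowers_le.2 h)).map _
        obtain ⟨c, -, hcS⟩ := Fr.exists_cj_S0 hz2 (by
          refine H70.cj_le_iff.2 ?_
          rw [inv_inv, cj_centralizer, hg₀]
          exact zpowers_le.2 (mem_centralizer_singleton_iff.2 hc.symm))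
        have h1 := E.S0_sq (hcS ⟨_, ⟨z, mem_zpowers z, rfl⟩, rfl⟩)
        simp only [MulEquiv.coe_toMonoidHom, MulAut.conj_apply, inv_inv] at h1
        rw [show c * (g₀⁻¹ * z * g₀) * c⁻¹ * (c * (g₀⁻¹ * z * g₀) * c⁻¹) =
          (c * g₀⁻¹) * (z * z) * (c * g₀⁻¹)⁻¹ by group] at h1
        exact conj_eq_one_iff.1 h1
      · exfalso
        refine huZ (hcent (Fr.t * z) h u huT ?_)
        rw [show Fr.t * (Fr.t * z) = z by rw [← mul_assoc, Fr.t_mul_t, one_mul]]; exact hc
    -- the subgroup `Z⟨u⟩`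
    have hucj : ∀ z ∈ L.Z, u * z * u ∈ L.Z := fun z hz => by
      have := conj_mem_of_mem_normalizer huN hz
      rwa [hui] at this
    let X : Subgroup G :=
      { carrier := {x | x ∈ L.Z ∨ u * x ∈ L.Z}
        one_mem' := Or.inl (one_mem _)
        mul_mem' := by
          intro a b ha hb
          rcases ha with ha | ha <;> rcases hb with hb | hb
          · exact Or.inl (mul_mem ha hb)
          · refine Or.inr ?_
            have := mul_mem (hucj a ha) hb
            rwa [show u * a * u * (u * b) = u * a * (u * u) * b by group, hu2, mul_one, mul_assoc u a b] at this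
          · exact Or.inr (by rw [← mul_assoc]; exact mul_mem ha hb)
          · refine Or.inl ?_
            have := mul_mem (hucj (u * a) ha) hb
            rwa [show u * (u * a) * u * (u * b) = (u * u) * a * (u * u) * b by group, hu2, one_mul, mul_one] at this
        inv_mem' := by
          intro a ha
          rcases ha with ha | ha
          · exact Or.inl (inv_mem ha)
          · refine Or.inr ?_
            have := hucj _ (inv_mem ha)
            rwa [mul_inv_rev, hui, mul_assoc u (a⁻¹ * u) u, mul_assoc a⁻¹ u u, hu2, mul_one] at this }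
    have hZX : L.Z ≤ X := fun x hx => Or.inl hx
    have huX : u ∈ X := Or.inr (hu2.symm ▸ one_mem _)
    have hXT : X ≤ T := by
      rintro x (hx | hx)
      · exact hZT hx
      · have := mul_mem huT (hZT hx)
        rwa [← mul_assoc, hu2, one_mul] at this
    have hXc : Nat.card X = 4 * Nat.card M := by
      have h2 : L.Z.relIndex X = 2 := by
        rw [Subgroup.relIndex, Subgroup.index_eq_two_iff]
        refine ⟨⟨u, huX⟩, fun b => ?_⟩
        have hb' : (b : G) ∈ L.Z ∨ u * (b : G) ∈ L.Z := b.2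
        rw [mem_subgroupOf, mem_subgroupOf]
        show Xor' ((b : G) * u ∈ L.Z) ((b : G) ∈ L.Z)
        rcases hb' with hb | hb
        · exact Or.inr ⟨hb, fun h => huZ (by simpa using mul_mem (inv_mem hb) h)⟩
        · have hbu : (b : G) * u ∈ L.Z := by
            have := hucj _ hb
            rwa [← mul_assoc u u (b : G), hu2, one_mul] at this
          exact Or.inl ⟨hbu, fun h => huZ (by simpa using mul_mem hb (inv_mem h))⟩
      have h := (L.Z.subgroupOf X).card_mul_index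
      rw [Nat.card_congr (subgroupOfEquivOfLe hZX).toEquiv, L.Z_card, show (L.Z.subgroupOf X).index = 2 from h2] at h
      linarith
    -- the class of `u` in `X`
    let νf : M →* G :=
      { toFun := fun m => (m : G) * (u * m * u⁻¹)
        map_one' := by simp
        map_mul' := fun a b => by
          have h := L.comm _ (hMn u huT a a.2) b b.2
          show (a : G) * b * (u * (a * b) * u⁻¹) = a * (u * a * u⁻¹) * (b * (u * b * u⁻¹))
          calc (a : G) * b * (u * (a * b) * u⁻¹) = a * ((b : G) * (u * a * u⁻¹)) * (u * b * u⁻¹) := by group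
            _ = a * (u * a * u⁻¹ * (b : G)) * (u * b * u⁻¹) := by rw [h]
            _ = _ := by group }
    set I : Set G := {m | m ∈ M ∧ u * m * u⁻¹ = m⁻¹}
    have hI : 2 * I.ncard ≤ Nat.card M := by
      have hk : Nat.card νf.ker = I.ncard := by
        rw [← Nat.card_coe_set_eq]
        refine Nat.card_congr
          { toFun := fun m => ⟨((m : M) : G), (m : M).2, eq_inv_of_mul_eq_one_right m.2⟩
            invFun := fun m => ⟨⟨m.1, m.2.1⟩, ?_⟩
            left_inv := fun m => rfl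
            right_inv := fun m => rfl }
        show m.1 * (u * m.1 * u⁻¹) = 1
        rw [m.2.2, mul_inv_cancel]
      have h := νf.ker.card_mul_index
      rw [Subgroup.index_ker, hk] at h
      have h2 : 2 ≤ Nat.card νf.range := by
        by_contra hlt
        have h1 : Nat.card νf.range = 1 := by
          have := Nat.card_pos (α := νf.range)
          omega
        refine hv₁' ?_
        have h3 : νf ⟨v₁, L.V_le hv₁⟩ = 1 := by
          have := (Subgroup.eq_bot_of_card_eq _ h1).le ⟨⟨v₁, L.V_le hv₁⟩, rfl⟩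
          exact mem_bot.1 this
        rw [eq_inv_of_mul_eq_one_right (h3 : v₁ * (u * v₁ * u⁻¹) = 1), inv_eq_of_mul_eq_one_right (E.sq v₁ hv₁)]
      calc 2 * I.ncard = I.ncard * 2 := mul_comm _ _
        _ ≤ I.ncard * Nat.card νf.range := Nat.mul_le_mul_left _ h2
        _ = Nat.card M := h
    set Y : Set G := {y | ∃ w ∈ X, w * u * w⁻¹ = y}
    have hcomZ : ∀ z ∈ L.Z, u * (z * u * z⁻¹) ∈ M := by
      intro z hz
      have h1 := hucj z hz
      rw [show u * (z * u * z⁻¹) = u * z * u * z⁻¹ by group]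
      rcases (L.mem_Z z).1 hz with h | h
      · have := hMn u huT z h
        rw [hui] at this
        exact mul_mem this (inv_mem h)
      · rcases (L.mem_Z _).1 h1 with h' | h'
        · exfalso
          have h2 := hMn u huT _ h'
          rw [hui, show u * (u * z * u) * u = (u * u) * z * (u * u) by group, hu2, one_mul, mul_one] at h2
          exact L.t_not_M (by simpa [mul_assoc] using mul_mem h (inv_mem h2))
        · have := L.inv _ (mul_mem h' (inv_mem h))
          rw [show Fr.t * (Fr.t * (u * z * u) * (Fr.t * z)⁻¹) * Fr.t⁻¹ =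
            (Fr.t * Fr.t) * (u * z * u * z⁻¹) * (Fr.t * Fr.t)⁻¹ by group, Fr.t_mul_t, one_mul, inv_one, mul_one] at this
          rw [this]
          exact inv_mem (mul_mem h' (inv_mem h))
    have hYsub : Y ⊆ (fun m => u * m) '' I := by
      rintro _ ⟨w, hw, rfl⟩
      have hmem : u * (w * u * w⁻¹) ∈ M := by
        rcases hw with hw | hw
        · exact hcomZ w hw
        · -- `w = u z`
          have h1 := hMn u huT _ (hcomZ _ hw)
          rw [show u * (u * (u * w * u * (u * w)⁻¹)) * u⁻¹ =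
            (u * u) * (u * (w * u * w⁻¹)) * u⁻¹ * u⁻¹ by group, hu2, one_mul, hui,
            mul_assoc (u * (w * u * w⁻¹)) u u, hu2, mul_one] at h1
          exact h1
      refine ⟨u * (w * u * w⁻¹), ⟨hmem, ?_⟩, ?_⟩
      · refine eq_inv_of_mul_eq_one_left ?_
        calc u * (u * (w * u * w⁻¹)) * u⁻¹ * (u * (w * u * w⁻¹)) = (u * u) * (w * (u * u) * w⁻¹) := by group
          _ = 1 := by rw [hu2]; group
      · show u * (u * (w * u * w⁻¹)) = _
        rw [← mul_assoc, hu2, one_mul]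
    have hCX : Nat.card (X ⊓ C(u) : Subgroup G) ≤ 8 := by
      have hs : ((X ⊓ C(u) : Subgroup G) : Set G) ⊆ (F : Set G) ∪ (fun x => u * x) '' (F : Set G) := by
        rintro x ⟨hx | hx, hc⟩
        · exact Or.inl (hCZ x hx (mem_centralizer_singleton_iff.1 hc).symm)
        · refine Or.inr ⟨u * x, hCZ _ hx ?_, by show u * (u * x) = x; rw [← mul_assoc, hu2, one_mul]⟩
          rw [mul_assoc u x u, mem_centralizer_singleton_iff.1 hc]
      have h1 := (Set.ncard_le_ncard hs (Set.toFinite _)).trans (Set.ncard_union_le _ _)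
      rw [Set.ncard_image_of_injective _ (mul_right_injective u), ← Nat.card_coe_set_eq, ← Nat.card_coe_set_eq] at h1
      simp only [SetLike.coe_sort_coe] at h1
      omega
    have hY : Nat.card X ≤ 8 * Y.ncard :=
      le_trans (card_le_class fun w hw => (⟨w, hw, rfl⟩ : w * u * w⁻¹ ∈ Y)) (Nat.mul_le_mul_right _ hCX)
    have hYI : Y = (fun m => u * m) '' I := by
      refine Set.eq_of_subset_of_ncard_le hYsub ?_ (Set.toFinite _)
      rw [Set.ncard_image_of_injective _ (mul_right_injective u)]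
      omega
    have hIc : 2 * I.ncard = Nat.card M := by
      have h1 := Set.ncard_image_of_injective I (mul_right_injective u)
      have h2 : Y.ncard = I.ncard := by rw [hYI, h1]
      omega
    -- no element of `V` is conjugate to `t`
    obtain ⟨v₀, hv₀F, hv₀1⟩ : ∃ v ∈ F, v ≠ 1 := by
      haveI : Nontrivial F := Finite.one_lt_card_iff_nontrivial.1 (by omega)
      obtain ⟨⟨x, hx⟩, hne⟩ := exists_ne (1 : F)
      exact ⟨x, hx, fun h => hne (Subtype.ext h)⟩
    obtain ⟨hv₀V, hv₀C⟩ := mem_inf.1 hv₀F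
    have hXv : X ≤ C(v₀) := by
      rintro x (hx | hx)
      · exact mem_centralizer_singleton_iff.2 (L.Z_comm_V hx hv₀V)
      · have h1 : u * x ∈ C(v₀) := mem_centralizer_singleton_iff.2 (L.Z_comm_V hx hv₀V)
        have h2 : u ∈ C(v₀) := mem_centralizer_singleton_iff.2 (mem_centralizer_singleton_iff.1 hv₀C).symm
        simpa using mul_mem (inv_mem h2) h1
    have hVno : ∀ v ∈ Fr.V, ¬ IsConj Fr.t v := by
      intro v hv hc
      have hv1 : v ≠ 1 := fun h => by
        obtain ⟨g, hg⟩ := isConj_iff.1 hc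
        rw [h] at hg
        exact H70.ne_one_of_two Fr.ht (conj_eq_one_iff.1 hg)
      obtain ⟨j, hj⟩ := E.trans v hv v₀ hv₀V hv1 hv₀1
      exact Fr.not_conj_of_centralizer (hT2.to_le hXT) hXv (by omega) (hc.trans (isConj_iff.2 ⟨_, hj⟩))
    -- counting
    have hset : {x : G | x ∈ X ∧ IsConj Fr.t x} = (fun m => Fr.t * m) '' (M : Set G) ∪ (fun m => u * m) '' I := by
      ext x
      constructor
      · rintro ⟨hxX, hxc⟩
        have hx2 : x * x = 1 := by
          obtain ⟨g, rfl⟩ := isConj_iff.1 hxc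
          rw [show g * Fr.t * g⁻¹ * (g * Fr.t * g⁻¹) = g * (Fr.t * Fr.t) * g⁻¹ by group, Fr.t_mul_t, mul_one,
            mul_inv_cancel]
        rcases hxX with hx | hx
        · rcases (L.mem_Z x).1 hx with h | h
          · exact absurd hxc (hVno x (L.conj_mem_V h hxc))
          · exact Or.inl ⟨Fr.t * x, h, by show Fr.t * (Fr.t * x) = x; rw [← mul_assoc, Fr.t_mul_t, one_mul]⟩
        · rcases (L.mem_Z _).1 hx with h | h
          · refine Or.inr ⟨u * x, ⟨h, ?_⟩, by show u * (u * x) = x; rw [← mul_assoc, hu2, one_mul]⟩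
            refine eq_inv_of_mul_eq_one_left ?_
            calc u * (u * x) * u⁻¹ * (u * x) = (u * u) * (x * x) := by group
              _ = 1 := by rw [hu2, hx2, one_mul]
          · exfalso
            set w := u * x
            have hxw : x = u * w := by simp only [w]; rw [← mul_assoc, hu2, one_mul]
            have hw2 : w * w = 1 := by
              have h1 := L.inv _ h
              rw [Fr.t_inv, ← mul_assoc, Fr.t_mul_t, one_mul, mul_inv_rev, Fr.t_inv] at h1
              exact eq_inv_iff_mul_eq_one.1 (mul_right_cancel h1)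
            have huw : u * w = w * u := by
              rw [hxw] at hx2
              have := eq_inv_of_mul_eq_one_left hx2
              rwa [mul_inv_rev, hui, inv_eq_of_mul_eq_one_right hw2] at this
            exact huZ (hcent _ h u huT (by rw [← mul_assoc Fr.t Fr.t, Fr.t_mul_t, one_mul]; exact huw))
      · rintro (⟨m, hm, rfl⟩ | hy)
        · obtain ⟨w, -, he⟩ := hconj m hm
          exact ⟨hZX (mul_mem L.t_mem_Z (L.M_le_Z hm)), isConj_iff.2 ⟨w, he⟩⟩
        · rw [← hYI] at hy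
          obtain ⟨w, hw, rfl⟩ := hy
          exact ⟨mul_mem (mul_mem hw huX) (inv_mem hw), huc.trans (isConj_iff.2 ⟨w, rfl⟩)⟩
    have hk : Nat.card {x : G // x ∈ X ∧ IsConj Fr.t x} = Nat.card M + I.ncard := by
      calc Nat.card {x : G // x ∈ X ∧ IsConj Fr.t x}
          = {x : G | x ∈ X ∧ IsConj Fr.t x}.ncard := Nat.card_coe_set_eq _
        _ = _ := by
          rw [hset, Set.ncard_union_eq ?_ (Set.toFinite _) (Set.toFinite _),
            Set.ncard_image_of_injective _ (mul_right_injective Fr.t),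
            Set.ncard_image_of_injective _ (mul_right_injective u), ← Nat.card_coe_set_eq]
          · rfl
          · rw [Set.disjoint_left]
            rintro _ ⟨m, hm, rfl⟩ ⟨i, ⟨hi, -⟩, he⟩
            apply huZ
            have hu' : u = Fr.t * m * i⁻¹ := eq_mul_inv_of_mul_eq he
            rw [hu']
            exact mul_mem (mul_mem L.t_mem_Z (L.M_le_Z hm)) (inv_mem (L.M_le_Z hi))
    have h4 : 4 ∣ X.index := by
      have h := (X.subgroupOf T).card_mul_index
      rw [Nat.card_congr (subgroupOfEquivOfLe hXT).toEquiv, hXc, hTc] at h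
      have h4' : X.relIndex T = 4 :=
        Nat.eq_of_mul_eq_mul_left (show 0 < 4 * Nat.card M by omega)
          (show 4 * Nat.card M * X.relIndex T = 4 * Nat.card M * 4 by rw [Subgroup.relIndex, h]; ring)
      exact ⟨T.index, by rw [← Subgroup.relIndex_mul_index hXT, h4']⟩
    obtain ⟨j, hj, hc⟩ := Fr.card_C
    refine parity_false Fr.hno X Fr.t Fr.t_mul_t h4 (6 * j) ?_ ?_
    · rw [hk, hc, hXc, Fr.card_S0, hn, ← hIc]; ring
    · obtain ⟨i, rfl⟩ := hj; omega
  -- `T` is a Sylow subgroup of `G`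
  have hNN : ∀ a ∈ normalizer (T : Set G), a ∈ N := by
    intro a ha
    refine mem_normalizer_of fun z hz => ?_
    have hco : ∀ m ∈ M, a * (Fr.t * m) * a⁻¹ ∈ L.Z := fun m hm => by
      refine hT _ (conj_mem_of_mem_normalizer ha (hZT (mul_mem L.t_mem_Z (L.M_le_Z hm)))) ?_
      obtain ⟨w, -, he⟩ := hconj m hm
      exact isConj_iff.2 ⟨a * w, by rw [← he]; group⟩
    have h1 := hco 1 (one_mem M)
    rw [mul_one] at h1
    rcases (L.mem_Z z).1 hz with h | h
    · have := mul_mem h1 (hco z h)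
      rwa [show a * Fr.t * a⁻¹ * (a * (Fr.t * z) * a⁻¹) = a * (Fr.t * Fr.t * z) * a⁻¹ by group, Fr.t_mul_t,
        one_mul] at this
    · have := hco _ h
      rwa [← mul_assoc Fr.t Fr.t z, Fr.t_mul_t, one_mul] at this
  have hodd : ¬ 2 ∣ T.index := by
    intro h2
    obtain ⟨R, hR⟩ := hT2.exists_le_sylow
    have hlt : T < R := lt_of_le_of_ne hR fun h => R.not_dvd_index (h ▸ h2)
    obtain ⟨w, hwR, hwT, hwN⟩ := exists_mem_normalizer_of_lt R.2 hlt
    have h1 := L.card_two_le (sup_zpowers_two R.2 hR hwR) (hZT.trans le_sup_left)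
      (sup_le hTN (zpowers_le.2 (hNN w hwN)))
    rw [hn] at h1
    have he : T = T ⊔ zpowers w := eq_of_le_of_card_ge le_sup_left (by rw [hTc]; omega)
    exact hwT (he.symm ▸ mem_sup_right (mem_zpowers w))
  -- squares
  have hsqM : ∀ x ∈ T, x * x ∈ L.Z → x * x ∈ M := by
    intro x hx hZ
    rcases (L.mem_Z _).1 hZ with h | h
    · exact h
    have he : x * x = Fr.t * (Fr.t * (x * x)) := by rw [← mul_assoc Fr.t Fr.t, Fr.t_mul_t, one_mul]
    have hxZ : x ∈ L.Z := hcent _ h x hx (by rw [← he]; group)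
    rcases (L.mem_Z x).1 hxZ with h' | h'
    · exact mul_mem h' h'
    · have hm := L.inv _ h'
      rw [Fr.t_inv, ← mul_assoc, Fr.t_mul_t, one_mul, mul_inv_rev, Fr.t_inv] at hm
      rw [show x * x = 1 from eq_inv_iff_mul_eq_one.1 (mul_right_cancel hm)]
      exact one_mem M
  have hTt : ∀ x ∈ T, x * Fr.t * x⁻¹ * Fr.t ∈ M := by
    intro x hx
    have h1 := L.inv _ (L.d_mem (hTN hx))
    rw [Fr.t_inv, Level.d, ← mul_assoc Fr.t Fr.t, Fr.t_mul_t, one_mul] at h1
    rw [h1]
    exact inv_mem (L.d_mem (hTN hx))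
  -- the squares lie in one further coset of `M`
  obtain ⟨q, hqT, hqsq, hqt, hsq⟩ : ∃ q ∈ T, q * q ∈ M ∧ Fr.t * q ∉ M ∧
      ∀ x ∈ T, x * x ∈ M ∨ q⁻¹ * (x * x) ∈ M := by
    by_cases hex : ∃ x₀ ∈ T, x₀ * x₀ ∉ M
    swap
    · push Not at hex
      exact ⟨1, one_mem T, by rw [mul_one]; exact one_mem M, by rw [mul_one]; exact L.t_not_M,
        fun x hx => Or.inl (hex x hx)⟩
    obtain ⟨x₀, hx₀, hx₀M⟩ := hex
    have hx₀Z : x₀ * x₀ ∉ L.Z := fun h => hx₀M (hsqM x₀ hx₀ h)
    -- a central involution of `T/Z`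
    haveI : (L.Z.subgroupOf T).Normal :=
      ⟨fun a ha g => mem_subgroupOf.2 (conj_mem_of_mem_normalizer (hTN g.2) (mem_subgroupOf.1 ha))⟩
    have hTp : IsPGroup 2 (T ⧸ L.Z.subgroupOf T) := hT2.to_quotient _
    haveI : Nontrivial (T ⧸ L.Z.subgroupOf T) := by
      refine ⟨(⟨x₀, hx₀⟩ : T), 1, fun h => hx₀Z ?_⟩
      have h' := mem_subgroupOf.1 ((QuotientGroup.eq_one_iff _).1 h)
      exact mul_mem h' h'
    haveI := hTp.center_nontrivial
    obtain ⟨i, hi, hi'⟩ := (hTp.to_subgroup (center _)).nontrivial_iff_card.1 inferInstance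
    obtain ⟨⟨σq, hσc⟩, hσo⟩ := exists_prime_orderOf_dvd_card' 2
      (G := center (T ⧸ L.Z.subgroupOf T)) (hi' ▸ dvd_pow_self 2 hi.ne')
    rw [Subgroup.orderOf_mk] at hσo
    obtain ⟨⟨σ, hσT⟩, rfl⟩ := QuotientGroup.mk_surjective σq
    have hσZ : σ ∉ L.Z := fun h => by
      rw [(QuotientGroup.eq_one_iff _).2 (mem_subgroupOf.2 h), orderOf_one] at hσo
      omega
    have hσ2 : σ * σ ∈ L.Z := by
      have h1 := pow_orderOf_eq_one ((⟨σ, hσT⟩ : T) : T ⧸ L.Z.subgroupOf T)
      rw [hσo, pow_two, ← QuotientGroup.mk_mul, QuotientGroup.eq_one_iff] at h1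
      exact mem_subgroupOf.1 h1
    have hσcomm : ∀ x ∈ T, x⁻¹ * σ⁻¹ * x * σ ∈ L.Z := by
      intro x hx
      have h1 := Subgroup.mem_center_iff.1 hσc ((⟨x, hx⟩ : T) : T ⧸ L.Z.subgroupOf T)
      rw [← QuotientGroup.mk_mul, ← QuotientGroup.mk_mul, QuotientGroup.eq, mem_subgroupOf] at h1
      have h2 : ((σ * x)⁻¹ * (x * σ))⁻¹ ∈ L.Z := inv_mem (by simpa [mul_assoc] using inv_mem h1)
      have h3 := inv_mem h2
      rwa [inv_inv, show (σ * x)⁻¹ * (x * σ) = x⁻¹ * σ⁻¹ * x * σ by group] at h3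
    have hσV : σ ∈ normalizer (Fr.V : Set G) := mem_normalizer_of fun v hv => L.conj_N_V (hTN hσT) hv
    have hF := card_fixed_of_involution hn E.sq hσV (fun v hv => by
      rw [show σ * (σ * v * σ⁻¹) * σ⁻¹ = (σ * σ) * v * (σ * σ)⁻¹ by group, L.Z_comm_V hσ2 hv,
        mul_inv_cancel_right]) (by
      by_contra hne
      push Not at hne
      exact hσZ (hTK σ hσT fun v hv => mul_inv_eq_iff_eq_mul.1 (hne v hv)))
    set F := Fr.V ⊓ C(σ)
    have hFinv : ∀ x ∈ T, ∀ f ∈ F, x * f * x⁻¹ ∈ F := by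
      intro x hx f hf
      obtain ⟨hfV, hfC⟩ := mem_inf.1 hf
      refine mem_inf.2 ⟨L.conj_N_V (hTN hx) hfV, mem_centralizer_singleton_iff.2 ?_⟩
      set z := x⁻¹ * σ⁻¹ * x * σ
      have hz := L.Z_comm_V (hσcomm x hx) hfV
      have h1 : f * σ = σ * f := mem_centralizer_singleton_iff.1 hfC
      calc x * f * x⁻¹ * σ = x * (f * σ * z⁻¹) * x⁻¹ := by simp only [z]; group
        _ = x * (σ * f * z⁻¹) * x⁻¹ := by rw [h1]
        _ = x * (σ * (f * z⁻¹)) * x⁻¹ := by group
        _ = x * (σ * (z⁻¹ * f)) * x⁻¹ := by rw [(L.Z_comm_V (inv_mem (hσcomm x hx)) hfV).symm]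
        _ = σ * (x * f * x⁻¹) := by simp only [z]; group
    letI : MulAction T F :=
      { smul := fun x f => ⟨(x : G) * f * (x : G)⁻¹, hFinv x x.2 f f.2⟩
        one_smul := fun f => Subtype.ext (by show ((1 : T) : G) * f * ((1 : T) : G)⁻¹ = f; simp)
        mul_smul := fun a b f => Subtype.ext (by
          show ((a * b : T) : G) * f * ((a * b : T) : G)⁻¹ = (a : G) * ((b : G) * f * (b : G)⁻¹) * (a : G)⁻¹
          simp [mul_assoc]) }
    have h1F : (1 : F) ∈ MulAction.fixedPoints T F := fun x => Subtype.ext (by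
      show (x : G) * ((1 : F) : G) * (x : G)⁻¹ = ((1 : F) : G); simp)
    obtain ⟨⟨v₀, hv₀⟩, hfix, hv₀1⟩ := hT2.exists_fixed_point_of_prime_dvd_card_of_fixed_point F
      (hF.symm ▸ ⟨2, rfl⟩) h1F
    have hv₀' : v₀ ≠ 1 := fun h => hv₀1.symm (Subtype.ext h)
    have hfix' : ∀ x ∈ T, x * v₀ * x⁻¹ = v₀ := fun x hx => congrArg Subtype.val (hfix ⟨x, hx⟩)
    obtain ⟨w, hw, hw1, hwv⟩ : ∃ w ∈ F, w ≠ 1 ∧ w ≠ v₀ := by
      by_contra hne
      push Not at hne
      have hsub : (F : Set G) ⊆ {1, v₀} := fun y hy => by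
        by_cases h : y = 1
        exacts [Or.inl h, Or.inr (hne y hy h)]
      have := Set.ncard_le_ncard hsub (Set.toFinite _)
      rw [← Nat.card_coe_set_eq] at this
      have h4 := (Set.ncard_insert_le (1 : G) {v₀})
      rw [Set.ncard_singleton] at h4
      simp only [SetLike.coe_sort_coe] at *
      omega
    have hFV : ∀ f ∈ F, f ∈ Fr.V := fun f hf => (mem_inf.1 hf).1
    have hwv₀ : w * v₀ ≠ 1 := fun h => hwv (by
      rw [eq_inv_of_mul_eq_one_left h, inv_eq_of_mul_eq_one_right (E.sq v₀ (hFV _ hv₀))])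
    have hFall : ∀ f ∈ F, f = 1 ∨ f = v₀ ∨ f = w ∨ f = w * v₀ := by
      intro f hf
      by_contra hne
      push Not at hne
      have hsub : ↑({1, v₀, w, w * v₀, f} : Finset G) ⊆ (F : Set G) := by
        intro y hy
        simp only [Finset.coe_insert, Finset.coe_singleton, Set.mem_insert_iff, Set.mem_singleton_iff] at hy
        rcases hy with rfl | rfl | rfl | rfl | rfl
        exacts [one_mem F, hv₀, hw, mul_mem hw hv₀, hf]
      have h5 := Set.ncard_le_ncard hsub (Set.toFinite _)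
      rw [Set.ncard_coe_finset, ← Nat.card_coe_set_eq] at h5
      have e1 : w * v₀ ≠ v₀ := fun h => hw1 (mul_right_cancel (h.trans (one_mul v₀).symm))
      have e2 : w * v₀ ≠ w := fun h => hv₀' (mul_left_cancel (h.trans (mul_one w).symm))
      simp [Finset.card_insert_of_notMem, Ne.symm hv₀', Ne.symm hw1, Ne.symm hwv, Ne.symm hwv₀, Ne.symm e1,
        Ne.symm e2, Ne.symm hne.1, Ne.symm hne.2.1, Ne.symm hne.2.2.1, Ne.symm hne.2.2.2] at h5
      omega
    obtain ⟨z₀, hz₀, hz₀F⟩ : ∃ z ∈ Fr.V, z ∉ F := by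
      by_contra hne
      push Not at hne
      have := card_le_of_le (show Fr.V ≤ F from hne)
      omega
    have hgen : ∀ v ∈ Fr.V, v ∈ F ∨ z₀⁻¹ * v ∈ F := by
      intro v hv
      have hidx : F.relIndex Fr.V = 2 := by
        have h := (F.subgroupOf Fr.V).card_mul_index
        rw [Nat.card_congr (subgroupOfEquivOfLe (inf_le_left : F ≤ Fr.V)).toEquiv, hF, hn] at h
        show (F.subgroupOf Fr.V).index = 2
        omega
      by_cases hvF : v ∈ F
      · exact Or.inl hvF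
      · exact Or.inr (mem_subgroupOf.1 ((Subgroup.mul_mem_iff_of_index_two hidx (a := ⟨z₀⁻¹, inv_mem hz₀⟩)
          (b := ⟨v, hv⟩)).2 (iff_of_false (fun h => hz₀F (by simpa using inv_mem (mem_subgroupOf.1 h)))
            (fun h => hvF h))))
    -- an element is determined by its action on `z₀` and `w`
    have hdet : ∀ y ∈ T, y * w * y⁻¹ = w → y * z₀ * y⁻¹ = z₀ → y ∈ L.Z := by
      intro y hy hyw hyz
      refine hTK y hy fun v hv => mul_inv_eq_iff_eq_mul.1 ?_
      have hyF : ∀ f ∈ F, y * f * y⁻¹ = f := by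
        intro f hf
        rcases hFall f hf with rfl | rfl | rfl | rfl
        · simp
        · exact hfix' y hy
        · exact hyw
        · rw [show y * (w * v₀) * y⁻¹ = (y * w * y⁻¹) * (y * v₀ * y⁻¹) by group, hyw, hfix' y hy]
      rcases hgen v hv with h | h
      · exact hyF v h
      · conv_lhs => rw [← mul_inv_cancel_left z₀ v]
        rw [show y * (z₀ * (z₀⁻¹ * v)) * y⁻¹ = (y * z₀ * y⁻¹) * (y * (z₀⁻¹ * v) * y⁻¹) by group, hyz, hyF _ h,
          mul_inv_cancel_left]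
    have hv₀2 := E.sq v₀ (hFV _ hv₀)
    have hw2 := E.sq w (hFV _ hw)
    have hz₀2 := E.sq z₀ hz₀
    -- the shape of elements of order four
    have hshape : ∀ x ∈ T, x * x ∉ L.Z → x * w * x⁻¹ = w * v₀ ∧
        ∃ h, (h = w ∨ h = w * v₀) ∧ x * z₀ * x⁻¹ = z₀ * h := by
      intro x hx hx2
      have hxw : x * w * x⁻¹ = w ∨ x * w * x⁻¹ = w * v₀ := by
        rcases hFall _ (hFinv x hx w hw) with h | h | h | h
        · exact absurd (conj_eq_one_iff.1 h) hw1
        · exact absurd (by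
            have := h.trans (hfix' x hx).symm
            exact mul_left_cancel (mul_right_cancel this)) hwv
        · exact Or.inl h
        · exact Or.inr h
      obtain ⟨h, hh, hxz⟩ : ∃ h ∈ F, x * z₀ * x⁻¹ = z₀ * h := by
        rcases hgen _ (L.conj_N_V (hTN hx) hz₀) with h | h
        · refine absurd ?_ hz₀F
          have := hFinv x⁻¹ (inv_mem hx) _ h
          rwa [inv_inv, show x⁻¹ * (x * z₀ * x⁻¹) * x = z₀ by group] at this
        · exact ⟨_, h, (mul_inv_cancel_left _ _).symm⟩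
      have hxx : ∀ v, x * x * v * (x * x)⁻¹ = x * (x * v * x⁻¹) * x⁻¹ := fun v => by group
      have hxwv : x * (w * v₀) * x⁻¹ = (x * w * x⁻¹) * v₀ := by
        rw [show x * (w * v₀) * x⁻¹ = (x * w * x⁻¹) * (x * v₀ * x⁻¹) by group, hfix' x hx]
      have hsqz : x * x * z₀ * (x * x)⁻¹ = z₀ * h * (x * h * x⁻¹) := by
        rw [hxx, hxz, show x * (z₀ * h) * x⁻¹ = (x * z₀ * x⁻¹) * (x * h * x⁻¹) by group, hxz]
      have hh2 := E.sq h (hFV _ hh)
      rcases hxw with hxw | hxw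
      · -- then `x²` centralizes `V`
        exfalso
        refine hx2 (hdet _ (mul_mem hx hx) (by rw [hxx, hxw, hxw]) ?_)
        have hxh : x * h * x⁻¹ = h := by
          rcases hFall h hh with rfl | rfl | rfl | rfl
          · simp
          · exact hfix' x hx
          · exact hxw
          · rw [hxwv, hxw]
        rw [hsqz, hxh, mul_assoc, hh2, mul_one]
      · refine ⟨hxw, h, ?_, hxz⟩
        rcases hFall h hh with h1 | h1 | h1 | h1
        · exfalso
          refine hx2 (hdet _ (mul_mem hx hx) ?_ ?_)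
          · rw [hxx, hxw, hxwv, hxw, mul_assoc, hv₀2, mul_one]
          · rw [hsqz, h1]; simp
        · exfalso
          refine hx2 (hdet _ (mul_mem hx hx) ?_ ?_)
          · rw [hxx, hxw, hxwv, hxw, mul_assoc, hv₀2, mul_one]
          · rw [hsqz, h1, hfix' x hx, mul_assoc, hv₀2, mul_one]
        · exact Or.inl h1
        · exact Or.inr h1
    have hzc : ∀ z ∈ L.Z, (x₀⁻¹ * (x₀⁻¹ * (x₀⁻¹ * z * x₀) * x₀) * x₀) * z ∈ M ∧
        (x₀⁻¹ * z * x₀) * z ∈ M := by
      intro z hz
      have hN' : x₀⁻¹ ∈ normalizer (M : Set G) := inv_mem (L.hMN _ (hTN hx₀))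
      have key : ∀ a b : G, a ∈ L.Z → b ∈ L.Z → (a ∈ M ↔ b ∈ M) → a * b ∈ M := by
        intro a b ha hb hiff
        rcases (L.mem_Z a).1 ha with h | h
        · exact mul_mem h (hiff.1 h)
        · rcases (L.mem_Z b).1 hb with h' | h'
          · exact mul_mem (hiff.2 h') h'
          · have h1 := L.inv _ h
            rw [Fr.t_inv, ← mul_assoc Fr.t Fr.t, Fr.t_mul_t, one_mul] at h1
            have h2 : a * Fr.t ∈ M := h1 ▸ inv_mem h
            have := mul_mem h2 h'
            rwa [show a * Fr.t * (Fr.t * b) = a * (Fr.t * Fr.t) * b by group, Fr.t_mul_t, mul_one] at this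
      have hiff : ∀ a : G, x₀⁻¹ * a * x₀ ∈ M ↔ a ∈ M := fun a => by
        rw [Subgroup.mem_normalizer_iff.1 hN' a, inv_inv]
      have hZ1 : x₀⁻¹ * z * x₀ ∈ L.Z := by
        simpa using conj_mem_of_mem_normalizer (inv_mem (hTN hx₀)) hz
      have hZ2 : x₀⁻¹ * (x₀⁻¹ * z * x₀) * x₀ ∈ L.Z := by
        simpa using conj_mem_of_mem_normalizer (inv_mem (hTN hx₀)) hZ1
      have hZ3 : x₀⁻¹ * (x₀⁻¹ * (x₀⁻¹ * z * x₀) * x₀) * x₀ ∈ L.Z := by
        simpa using conj_mem_of_mem_normalizer (inv_mem (hTN hx₀)) hZ2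
      exact ⟨key _ _ hZ3 hz (by rw [hiff, hiff, hiff]), key _ _ hZ1 hz (hiff z)⟩
    have hq4 : x₀ * x₀ * (x₀ * x₀) ∈ M := by
      refine hsqM _ (mul_mem hx₀ hx₀) ?_
      obtain ⟨h1, h, hh, hxz⟩ := hshape x₀ hx₀ hx₀Z
      have hxxw : (x₀ * x₀) * w * (x₀ * x₀)⁻¹ = w := by
        rw [show (x₀ * x₀) * w * (x₀ * x₀)⁻¹ = x₀ * (x₀ * w * x₀⁻¹) * x₀⁻¹ by group, h1,
          show x₀ * (w * v₀) * x₀⁻¹ = (x₀ * w * x₀⁻¹) * (x₀ * v₀ * x₀⁻¹) by group, h1, hfix' x₀ hx₀, mul_assoc,
          hv₀2, mul_one]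
      have hxh : x₀ * h * x₀⁻¹ = h * v₀ := by
        rcases hh with rfl | rfl
        · exact h1
        · rw [show x₀ * (w * v₀) * x₀⁻¹ = (x₀ * w * x₀⁻¹) * (x₀ * v₀ * x₀⁻¹) by group, h1, hfix' x₀ hx₀]
      have hxxz : (x₀ * x₀) * z₀ * (x₀ * x₀)⁻¹ = z₀ * v₀ := by
        rw [show (x₀ * x₀) * z₀ * (x₀ * x₀)⁻¹ = x₀ * (x₀ * z₀ * x₀⁻¹) * x₀⁻¹ by group, hxz,
          show x₀ * (z₀ * h) * x₀⁻¹ = (x₀ * z₀ * x₀⁻¹) * (x₀ * h * x₀⁻¹) by group, hxz, hxh, mul_assoc z₀ h,
          ← mul_assoc h h v₀, E.sq h (by rcases hh with rfl | rfl; exacts [hFV _ hw, hFV _ (mul_mem hw hv₀)]),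
          one_mul]
      refine hdet _ (mul_mem (mul_mem hx₀ hx₀) (mul_mem hx₀ hx₀)) ?_ ?_
      · rw [show x₀ * x₀ * (x₀ * x₀) * w * (x₀ * x₀ * (x₀ * x₀))⁻¹ =
          (x₀ * x₀) * ((x₀ * x₀) * w * (x₀ * x₀)⁻¹) * (x₀ * x₀)⁻¹ by group, hxxw, hxxw]
      · rw [show x₀ * x₀ * (x₀ * x₀) * z₀ * (x₀ * x₀ * (x₀ * x₀))⁻¹ =
          (x₀ * x₀) * ((x₀ * x₀) * z₀ * (x₀ * x₀)⁻¹) * (x₀ * x₀)⁻¹ by group, hxxz,
          show x₀ * x₀ * (z₀ * v₀) * (x₀ * x₀)⁻¹ =
            ((x₀ * x₀) * z₀ * (x₀ * x₀)⁻¹) * ((x₀ * x₀) * v₀ * (x₀ * x₀)⁻¹) by group, hxxz,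
          hfix' _ (mul_mem hx₀ hx₀), mul_assoc, hv₀2, mul_one]
    refine ⟨x₀ * x₀, mul_mem hx₀ hx₀, hq4, fun h => hx₀Z ((L.mem_Z _).2 (Or.inr h)), fun x hx => ?_⟩
    by_cases hxM : x * x ∈ M
    · exact Or.inl hxM
    right
    have hxZ : x * x ∉ L.Z := fun h => hxM (hsqM x hx h)
    obtain ⟨hxw, h, hh, hxz⟩ := hshape x hx hxZ
    obtain ⟨h0w, h', hh', h0z⟩ := hshape x₀ hx₀ hx₀Z
    by_cases he : h = h'
    · -- same action
      subst he
      set z := x₀⁻¹ * x
      have hz : z ∈ L.Z := by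
        refine hdet _ (mul_mem (inv_mem hx₀) hx) ?_ ?_
        · rw [show x₀⁻¹ * x * w * (x₀⁻¹ * x)⁻¹ = x₀⁻¹ * (x * w * x⁻¹) * x₀ by group, hxw, ← h0w]; group
        · rw [show x₀⁻¹ * x * z₀ * (x₀⁻¹ * x)⁻¹ = x₀⁻¹ * (x * z₀ * x⁻¹) * x₀ by group, hxz, ← h0z]; group
      rw [show (x₀ * x₀)⁻¹ * (x * x) = (x₀⁻¹ * z * x₀) * z by simp only [z]; group]
      exact (hzc z hz).2
    · -- inverse action
      have hh'' : h * h' = v₀ := by
        rcases hh with rfl | rfl <;> rcases hh' with rfl | rfl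
        · exact absurd rfl he
        · rw [← mul_assoc, hw2, one_mul]
        · rw [mul_assoc, E.comm (hFV _ hv₀) (hFV _ hw), ← mul_assoc, hw2, one_mul]
        · exact absurd rfl he
      set z := x₀ * x
      have hz : z ∈ L.Z := by
        refine hdet _ (mul_mem hx₀ hx) ?_ ?_
        · rw [show x₀ * x * w * (x₀ * x)⁻¹ = x₀ * (x * w * x⁻¹) * x₀⁻¹ by group, hxw,
            show x₀ * (w * v₀) * x₀⁻¹ = (x₀ * w * x₀⁻¹) * (x₀ * v₀ * x₀⁻¹) by group, h0w, hfix' x₀ hx₀, mul_assoc,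
            hv₀2, mul_one]
        · have hxh : x₀ * h * x₀⁻¹ = h * v₀ := by
            rcases hh with rfl | rfl
            · exact h0w
            · rw [show x₀ * (w * v₀) * x₀⁻¹ = (x₀ * w * x₀⁻¹) * (x₀ * v₀ * x₀⁻¹) by group, h0w, hfix' x₀ hx₀]
          rw [show x₀ * x * z₀ * (x₀ * x)⁻¹ = x₀ * (x * z₀ * x⁻¹) * x₀⁻¹ by group, hxz,
            show x₀ * (z₀ * h) * x₀⁻¹ = (x₀ * z₀ * x₀⁻¹) * (x₀ * h * x₀⁻¹) by group, h0z, hxh, mul_assoc z₀ h',
            ← mul_assoc h' h v₀, show h' * h = v₀ by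
              rw [← hh'']
              refine E.comm ?_ ?_
              · rcases hh' with rfl | rfl; exacts [hFV _ hw, hFV _ (mul_mem hw hv₀)]
              · rcases hh with rfl | rfl; exacts [hFV _ hw, hFV _ (mul_mem hw hv₀)],
            hv₀2, mul_one]
      have hfin : (x₀ * x₀)⁻¹ * (x * x) =
          (x₀⁻¹ * (x₀⁻¹ * (x₀⁻¹ * z * x₀) * x₀) * x₀) * (x₀ * x₀ * (x₀ * x₀))⁻¹ * z := by
        simp only [z]; group
      rw [hfin]
      have hzN : z⁻¹ * (x₀ * x₀ * (x₀ * x₀)) * z ∈ M := by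
        simpa using conj_mem_of_mem_normalizer (L.hMN _ (inv_mem (le_normalizer hz))) hq4
      set a3 := x₀⁻¹ * (x₀⁻¹ * (x₀⁻¹ * z * x₀) * x₀) * x₀ with ha3
      have ha : a3 * z ∈ M := (hzc z hz).1
      rw [show a3 * (x₀ * x₀ * (x₀ * x₀))⁻¹ * z = a3 * z * (z⁻¹ * (x₀ * x₀ * (x₀ * x₀)) * z)⁻¹ by group]
      exact mul_mem ha (inv_mem hzN)
  -- a subgroup avoiding `t`
  let U : Subgroup G :=
    { carrier := {x | x ∈ M ∨ q⁻¹ * x ∈ M}
      one_mem' := Or.inl (one_mem M)
      mul_mem' := by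
        intro a b ha hb
        rcases ha with ha | ha <;> rcases hb with hb | hb
        · exact Or.inl (mul_mem ha hb)
        · refine Or.inr ?_
          have h1 := hMn q⁻¹ (inv_mem hqT) a ha
          rw [inv_inv] at h1
          have := mul_mem h1 hb
          rwa [show q⁻¹ * a * q * (q⁻¹ * b) = q⁻¹ * (a * b) by group] at this
        · exact Or.inr (by rw [← mul_assoc]; exact mul_mem ha hb)
        · refine Or.inl ?_
          have h1 := hMn q hqT _ ha
          have := mul_mem (mul_mem h1 hqsq) hb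
          rwa [show q * (q⁻¹ * a) * q⁻¹ * (q * q) * (q⁻¹ * b) = a * b by group] at this
      inv_mem' := by
        intro a ha
        rcases ha with ha | ha
        · exact Or.inl (inv_mem ha)
        · refine Or.inr ?_
          have h1 := mul_mem (inv_mem hqsq) (hMn q hqT _ (inv_mem ha))
          rwa [show (q * q)⁻¹ * (q * (q⁻¹ * a)⁻¹ * q⁻¹) = q⁻¹ * a⁻¹ by group] at h1 }
  have htU : Fr.t ∉ U := by
    rintro (h | h)
    · exact L.t_not_M h
    · apply hqt
      have h1 := mul_mem hqsq (inv_mem (hMn q hqT _ h))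
      rw [show q * q * (q * (q⁻¹ * Fr.t) * q⁻¹)⁻¹ = q * (q * q) * Fr.t⁻¹ * 1 by group, mul_one] at h1
      have h2 := mul_mem (hMn q⁻¹ (inv_mem hqT) _ h1) (inv_mem hqsq)
      rw [show q⁻¹ * (q * (q * q) * Fr.t⁻¹) * q⁻¹⁻¹ * (q * q)⁻¹ = q * q * Fr.t⁻¹ * q⁻¹ by group] at h2
      have h3 := inv_mem (mul_mem (inv_mem hqsq) h2)
      rwa [show ((q * q)⁻¹ * (q * q * Fr.t⁻¹ * q⁻¹))⁻¹ = q * Fr.t by group,
        show q * Fr.t = (q * Fr.t * q⁻¹ * Fr.t) * (Fr.t⁻¹ * q) by group, Fr.t_inv,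
        mul_mem_cancel_left (hTt q hqT)] at h3
  have hUT : U ≤ T := by
    rintro x (hx | hx)
    · exact hZT (L.M_le_Z hx)
    · have := mul_mem hqT (hZT (L.M_le_Z hx))
      rwa [mul_inv_cancel_left] at this
  have hsqU : ∀ x ∈ T, x * x ∈ U := fun x hx => hsq x hx
  obtain ⟨Q, ⟨hUQ, hQT, htQ⟩, hQmax⟩ := Set.Finite.exists_maximal (s := {R : Subgroup G | U ≤ R ∧ R ≤ T ∧ Fr.t ∉ R})
    (Set.toFinite _) ⟨U, le_rfl, hUT, htU⟩
  have hQn : ∀ x ∈ T, x ∈ normalizer (Q : Set G) := fun x hx => mem_normalizer_of fun y hy => by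
    have hyT := hQT hy
    have h4 : x * y * x⁻¹ = (x * y * (x * y)) * (y⁻¹ * (x⁻¹ * x⁻¹) * y) * (y⁻¹ * y⁻¹) * y := by group
    rw [h4]
    refine mul_mem (mul_mem (mul_mem (hUQ (hsqU _ (mul_mem hx hyT))) ?_) (hUQ (hsqU _ (inv_mem hyT)))) hy
    exact mul_mem (mul_mem (inv_mem hy) (hUQ (hsqU _ (inv_mem hx)))) hy
  have hidx2 : Q.relIndex T = 2 := by
    rw [Subgroup.relIndex, Subgroup.index_eq_two_iff]
    refine ⟨⟨Fr.t, hZT L.t_mem_Z⟩, fun b => ?_⟩
    rw [mem_subgroupOf, mem_subgroupOf]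
    show Xor' ((b : G) * Fr.t ∈ Q) ((b : G) ∈ Q)
    by_cases hb : (b : G) ∈ Q
    · exact Or.inr ⟨hb, fun h => htQ (by simpa using mul_mem (inv_mem hb) h)⟩
    · refine Or.inl ⟨?_, hb⟩
      by_contra hne
      have hQn' : (b : G) ∈ normalizer (Q : Set G) := hQn b b.2
      let R : Subgroup G :=
        { carrier := {x | x ∈ Q ∨ (b : G) * x ∈ Q}
          one_mem' := Or.inl (one_mem Q)
          mul_mem' := by
            intro x y hx hy
            rcases hx with hx | hx <;> rcases hy with hy | hy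
            · exact Or.inl (mul_mem hx hy)
            · refine Or.inr ?_
              have := mul_mem (conj_mem_of_mem_normalizer hQn' hx) hy
              rwa [show (b : G) * x * (b : G)⁻¹ * ((b : G) * y) = b * (x * y) by group] at this
            · exact Or.inr (by rw [← mul_assoc]; exact mul_mem hx hy)
            · refine Or.inl ?_
              have h1 := conj_mem_of_mem_normalizer (inv_mem hQn') hx
              rw [inv_inv] at h1
              have := mul_mem (mul_mem h1 (inv_mem (hUQ (hsqU _ b.2)))) hy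
              rwa [show (b : G)⁻¹ * (b * x) * b * ((b : G) * b)⁻¹ * (b * y) = x * y by group] at this
          inv_mem' := by
            intro x hx
            rcases hx with hx | hx
            · exact Or.inl (inv_mem hx)
            · refine Or.inr ?_
              have := mul_mem (conj_mem_of_mem_normalizer hQn' (inv_mem hx)) (hUQ (hsqU _ b.2))
              rwa [show (b : G) * ((b : G) * x)⁻¹ * (b : G)⁻¹ * ((b : G) * b) = b * x⁻¹ by group] at this }
      have hQR : Q ≤ R := fun x hx => Or.inl hx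
      have hmem : (b : G) ∈ R := Or.inr (hUQ (hsqU _ b.2))
      have hR : R ≤ T := by
        rintro x (hx | hx)
        · exact hQT hx
        · have := mul_mem (inv_mem b.2) (hQT hx)
          rwa [inv_mul_cancel_left] at this
      have htR : Fr.t ∉ R := by
        rintro (h | h)
        · exact htQ h
        · exact hne h
      exact hb (hQmax ⟨hUQ.trans hQR, hR, htR⟩ hQR hmem)
  refine Fr.no_transfer hT2 hodd hQT hidx2 fun x hx hc => ?_
  rcases (L.mem_Z x).1 (hT x (hQT hx) hc) with h | h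
  · -- no element of `M` is conjugate to `t`
    have hxV := L.conj_mem_V h hc
    have hbig : Nat.card Fr.V < Nat.card M ∨ Nat.card M = Nat.card Fr.V :=
      (lt_or_eq_of_le (card_le_of_le L.V_le)).imp id Eq.symm
    rcases hbig with hb | hb
    · exact L.not_conj_V hb hxV hc
    · -- the fixed points of `T` on `V`
      letI : MulAction T Fr.V :=
        { smul := fun a v => ⟨(a : G) * v * (a : G)⁻¹, L.conj_N_V (hTN a.2) v.2⟩
          one_smul := fun v => Subtype.ext (by show ((1 : T) : G) * v * ((1 : T) : G)⁻¹ = v; simp)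
          mul_smul := fun a b v => Subtype.ext (by
            show ((a * b : T) : G) * v * ((a * b : T) : G)⁻¹ = (a : G) * ((b : G) * v * (b : G)⁻¹) * (a : G)⁻¹
            simp [mul_assoc]) }
      have h1V : (1 : Fr.V) ∈ MulAction.fixedPoints T Fr.V := fun a => Subtype.ext (by
        show (a : G) * ((1 : Fr.V) : G) * (a : G)⁻¹ = ((1 : Fr.V) : G); simp)
      obtain ⟨⟨v₀, hv₀⟩, hfix, hv₀1⟩ := hT2.exists_fixed_point_of_prime_dvd_card_of_fixed_point Fr.V
        (hn.symm ▸ ⟨4, rfl⟩) h1V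
      have hx1 : x ≠ 1 := fun e => by
        obtain ⟨g, hg⟩ := isConj_iff.1 hc
        rw [e] at hg
        exact H70.ne_one_of_two Fr.ht (conj_eq_one_iff.1 hg)
      obtain ⟨j, hj⟩ := E.trans x hxV v₀ hv₀ hx1 (fun e => hv₀1.symm (Subtype.ext e))
      refine Fr.not_conj_of_centralizer hT2 (fun a ha => mem_centralizer_singleton_iff.2 ?_) ?_
        (hc.trans (isConj_iff.2 ⟨_, hj⟩))
      · exact mul_inv_eq_iff_eq_mul.1 (congrArg Subtype.val (hfix ⟨a, ha⟩))
      · rw [hTc, hn]; omega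
  · have hmU : Fr.t * x ∈ Q := hUQ (Or.inl h)
    exact htQ (by simpa using mul_mem hmU (inv_mem hx))

end H70.TwoLayer
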