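import Cfsg.Agent.H70.TwoLayer.BaseOrbit

/-! The cocycle of a level: `c n = (t·ⁿt)^e`. -/

set_option autoImplicit false
set_option linter.style.haveILetI false

namespace H70.TwoLayer

open Subgroup

universe u v

variable {G : Type u} [Group G] [Finite G] {P : Type v} [Group P] [Finite P]

local notation "C(" x ")" => Subgroup.centralizer ({x} : Set G)

variable {Fr : Frame G P} {E : VElem Fr} {M : Subgroup G}

theorem Level.t_not_M (L : Level Fr E M) : Fr.t ∉ M := fun h => Fr.t_not_V (L.cent _ h rfl)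

theorem Level.M_le_Z (L : Level Fr E M) : M ≤ L.Z := fun x hx => (L.mem_Z x).2 (Or.inl hx)

theorem Level.t_mem_Z (L : Level Fr E M) : Fr.t ∈ L.Z :=
  (L.mem_Z _).2 (Or.inr (by rw [Fr.t_mul_t]; exact one_mem M))

theorem Level.S0_le_Z (L : Level Fr E M) : Fr.S0 ≤ L.Z := fun x hx =>
  (L.mem_Z x).2 (hx.imp (fun h => L.V_le h) fun h => L.V_le h)

theorem Level.inv' (L : Level Fr E M) {m : G} (hm : m ∈ M) : Fr.t * m = m⁻¹ * Fr.t := by
  rw [← L.inv m hm]; group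

theorem Level.mem_V_of_sq (L : Level Fr E M) {m : G} (hm : m ∈ M) (h : m * m = 1) : m ∈ Fr.V :=
  L.cent m hm (by rw [L.inv' hm, inv_eq_of_mul_eq_one_right h])

theorem Level.Z_card (L : Level Fr E M) : Nat.card L.Z = 2 * Nat.card M := by
  classical
  rw [← Nat.card_congr (Equiv.ofBijective
    (fun p : Bool × M => (if p.1 then ⟨Fr.t * p.2, mul_mem L.t_mem_Z (L.M_le_Z p.2.2)⟩
      else ⟨p.2, L.M_le_Z p.2.2⟩ : L.Z))
    ⟨?_, ?_⟩), Nat.card_prod, Nat.card_eq_fintype_card (α := Bool), Fintype.card_bool]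
  · rintro ⟨a, x⟩ ⟨b, y⟩ h
    cases a <;> cases b <;> simp only [Bool.false_eq_true, if_false, if_true] at h <;>
      have h' := congrArg Subtype.val h
    · exact Prod.ext rfl (Subtype.ext h')
    · refine absurd ?_ L.t_not_M
      rw [show Fr.t = (x : G) * (y : G)⁻¹ from eq_mul_inv_of_mul_eq h'.symm]
      exact mul_mem x.2 (inv_mem y.2)
    · refine absurd ?_ L.t_not_M
      rw [show Fr.t = (y : G) * (x : G)⁻¹ from eq_mul_inv_of_mul_eq h']
      exact mul_mem y.2 (inv_mem x.2)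
    · exact Prod.ext rfl (Subtype.ext (mul_left_cancel h'))
  · rintro ⟨x, hx⟩
    rcases (L.mem_Z x).1 hx with h | h
    · exact ⟨⟨false, ⟨x, h⟩⟩, by simp⟩
    · exact ⟨⟨true, ⟨Fr.t * x, h⟩⟩, by simp [← mul_assoc, Fr.t_mul_t]⟩

theorem Level.Z_two (L : Level Fr E M) : IsPGroup 2 L.Z := by
  haveI : Fact (Nat.Prime 2) := ⟨Nat.prime_two⟩
  obtain ⟨k, hk⟩ := IsPGroup.iff_card.1 L.two
  exact IsPGroup.of_card (n := k + 1) (by rw [L.Z_card, hk, pow_succ, mul_comm])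

theorem Level.Z_comm_V (L : Level Fr E M) {x v : G} (hx : x ∈ L.Z) (hv : v ∈ Fr.V) : x * v = v * x := by
  rcases (L.mem_Z x).1 hx with h | h
  · exact L.comm x h v (L.V_le hv)
  · have h1 := L.comm _ h v (L.V_le hv)
    rw [← mul_assoc v, Fr.commute_t (Fr.V_le hv), mul_assoc Fr.t v, mul_assoc Fr.t x] at h1
    exact mul_left_cancel h1

theorem Level.exists_log (L : Level Fr E M) :
    ∃ k : ℕ, (∀ m ∈ M, m ^ 2 ^ (k + 1) = 1) ∧ ∃ m ∈ M, m ^ 2 ^ k ≠ 1 := by
  classical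
  obtain ⟨a, ha⟩ := IsPGroup.iff_card.1 L.two
  have hex : ∃ j : ℕ, ∀ m ∈ M, m ^ 2 ^ j = 1 := ⟨a, fun m hm => by
    rw [← orderOf_dvd_iff_pow_eq_one, ← ha]
    exact Subgroup.orderOf_dvd_natCard M hm⟩
  have hspec := Nat.find_spec hex
  obtain ⟨v, hv, hv1⟩ := E.exists_ne
  obtain ⟨k, hk⟩ : ∃ k, Nat.find hex = k + 1 := by
    refine ⟨Nat.find hex - 1, ?_⟩
    rcases Nat.eq_zero_or_pos (Nat.find hex) with h | h
    · exfalso
      rw [h] at hspec
      exact hv1 (by simpa using hspec v (L.V_le hv))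
    · omega
  refine ⟨k, hk ▸ hspec, ?_⟩
  have := Nat.find_min hex (show k < Nat.find hex by omega)
  push Not at this
  exact this

/-- half the exponent of `M` -/
noncomputable def Level.e (L : Level Fr E M) : ℕ := 2 ^ L.exists_log.choose

theorem Level.pow_e_sq (L : Level Fr E M) {m : G} (hm : m ∈ M) : m ^ L.e * m ^ L.e = 1 := by
  rw [← pow_add, Level.e, ← two_mul, ← pow_succ']
  exact L.exists_log.choose_spec.1 m hm

theorem Level.pow_e_mem (L : Level Fr E M) {m : G} (hm : m ∈ M) : m ^ L.e ∈ Fr.V :=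
  L.mem_V_of_sq (pow_mem hm _) (L.pow_e_sq hm)

theorem Level.pow_e_mul (L : Level Fr E M) {a b : G} (ha : a ∈ M) (hb : b ∈ M) :
    (a * b) ^ L.e = a ^ L.e * b ^ L.e :=
  Commute.mul_pow (L.comm a ha b hb) _

theorem Level.pow_e_self_sq (L : Level Fr E M) {y : G} (hy : y ∈ M) : (y * y) ^ L.e = 1 := by
  rw [L.pow_e_mul hy hy, L.pow_e_sq hy]

theorem Level.r_pow_act (L : Level Fr E M) (j : ℕ) {v : G} (hv : v ∈ Fr.V) :
    L.r ^ j * v * (L.r ^ j)⁻¹ = E.r ^ j * v * (E.r ^ j)⁻¹ := by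
  refine conj_pow_eq (A := Fr.V) (mem_normalizer_of fun x hx => ?_) L.r_act j v hv
  rw [L.r_act x hx]
  exact conj_mem_of_mem_normalizer E.r_N hx

theorem Level.trans (L : Level Fr E M) {v w : G} (hv : v ∈ Fr.V) (hw : w ∈ Fr.V) (h1 : v ≠ 1) (h2 : w ≠ 1) :
    ∃ j : ℕ, L.r ^ j * v * (L.r ^ j)⁻¹ = w := by
  obtain ⟨j, hj⟩ := E.trans v hv w hw h1 h2
  exact ⟨j, by rw [L.r_pow_act j hv, hj]⟩

theorem Level.exists_root (L : Level Fr E M) {v : G} (hv : v ∈ Fr.V) : ∃ m ∈ M, m ^ L.e = v := by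
  by_cases hv1 : v = 1
  · exact ⟨1, one_mem M, by rw [one_pow, hv1]⟩
  obtain ⟨m, hm, hm1⟩ := L.exists_log.choose_spec.2
  obtain ⟨j, hj⟩ := L.trans (L.pow_e_mem hm) hv hm1 hv1
  exact ⟨L.r ^ j * m * (L.r ^ j)⁻¹, conj_mem_of_mem_normalizer (pow_mem L.r_N j) hm, by rw [conj_pow, hj]⟩

/-- squares in `M` -/
def Level.SQ (L : Level Fr E M) : Subgroup G where
  carrier := {x | ∃ y ∈ M, y * y = x}
  one_mem' := ⟨1, one_mem M, mul_one 1⟩
  mul_mem' := by
    rintro _ _ ⟨a, ha, rfl⟩ ⟨b, hb, rfl⟩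
    refine ⟨a * b, mul_mem ha hb, ?_⟩
    rw [mul_assoc, ← mul_assoc b, L.comm b hb a ha]
    group
  inv_mem' := by
    rintro _ ⟨a, ha, rfl⟩
    exact ⟨a⁻¹, inv_mem ha, by group⟩

theorem Level.SQ_le (L : Level Fr E M) : L.SQ ≤ M := by
  rintro _ ⟨y, hy, rfl⟩; exact mul_mem hy hy

theorem Level.card_SQ (L : Level Fr E M) : Nat.card L.SQ * Nat.card Fr.V = Nat.card M := by
  let f : M →* G :=
    { toFun := fun m => (m : G) * m
      map_one' := mul_one 1
      map_mul' := fun a b => by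
        show (a : G) * b * (a * b) = a * a * (b * b)
        rw [mul_assoc, ← mul_assoc (b : G), L.comm b b.2 a a.2]
        group }
  have hr : f.range = L.SQ := by
    ext x
    exact ⟨fun ⟨m, hm⟩ => ⟨m, m.2, hm⟩, fun ⟨y, hy, he⟩ => ⟨⟨y, hy⟩, he⟩⟩
  have hk : f.ker = Fr.V.subgroupOf M := by
    ext m
    rw [MonoidHom.mem_ker, mem_subgroupOf]
    exact ⟨L.mem_V_of_sq m.2, fun h => E.sq _ h⟩
  have h := f.ker.card_mul_index
  rw [Subgroup.index_ker, hr, hk, Nat.card_congr (subgroupOfEquivOfLe L.V_le).toEquiv] at h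
  rw [← h, mul_comm]

theorem Level.exists_sqrt (L : Level Fr E M) {m : G} (hm : m ∈ M) (h : m ^ L.e = 1) : m ∈ L.SQ := by
  let f : M →* G :=
    { toFun := fun m => (m : G) ^ L.e
      map_one' := one_pow _
      map_mul' := fun a b => L.pow_e_mul a.2 b.2 }
  have hr : f.range = Fr.V := by
    ext x
    constructor
    · rintro ⟨m, rfl⟩; exact L.pow_e_mem m.2
    · intro hx
      obtain ⟨m, hm, he⟩ := L.exists_root hx
      exact ⟨⟨m, hm⟩, he⟩
  have hle : L.SQ.subgroupOf M ≤ f.ker := by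
    rintro ⟨x, hx⟩ ⟨y, hy, he⟩
    show x ^ L.e = 1
    rw [← show y * y = x from he]
    exact L.pow_e_self_sq hy
  have heq : L.SQ.subgroupOf M = f.ker := by
    refine eq_of_le_of_card_ge hle (le_of_eq ?_)
    have h := f.ker.card_mul_index
    rw [Subgroup.index_ker, hr, ← L.card_SQ] at h
    rw [Nat.eq_of_mul_eq_mul_right Nat.card_pos h, Nat.card_congr (subgroupOfEquivOfLe L.SQ_le).toEquiv]
  have : (⟨m, hm⟩ : M) ∈ L.SQ.subgroupOf M := heq ▸ MonoidHom.mem_ker.2 h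
  exact this

/-- the displacement of `t` -/
def Level.d (_ : Level Fr E M) (n : G) : G := Fr.t * (n * Fr.t * n⁻¹)

theorem Level.d_mem (L : Level Fr E M) {n : G} (hn : n ∈ normalizer (L.Z : Set G)) : L.d n ∈ M := by
  rcases (L.mem_Z _).1 (conj_mem_of_mem_normalizer hn L.t_mem_Z) with h | h
  · exfalso
    have := conj_mem_of_mem_normalizer (inv_mem (L.hMN n hn)) h
    rw [inv_inv, show n⁻¹ * (n * Fr.t * n⁻¹) * n = Fr.t by group] at this
    exact L.t_not_M this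
  · exact h

theorem Level.conj_t (L : Level Fr E M) (n : G) : n * Fr.t * n⁻¹ = Fr.t * L.d n := by
  rw [Level.d, ← mul_assoc Fr.t Fr.t, Fr.t_mul_t, one_mul]

theorem Level.d_mul (L : Level Fr E M) (a b : G) : L.d (a * b) = L.d a * (a * L.d b * a⁻¹) := by
  simp only [Level.d]
  calc Fr.t * (a * b * Fr.t * (a * b)⁻¹) = Fr.t * a * (b * Fr.t * b⁻¹) * a⁻¹ := by group
    _ = Fr.t * a * (Fr.t * Fr.t) * (b * Fr.t * b⁻¹) * a⁻¹ := by rw [Fr.t_mul_t, mul_one]
    _ = _ := by group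

/-- the cocycle -/
noncomputable def Level.c (L : Level Fr E M) (n : G) : G := L.d n ^ L.e

theorem Level.c_mem (L : Level Fr E M) {n : G} (hn : n ∈ normalizer (L.Z : Set G)) : L.c n ∈ Fr.V :=
  L.pow_e_mem (L.d_mem hn)

theorem Level.c_mul (L : Level Fr E M) {a b : G} (ha : a ∈ normalizer (L.Z : Set G))
    (hb : b ∈ normalizer (L.Z : Set G)) : L.c (a * b) = L.c a * (a * L.c b * a⁻¹) := by
  rw [Level.c, L.d_mul, L.pow_e_mul (L.d_mem ha) (conj_mem_of_mem_normalizer (L.hMN a ha) (L.d_mem hb)), conj_pow]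
  rfl

theorem Level.d_one (L : Level Fr E M) : L.d 1 = 1 := by
  simp [Level.d, Fr.t_mul_t]

theorem Level.c_one (L : Level Fr E M) : L.c 1 = 1 := by rw [Level.c, L.d_one, one_pow]

theorem Level.c_of_C (L : Level Fr E M) {x : G} (hx : x ∈ C(Fr.t)) : L.c x = 1 := by
  rw [Level.c, Level.d, mem_centralizer_singleton_iff.1 hx, mul_inv_cancel_right, Fr.t_mul_t, one_pow]

theorem Level.conj_N_V (L : Level Fr E M) {n v : G} (hn : n ∈ normalizer (L.Z : Set G)) (hv : v ∈ Fr.V) :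
    n * v * n⁻¹ ∈ Fr.V :=
  L.mem_V_of_sq (conj_mem_of_mem_normalizer (L.hMN n hn) (L.V_le hv))
    (by rw [show n * v * n⁻¹ * (n * v * n⁻¹) = n * (v * v) * n⁻¹ by group, E.sq v hv, mul_one, mul_inv_cancel])

theorem Level.c_inv_of_one (L : Level Fr E M) {n : G} (hn : n ∈ normalizer (L.Z : Set G)) (h : L.c n = 1) :
    L.c n⁻¹ = 1 := by
  have h1 := L.c_mul (inv_mem hn) hn
  rw [inv_mul_cancel, L.c_one, h, inv_inv] at h1
  simpa using h1.symm

theorem Level.c_Z (L : Level Fr E M) {x : G} (hx : x ∈ L.Z) : L.c x = 1 := by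
  have hM : ∀ m ∈ M, L.c m = 1 := by
    intro m hm
    rw [Level.c, Level.d, ← mul_assoc, ← mul_assoc, L.inv' hm, mul_assoc (m⁻¹ : G), Fr.t_mul_t, mul_one]
    exact L.pow_e_self_sq (inv_mem hm)
  rcases (L.mem_Z x).1 hx with h | h
  · exact hM x h
  · have ht : Fr.t ∈ normalizer (L.Z : Set G) := le_normalizer L.t_mem_Z
    have hm : Fr.t * x ∈ normalizer (L.Z : Set G) := le_normalizer (L.M_le_Z h)
    have h1 := L.c_mul ht hm
    rw [← mul_assoc, Fr.t_mul_t, one_mul, L.c_of_C Fr.t_mem_C, hM _ h] at h1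
    simpa using h1

theorem Level.r_N_Z (L : Level Fr E M) : L.r ∈ normalizer (L.Z : Set G) := mem_normalizer_of fun x hx => by
  refine (L.mem_Z _).2 ?_
  rcases (L.mem_Z x).1 hx with h | h
  · exact Or.inl (conj_mem_of_mem_normalizer L.r_N h)
  · right
    have := conj_mem_of_mem_normalizer L.r_N h
    rwa [← mul_assoc, mem_centralizer_singleton_iff.1 L.r_C,
      show Fr.t * L.r * x * L.r⁻¹ = Fr.t * (L.r * x * L.r⁻¹) by group] at this

/-- conjugating by elements centralizing `t` and normalizing `Z` commutes with `c` -/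
theorem Level.c_conj (L : Level Fr E M) {g n : G} (hg : g ∈ C(Fr.t)) (hgN : g ∈ normalizer (L.Z : Set G))
    (hn : n ∈ normalizer (L.Z : Set G)) : L.c (g * n * g⁻¹) = g * L.c n * g⁻¹ := by
  rw [L.c_mul (mul_mem hgN hn) (inv_mem hgN), L.c_mul hgN hn, L.c_of_C hg, L.c_of_C (inv_mem hg)]
  simp

/-- the stabilizer of the class of `t` -/
noncomputable def Level.St (L : Level Fr E M) : Subgroup G where
  carrier := {n | n ∈ normalizer (L.Z : Set G) ∧ L.c n = 1}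
  one_mem' := ⟨one_mem _, L.c_one⟩
  mul_mem' := fun {a b} ha hb => ⟨mul_mem ha.1 hb.1, by rw [L.c_mul ha.1 hb.1, ha.2, hb.2]; simp⟩
  inv_mem' := fun {a} ha => ⟨inv_mem ha.1, L.c_inv_of_one ha.1 ha.2⟩

theorem Level.Z_le_St (L : Level Fr E M) : L.Z ≤ L.St := fun _ hx => ⟨le_normalizer hx, L.c_Z hx⟩

theorem Level.exists_mul_C (L : Level Fr E M) {n : G} (hn : n ∈ L.St) : ∃ m ∈ M, m * n ∈ C(Fr.t) := by
  obtain ⟨y, hy, hyy⟩ := L.exists_sqrt (L.d_mem hn.1) hn.2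
  refine ⟨y, hy, mem_centralizer_singleton_iff.2 (mul_inv_eq_iff_eq_mul.1 ?_)⟩
  calc y * n * Fr.t * (y * n)⁻¹ = y * (n * Fr.t * n⁻¹) * y⁻¹ := by group
    _ = y * (Fr.t * (y * y)) * y⁻¹ := by rw [L.conj_t, ← hyy]
    _ = y * (Fr.t * y) := by group
    _ = Fr.t := by rw [L.inv' hy, mul_inv_cancel_left]

/-- the 2-subgroups of the stabilizer containing `Z` equal `Z` -/
theorem Level.two_le_Z (L : Level Fr E M) {A : Subgroup G} (hA : IsPGroup 2 A) (hZA : L.Z ≤ A)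
    (hAS : A ≤ L.St) : A ≤ L.Z := by
  intro x hx
  obtain ⟨m, hm, hmx⟩ := L.exists_mul_C (hAS hx)
  have h : A ⊓ C(Fr.t) = Fr.S0 := by
    refine (eq_of_le_of_card_ge (le_inf (L.S0_le_Z.trans hZA) Fr.S0_le_C) ?_).symm
    rw [Fr.card_S0]
    exact Nat.le_of_dvd (Nat.mul_pos two_pos Nat.card_pos)
      (Fr.two_bound (hA.to_le inf_le_left) (IsConj.refl _) inf_le_right)
  have h1 : m * x ∈ A ⊓ C(Fr.t) := ⟨mul_mem (hZA (L.M_le_Z hm)) hx, hmx⟩
  rw [h] at h1
  simpa using mul_mem (inv_mem (L.M_le_Z hm)) (L.S0_le_Z h1)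

/-- a 2-subgroup of `N(Z)` over `Z` has order at most `|Z|·|V|` -/
theorem Level.card_two_le (L : Level Fr E M) {A : Subgroup G} (hA : IsPGroup 2 A) (hZA : L.Z ≤ A)
    (hAN : A ≤ normalizer (L.Z : Set G)) : Nat.card A ≤ 2 * Nat.card M * Nat.card Fr.V := by
  classical
  have hZ : A ⊓ L.St = L.Z :=
    le_antisymm (L.two_le_Z (hA.to_le inf_le_left) (le_inf hZA L.Z_le_St) inf_le_right) (le_inf hZA L.Z_le_St)
  have h := (L.St.subgroupOf A).card_mul_index
  rw [show L.St.subgroupOf A = L.Z.subgroupOf A from by rw [← hZ, inf_comm, inf_subgroupOf_right],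
    Nat.card_congr (subgroupOfEquivOfLe hZA).toEquiv, L.Z_card] at h
  rw [← h]
  refine Nat.mul_le_mul_left _ ?_
  rw [Subgroup.index_eq_card]
  refine Nat.card_le_card_of_injective
    (fun q : A ⧸ L.Z.subgroupOf A => (⟨L.c q.out, L.c_mem (hAN q.out.2)⟩ : Fr.V)) ?_
  intro a b hab
  rw [← QuotientGroup.out_eq' a, ← QuotientGroup.out_eq' b]
  refine QuotientGroup.eq.2 (mem_subgroupOf.2 ?_)
  refine hZ.le (mem_inf.2 ⟨A.mul_mem (A.inv_mem a.out.2) b.out.2,
    mul_mem (inv_mem (hAN a.out.2)) (hAN b.out.2), ?_⟩)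
  have h1 : L.c (a.out : G) = L.c (b.out : G) := congrArg Subtype.val hab
  have h2 := L.c_mul (hAN a.out.2) (mul_mem (inv_mem (hAN a.out.2)) (hAN b.out.2))
  rw [mul_inv_cancel_left, ← h1, left_eq_mul, conj_eq_one_iff] at h2
  exact h2

/-- orbit bound -/
theorem card_le_class {A : Subgroup G} {x : G} {Y : Set G} (h : ∀ a ∈ A, a * x * a⁻¹ ∈ Y) :
    Nat.card A ≤ Nat.card (A ⊓ C(x) : Subgroup G) * Y.ncard := by
  classical
  have h1 := (C(x).subgroupOf A).card_mul_index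
  rw [← inf_subgroupOf_right C(x) A, Nat.card_congr (subgroupOfEquivOfLe inf_le_right).toEquiv,
    inf_comm] at h1
  rw [← h1]
  refine Nat.mul_le_mul_left _ ?_
  rw [Subgroup.index_eq_card, ← Nat.card_coe_set_eq]
  refine Nat.card_le_card_of_injective
    (fun q => (⟨(q.out : G) * x * (q.out : G)⁻¹, h _ q.out.2⟩ : Y)) ?_
  intro a b hab
  rw [← QuotientGroup.out_eq' a, ← QuotientGroup.out_eq' b]
  refine QuotientGroup.eq.2 (mem_subgroupOf.2 (mem_inf.2 ⟨mul_mem (inv_mem a.out.2) b.out.2, ?_⟩))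
  have he : (a.out : G) * x * (a.out : G)⁻¹ = (b.out : G) * x * (b.out : G)⁻¹ := congrArg Subtype.val hab
  refine mem_centralizer_singleton_iff.2 ?_
  show (a.out : G)⁻¹ * b.out * x = x * ((a.out : G)⁻¹ * b.out)
  calc (a.out : G)⁻¹ * b.out * x = (a.out : G)⁻¹ * ((b.out : G) * x * (b.out : G)⁻¹) * b.out := by group
    _ = (a.out : G)⁻¹ * ((a.out : G) * x * (a.out : G)⁻¹) * b.out := by rw [he]
    _ = _ := by group

/-- in a nonbase level no element of `V` is conjugate to `t` -/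
theorem Level.not_conj_V (L : Level Fr E M) (hbig : Nat.card Fr.V < Nat.card M) {v : G} (hv : v ∈ Fr.V) :
    ¬ IsConj Fr.t v :=
  Fr.not_conj_of_centralizer L.Z_two
    (fun x hx => mem_centralizer_singleton_iff.2 (L.Z_comm_V hx hv)) (by rw [L.Z_card]; omega)

/-- conjugates of `t` in `M` lie in `V` -/
theorem Level.conj_mem_V (L : Level Fr E M) {x : G} (hx : x ∈ M) (h : IsConj Fr.t x) : x ∈ Fr.V := by
  obtain ⟨g, rfl⟩ := isConj_iff.1 h
  refine L.mem_V_of_sq hx ?_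
  rw [show g * Fr.t * g⁻¹ * (g * Fr.t * g⁻¹) = g * (Fr.t * Fr.t) * g⁻¹ by group, Fr.t_mul_t, mul_one,
    mul_inv_cancel]

theorem Level.relIndex_M (L : Level Fr E M) : M.relIndex L.Z = 2 := by
  have h := (M.subgroupOf L.Z).card_mul_index
  rw [Nat.card_congr (subgroupOfEquivOfLe L.M_le_Z).toEquiv, L.Z_card, mul_comm 2] at h
  exact Nat.eq_of_mul_eq_mul_left Nat.card_pos h

/-- the cocycle is nontrivial -/
theorem Level.exists_c_ne (L : Level Fr E M) : ∃ n ∈ normalizer (L.Z : Set G), L.c n ≠ 1 := by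
  classical
  haveI : Fact (Nat.Prime 2) := ⟨Nat.prime_two⟩
  by_contra hall
  push Not at hall
  have hbig : Nat.card Fr.V < Nat.card M := by
    refine lt_of_le_of_ne (card_le_of_le L.V_le) fun he => ?_
    obtain ⟨n, hn, hnt⟩ := L.honto he.symm
    have hMV : Fr.V = M := eq_of_le_of_card_ge L.V_le he.ge
    obtain ⟨y, hy, hyy⟩ := L.exists_sqrt (L.d_mem hn) (hall n hn)
    have hd : L.d n = 1 := hyy ▸ E.sq y (hMV.symm ▸ hy)
    exact hnt (by rw [L.conj_t, hd, mul_one])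
  have hodd : ¬ 2 ∣ L.Z.index := by
    intro h2
    obtain ⟨S, hS⟩ := L.Z_two.exists_le_sylow
    have hlt : L.Z < S := lt_of_le_of_ne hS fun h => S.not_dvd_index (h ▸ h2)
    obtain ⟨g, hgS, hgZ, hgN⟩ := exists_mem_normalizer_of_lt S.2 hlt
    exact hgZ (L.two_le_Z (sup_zpowers_two S.2 hS hgS) le_sup_left
      (sup_le L.Z_le_St (zpowers_le.2 ⟨hgN, hall g hgN⟩)) (mem_sup_right (mem_zpowers g)))
  exact Fr.no_transfer L.Z_two hodd L.M_le_Z L.relIndex_M
    fun x hx hc => L.not_conj_V hbig (L.conj_mem_V hx hc) hc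

end H70.TwoLayer
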