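import Cfsg.Agent.H70.TwoLayer.LevelFacts

/-! If the centralizer of `V` moves the class of `t`, the level grows. -/

set_option autoImplicit false
set_option linter.style.haveILetI false
set_option maxHeartbeats 800000

namespace H70.TwoLayer

open Subgroup

universe u v

variable {G : Type u} [Group G] [Finite G] {P : Type v} [Group P] [Finite P]

local notation "C(" x ")" => Subgroup.centralizer ({x} : Set G)

variable {Fr : Frame G P} {E : VElem Fr} {M : Subgroup G}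

/-- the data of the growing step -/
structure Step (L : Level Fr E M) where
  T : Subgroup G
  two : IsPGroup 2 T
  Z_le : L.Z ≤ T
  le_N : ∀ x ∈ T, x ∈ normalizer (L.Z : Set G)
  centV : ∀ x ∈ T, ∀ v ∈ Fr.V, x * v = v * x
  card : Nat.card T = 2 * Nat.card M * Nat.card Fr.V
  onto : ∀ v ∈ Fr.V, ∃ x ∈ T, L.c x = v
  g : G
  g_C : g ∈ C(Fr.t)
  g_N : g ∈ normalizer (L.Z : Set G)
  g_T : g ∈ normalizer (T : Set G)
  g_odd : Odd (orderOf g)
  g_act : ∀ v ∈ Fr.V, g * v * g⁻¹ = E.r * v * E.r⁻¹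

theorem Level.exists_step (L : Level Fr E M) {k : G} (hk : k ∈ normalizer (L.Z : Set G))
    (hkV : ∀ v ∈ Fr.V, k * v = v * k) (hkc : L.c k ≠ 1) : Nonempty (Step L) := by
  classical
  haveI : Fact (Nat.Prime 2) := ⟨Nat.prime_two⟩
  set N := normalizer (L.Z : Set G)
  set K := N ⊓ centralizer (Fr.V : Set G)
  have hKV : ∀ x ∈ K, ∀ v ∈ Fr.V, x * v = v * x := fun x hx v hv =>
    (mem_centralizer_iff.1 (mem_inf.1 hx).2 v hv).symm
  have hKN : ∀ x ∈ K, x ∈ N := fun x hx => (mem_inf.1 hx).1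
  have hZK : L.Z ≤ K := fun x hx =>
    mem_inf.2 ⟨le_normalizer hx, mem_centralizer_iff.2 fun v hv => (L.Z_comm_V hx hv).symm⟩
  have hfixV : ∀ x ∈ K, ∀ v ∈ Fr.V, x * v * x⁻¹ = v := fun x hx v hv => by
    rw [hKV x hx v hv, mul_inv_cancel_right]
  have hchom : ∀ a ∈ K, ∀ b ∈ K, L.c (a * b) = L.c a * L.c b := fun a ha b hb => by
    rw [L.c_mul (hKN a ha) (hKN b hb), hfixV a ha _ (L.c_mem (hKN b hb))]
  let χ : K →* G :=
    { toFun := fun x => L.c x
      map_one' := L.c_one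
      map_mul' := fun a b => hchom a a.2 b b.2 }
  obtain ⟨T₀, hT₀⟩ := (L.Z_two.of_equiv (subgroupOfEquivOfLe hZK).symm).exists_le_sylow
  set T := (T₀ : Subgroup K).map K.subtype
  have hTK : T ≤ K := map_subtype_le _
  have hZT : L.Z ≤ T := fun x hx => ⟨⟨x, hZK hx⟩, hT₀ hx, rfl⟩
  have hrN : L.r ∈ N := L.r_N_Z
  have hrconj : ∀ (j : ℕ), ∀ x ∈ K, L.r ^ j * x * (L.r ^ j)⁻¹ ∈ K := by
    intro j x hx
    refine mem_inf.2 ⟨mul_mem (mul_mem (pow_mem hrN j) (hKN x hx)) (inv_mem (pow_mem hrN j)),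
      mem_centralizer_iff.2 fun v hv => ?_⟩
    have hv' : (L.r ^ j)⁻¹ * v * L.r ^ j ∈ Fr.V := by
      simpa using L.conj_N_V (inv_mem (pow_mem hrN j)) hv
    calc v * (L.r ^ j * x * (L.r ^ j)⁻¹)
        = L.r ^ j * ((L.r ^ j)⁻¹ * v * L.r ^ j * x) * (L.r ^ j)⁻¹ := by group
      _ = L.r ^ j * (x * ((L.r ^ j)⁻¹ * v * L.r ^ j)) * (L.r ^ j)⁻¹ := by rw [hKV x hx _ hv']
      _ = _ := by group
  -- the cocycle is onto on `T`
  have hontoK : ∀ v ∈ Fr.V, ∃ x ∈ K, L.c x = v := by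
    intro v hv
    by_cases hv1 : v = 1
    · exact ⟨1, one_mem K, by rw [L.c_one, hv1]⟩
    obtain ⟨j, hj⟩ := L.trans (L.c_mem hk) hv hkc hv1
    exact ⟨_, hrconj j k (mem_inf.2 ⟨hk, mem_centralizer_iff.2 fun v hv => (hkV v hv).symm⟩),
      by rw [L.c_conj (pow_mem L.r_C j) (pow_mem hrN j) hk, hj]⟩
  have hrange : χ.range = Fr.V := by
    ext x
    exact ⟨fun ⟨a, ha⟩ => ha ▸ L.c_mem (hKN a a.2),
      fun hx => let ⟨a, ha, he⟩ := hontoK x hx; ⟨⟨a, ha⟩, he⟩⟩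
  have hmapT : (T₀ : Subgroup K).map χ = Fr.V := by
    have hle : (T₀ : Subgroup K).map χ ≤ Fr.V := hrange ▸ map_le_range χ _
    refine le_antisymm hle (relIndex_eq_one.1 ?_)
    have h1 : ((T₀ : Subgroup K).map χ).relIndex Fr.V ∣ (T₀ : Subgroup K).index := by
      rw [← hrange, MonoidHom.range_eq_map, Subgroup.relIndex_map_map, top_sup_eq, relIndex_top_right]
      exact index_dvd_of_le le_sup_left
    obtain ⟨i, hi⟩ := Fr.V_two.index (((T₀ : Subgroup K).map χ).subgroupOf Fr.V)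
    change ((T₀ : Subgroup K).map χ).relIndex Fr.V = 2 ^ i at hi
    rcases i with _ | i
    · exact hi
    · exfalso
      rw [hi] at h1
      exact T₀.not_dvd_index ((dvd_pow_self 2 i.succ_ne_zero).trans h1)
  have honto : ∀ v ∈ Fr.V, ∃ x ∈ T, L.c x = v := by
    intro v hv
    rw [← hmapT] at hv
    obtain ⟨x, hx, he⟩ := hv
    exact ⟨x, ⟨x, hx, rfl⟩, he⟩
  have hkerT : (χ.domRestrict (T₀ : Subgroup K)).ker = (L.Z.subgroupOf K).subgroupOf (T₀ : Subgroup K) := by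
    ext ⟨⟨x, hxK⟩, hx⟩
    rw [MonoidHom.mem_ker]
    constructor
    · intro h
      have hA : IsPGroup 2 (T ⊓ L.St : Subgroup G) := (T₀.2.map K.subtype).to_le inf_le_left
      exact L.two_le_Z hA (le_inf hZT L.Z_le_St) inf_le_right (mem_inf.2 ⟨⟨⟨x, hxK⟩, hx, rfl⟩, hKN x hxK, h⟩)
    · intro h
      exact L.c_Z h
  have hcardT : Nat.card T = 2 * Nat.card M * Nat.card Fr.V := by
    rw [card_map_of_injective K.subtype_injective, ← (χ.domRestrict (T₀ : Subgroup K)).ker.card_mul_index,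
      Subgroup.index_ker, MonoidHom.domRestrict_range, hmapT, hkerT,
      Nat.card_congr (subgroupOfEquivOfLe hT₀).toEquiv, Nat.card_congr (subgroupOfEquivOfLe hZK).toEquiv, L.Z_card]
  -- Frattini
  have hTodd : ¬ 2 ∣ T.relIndex K := by
    intro h
    rw [Subgroup.relIndex, show T.subgroupOf K = (T₀ : Subgroup K) from
      comap_map_eq_self_of_injective K.subtype_injective _] at h
    exact T₀.not_dvd_index h
  have hT2 : IsPGroup 2 T := T₀.2.map K.subtype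
  obtain ⟨h, hhK, hh⟩ := exists_cj_le_of_odd hT2 hTK hTodd (hT2.map _ : IsPGroup 2 (H70.cj L.r T))
    (by rintro _ ⟨x, hx, rfl⟩; simpa using hrconj 1 x (hTK hx))
  rw [H70.cj_cj] at hh
  set x₀ := h * L.r
  have hx₀N : x₀ ∈ N := mul_mem (hKN h hhK) hrN
  have hx₀T : x₀ ∈ normalizer (T : Set G) := H70.cj_eq_self_iff.1 (H70.eq_of_cj_le hh)
  obtain ⟨τ, hτ, hτc⟩ := honto _ (L.c_mem hx₀N)
  set x₁ := τ * x₀
  have hτN : τ ∈ N := hKN τ (hTK hτ)
  have hx₁N : x₁ ∈ N := mul_mem hτN hx₀N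
  have hx₁c : L.c x₁ = 1 := by
    rw [L.c_mul hτN hx₀N, hfixV τ (hTK hτ) _ (L.c_mem hx₀N), hτc, E.sq _ (L.c_mem hx₀N)]
  obtain ⟨m, hm, hy⟩ := L.exists_mul_C (n := x₁) ⟨hx₁N, hx₁c⟩
  set y := m * x₁
  have hyN : y ∈ N := mul_mem (le_normalizer (L.M_le_Z hm)) hx₁N
  have hyT : y ∈ normalizer (T : Set G) :=
    mul_mem (le_normalizer (hZT (L.M_le_Z hm))) (mul_mem (le_normalizer hτ) hx₀T)
  have hyact : ∀ v ∈ Fr.V, y * v * y⁻¹ = E.r * v * E.r⁻¹ := by
    intro v hv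
    have hr' : L.r * v * L.r⁻¹ ∈ Fr.V := L.conj_N_V hrN hv
    calc y * v * y⁻¹ = (m * τ * h) * (L.r * v * L.r⁻¹) * (m * τ * h)⁻¹ := by simp only [y, x₁, x₀]; group
      _ = L.r * v * L.r⁻¹ := hfixV _ (mul_mem (mul_mem (hZK (L.M_le_Z hm)) (hTK hτ)) hhK) _ hr'
      _ = _ := L.r_act v hv
  obtain ⟨g, w, hgodd, hgw, hgy, hwy, a, hwa⟩ := exists_odd_part y
  obtain ⟨j, hj⟩ := (mem_powers_iff_mem_zpowers.2 hwy)
  change y ^ j = w at hj
  have hypow : ∀ (i : ℕ), ∀ v ∈ Fr.V, y ^ i * v * (y ^ i)⁻¹ = E.r ^ i * v * (E.r ^ i)⁻¹ := fun i =>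
    conj_pow_eq (A := Fr.V) (mem_normalizer_of fun x hx => L.conj_N_V hyN hx) hyact i
  have hfix : ∀ v ∈ Fr.V, w * v * w⁻¹ = v := by
    intro v hv
    have h1 : E.r ^ (j * 2 ^ a) ∈ centralizer (Fr.V : Set G) := mem_centralizer_iff.2 fun u hu => by
      have := hypow (j * 2 ^ a) u hu
      rw [show y ^ (j * 2 ^ a) = 1 by rw [pow_mul, hj]; exact orderOf_dvd_iff_pow_eq_one.1 hwa, one_mul, inv_one,
        mul_one] at this
      exact (mul_inv_eq_iff_eq_mul.1 this.symm).symm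
    have h2 : E.r ^ j ∈ zpowers (E.r ^ (j * 2 ^ a)) := by
      have hord : orderOf ((E.r ^ j) ^ 2 ^ a) = orderOf (E.r ^ j) := by
        rw [orderOf_pow, Nat.Coprime.gcd_eq_one
          ((Nat.coprime_two_right.2 (E.r_odd.of_dvd_nat (orderOf_pow_dvd j))).pow_right a), Nat.div_one]
      have hz : zpowers ((E.r ^ j) ^ 2 ^ a) = zpowers (E.r ^ j) :=
        eq_of_le_of_card_ge (zpowers_le.2 (npow_mem_zpowers _ _)) (by
          rw [Nat.card_zpowers, Nat.card_zpowers, hord])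
      rw [pow_mul, hz]; exact mem_zpowers _
    rw [← hj, hypow j v hv, ← mem_centralizer_iff.1 ((zpowers_le.2 h1) h2) v hv, mul_inv_cancel_right]
  refine ⟨⟨T, hT2, hZT, fun x hx => hKN x (hTK hx), fun x hx => hKV x (hTK hx), hcardT, honto, g,
    (zpowers_le.2 hy) hgy, (zpowers_le.2 hyN) hgy, (zpowers_le.2 hyT) hgy, hgodd, fun v hv => ?_⟩⟩
  rw [hgw, mul_inv_rev, show y * w * v * (w⁻¹ * y⁻¹) = y * (w * v * w⁻¹) * y⁻¹ by group, hfix v hv, hyact v hv]

section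

variable {L : Level Fr E M} (S : Step L)

theorem Step.conj_c {x : G} (hx : x ∈ S.T) {v : G} (hv : v ∈ Fr.V) : x * v * x⁻¹ = v := by
  rw [S.centV x hx v hv, mul_inv_cancel_right]

theorem Step.c_hom {a b : G} (ha : a ∈ S.T) (hb : b ∈ S.T) : L.c (a * b) = L.c a * L.c b := by
  rw [L.c_mul (S.le_N a ha) (S.le_N b hb), S.conj_c ha (L.c_mem (S.le_N b hb))]

theorem Step.mem_Z_of_c {x : G} (hx : x ∈ S.T) (h : L.c x = 1) : x ∈ L.Z :=
  L.two_le_Z (S.two.to_le (inf_le_left : S.T ⊓ L.St ≤ S.T)) (le_inf S.Z_le L.Z_le_St) inf_le_right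
    (mem_inf.2 ⟨hx, S.le_N x hx, h⟩)

/-- all elements of `tM` are `T`-conjugate to `t` -/
theorem Step.exists_conj {m : G} (hm : m ∈ M) : ∃ w ∈ S.T, w * Fr.t * w⁻¹ = Fr.t * m := by
  obtain ⟨τ, hτ, hτc⟩ := S.onto _ (L.pow_e_mem hm)
  have hdm := L.d_mem (S.le_N τ hτ)
  obtain ⟨y, hy, hyy⟩ := L.exists_sqrt (mul_mem (inv_mem hm) hdm) (by
    rw [L.pow_e_mul (inv_mem hm) hdm, show L.d τ ^ L.e = m ^ L.e from hτc, inv_pow, inv_mul_cancel])
  refine ⟨y * τ, mul_mem (S.Z_le (L.M_le_Z hy)) hτ, ?_⟩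
  calc y * τ * Fr.t * (y * τ)⁻¹ = y * (τ * Fr.t * τ⁻¹) * y⁻¹ := by group
    _ = y * (Fr.t * (m * (y * y))) * y⁻¹ := by rw [L.conj_t, hyy, mul_inv_cancel_left]
    _ = y * Fr.t * (m * y) := by group
    _ = Fr.t * y⁻¹ * (y * m) := by
      rw [L.inv' (inv_mem hy), inv_inv, L.comm m hm y hy]
    _ = _ := by group

theorem Step.cent_tm {m x : G} (hm : m ∈ M) (hx : x ∈ S.T) (hc : x * (Fr.t * m) = Fr.t * m * x) : x ∈ L.Z := by
  obtain ⟨w, hw, he⟩ := S.exists_conj hm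
  have h1 : w⁻¹ * x * w ∈ C(Fr.t) := mem_centralizer_singleton_iff.2 (by
    rw [← he] at hc
    calc w⁻¹ * x * w * Fr.t = w⁻¹ * (x * (w * Fr.t * w⁻¹)) * w := by group
      _ = w⁻¹ * (w * Fr.t * w⁻¹ * x) * w := by rw [hc]
      _ = _ := by group)
  have h2 : w⁻¹ * x * w ∈ L.Z := S.mem_Z_of_c (mul_mem (mul_mem (inv_mem hw) hx) hw) (L.c_of_C h1)
  have := conj_mem_of_mem_normalizer (S.le_N w hw) h2
  rwa [show w * (w⁻¹ * x * w) * w⁻¹ = x by group] at this

theorem Step.sq_mem_M {x : G} (hx : x ∈ S.T) : x * x ∈ M := by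
  have hZ : x * x ∈ L.Z := S.mem_Z_of_c (mul_mem hx hx) (by
    rw [S.c_hom hx hx, E.sq _ (L.c_mem (S.le_N x hx))])
  rcases (L.mem_Z _).1 hZ with h | h
  · exact h
  have he : x * x = Fr.t * (Fr.t * (x * x)) := by rw [← mul_assoc Fr.t Fr.t, Fr.t_mul_t, one_mul]
  have hxZ : x ∈ L.Z := S.cent_tm h hx (by rw [← he]; group)
  rcases (L.mem_Z x).1 hxZ with h' | h'
  · exact mul_mem h' h'
  · have hm := L.inv _ h'
    rw [Fr.t_inv, ← mul_assoc, Fr.t_mul_t, one_mul, mul_inv_rev, Fr.t_inv] at hm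
    -- `hm : x * t = x⁻¹ * t`
    rw [show x * x = 1 from eq_inv_iff_mul_eq_one.1 (mul_right_cancel hm)]
    exact one_mem M

theorem Step.conj_M {x m : G} (hx : x ∈ S.T) (hm : m ∈ M) : x * m * x⁻¹ ∈ M :=
  conj_mem_of_mem_normalizer (L.hMN x (S.le_N x hx)) hm

theorem Step.comm_mem_M {a b : G} (ha : a ∈ S.T) (hb : b ∈ S.T) : a * b * a⁻¹ * b⁻¹ ∈ M := by
  have h1 := S.sq_mem_M (mul_mem ha hb)
  have h2 := S.conj_M (inv_mem hb) (S.sq_mem_M (inv_mem ha))
  rw [inv_inv] at h2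
  have := mul_mem (mul_mem h1 h2) (S.sq_mem_M (inv_mem hb))
  rwa [show a * b * (a * b) * (b⁻¹ * (a⁻¹ * a⁻¹) * b) * (b⁻¹ * b⁻¹) = a * b * a⁻¹ * b⁻¹ by group] at this

theorem Step.g_fix {v : G} (hv : v ∈ Fr.V) (h : S.g * v * S.g⁻¹ = v) : v = 1 := by
  by_contra hv1
  have hpow : ∀ j : ℕ, E.r ^ j * v * (E.r ^ j)⁻¹ = v := by
    intro j
    induction j with
    | zero => simp
    | succ j ih =>
      rw [pow_succ, mul_inv_rev, show E.r ^ j * E.r * v * (E.r⁻¹ * (E.r ^ j)⁻¹) =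
        E.r ^ j * (E.r * v * E.r⁻¹) * (E.r ^ j)⁻¹ by group, ← S.g_act v hv, h, ih]
  have hsub : (Fr.V : Set G) ⊆ {1, v} := fun w hw => by
    by_cases h1 : w = 1
    · exact Or.inl h1
    · obtain ⟨j, hj⟩ := E.trans v hv w hw hv1 h1
      exact Or.inr (by rw [← hj, hpow]; rfl)
  have := Set.ncard_le_ncard hsub (Set.toFinite _)
  rw [← Nat.card_coe_set_eq] at this
  have h4 := (Set.ncard_insert_le (1 : G) {v})
  rw [Set.ncard_singleton] at h4
  have := Fr.four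
  simp only [SetLike.coe_sort_coe] at *
  omega

/-- the complement `M'` of `t` in `T` -/
theorem Step.exists_M' : ∃ M' : Subgroup G, M ≤ M' ∧ M' ≤ S.T ∧ Fr.t ∉ M' ∧
    S.g ∈ normalizer (M' : Set G) ∧ M'.relIndex S.T = 2 ∧
    Nat.card M' = Nat.card M * Nat.card Fr.V ∧ (∀ x ∈ S.T, x ∈ M' ∨ Fr.t * x ∈ M') := by
  classical
  have hgM : S.g ∈ normalizer (M : Set G) := L.hMN _ S.g_N
  have hMT : M ≤ S.T := L.M_le_Z.trans S.Z_le
  set M₀ := M.subgroupOf S.T
  haveI : M₀.Normal := ⟨fun m hm x => mem_subgroupOf.2 (S.conj_M x.2 (mem_subgroupOf.1 hm))⟩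
  letI : CommGroup (S.T ⧸ M₀) :=
    { (inferInstance : Group (S.T ⧸ M₀)) with
      mul_comm := fun x y => by
        induction x using QuotientGroup.induction_on with | _ a => ?_
        induction y using QuotientGroup.induction_on with | _ b => ?_
        rw [← QuotientGroup.mk_mul, ← QuotientGroup.mk_mul, QuotientGroup.eq, mem_subgroupOf]
        show ((a : G) * b)⁻¹ * ((b : G) * a) ∈ M
        have := S.comm_mem_M (inv_mem b.2) (inv_mem a.2)
        rw [inv_inv, inv_inv] at this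
        rwa [show ((a : G) * b)⁻¹ * ((b : G) * a) = (b : G)⁻¹ * (a : G)⁻¹ * b * a by group] }
  let cg : S.T →* S.T :=
    { toFun := fun x => ⟨S.g * x * S.g⁻¹, conj_mem_of_mem_normalizer S.g_T x.2⟩
      map_one' := Subtype.ext (by simp)
      map_mul' := fun a b => Subtype.ext (by simp [mul_assoc]) }
  let cgq : S.T ⧸ M₀ →* S.T ⧸ M₀ := QuotientGroup.map M₀ M₀ cg (fun m hm =>
    mem_subgroupOf.2 (conj_mem_of_mem_normalizer hgM (mem_subgroupOf.1 hm)))
  let μ : S.T ⧸ M₀ →* S.T ⧸ M₀ :=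
    { toFun := fun x => cgq x / x
      map_one' := by simp
      map_mul' := fun a b => by rw [map_mul, mul_div_mul_comm] }
  have hμ : ∀ x : S.T, μ (x : S.T ⧸ M₀) = ((cg x : S.T) : S.T ⧸ M₀) / (x : S.T ⧸ M₀) := fun x => rfl
  set M₁ := μ.range.comap (QuotientGroup.mk' M₀)
  set M' := M₁.map S.T.subtype
  have hmem : ∀ (x : G) (hx : x ∈ S.T), x ∈ M' ↔ ((⟨x, hx⟩ : S.T) : S.T ⧸ M₀) ∈ μ.range := by
    intro x hx
    constructor
    · rintro ⟨y, hy, rfl⟩; exact hy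
    · intro h; exact ⟨⟨x, hx⟩, h, rfl⟩
  have hker : μ.ker = (L.Z.subgroupOf S.T).map (QuotientGroup.mk' M₀) := by
    ext q
    induction q using QuotientGroup.induction_on with | _ x => ?_
    rw [MonoidHom.mem_ker, hμ, div_eq_one]
    constructor
    · intro h
      have hc : L.c (S.g * x * S.g⁻¹) = L.c x := by
        have h2 := QuotientGroup.eq.1 h.symm
        rw [mem_subgroupOf] at h2
        replace h2 : (x : G)⁻¹ * (S.g * x * S.g⁻¹) ∈ M := h2
        have h3 : S.g * x * S.g⁻¹ = (x : G) * ((x : G)⁻¹ * (S.g * x * S.g⁻¹)) := by group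
        rw [h3, S.c_hom x.2 (hMT h2), L.c_Z (L.M_le_Z h2), mul_one]
      rw [L.c_conj S.g_C S.g_N (S.le_N x x.2)] at hc
      exact ⟨x, S.mem_Z_of_c x.2 (S.g_fix (L.c_mem (S.le_N x x.2)) hc), rfl⟩
    · rintro ⟨z, hz, he⟩
      rw [QuotientGroup.mk'_apply] at he
      have key : ∀ z : S.T, (z : G) ∈ L.Z → ((cg z : S.T) : S.T ⧸ M₀) = (z : S.T ⧸ M₀) := by
        intro z hz
        rw [QuotientGroup.eq, mem_subgroupOf]
        show (S.g * (z : G) * S.g⁻¹)⁻¹ * z ∈ M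
        rcases (L.mem_Z _).1 hz with h | h
        · exact mul_mem (inv_mem (conj_mem_of_mem_normalizer hgM h)) h
        · have hc := mem_centralizer_singleton_iff.1 S.g_C
          have h1 := mul_mem (inv_mem (conj_mem_of_mem_normalizer hgM h)) h
          have e1 : S.g * (Fr.t * (z : G)) * S.g⁻¹ = Fr.t * (S.g * (z : G) * S.g⁻¹) := by
            rw [← mul_assoc, hc]; group
          rw [e1, mul_inv_rev, Fr.t_inv, mul_assoc, ← mul_assoc Fr.t Fr.t, Fr.t_mul_t, one_mul] at h1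
          exact h1
      calc ((cg x : S.T) : S.T ⧸ M₀) = cgq (x : S.T ⧸ M₀) := rfl
        _ = cgq (z : S.T ⧸ M₀) := by rw [he]
        _ = (z : S.T ⧸ M₀) := key z hz
        _ = _ := he
  have hW : Nat.card μ.ker = 2 := by
    rw [hker]
    have h := ((QuotientGroup.mk' M₀).domRestrict (L.Z.subgroupOf S.T)).ker.card_mul_index
    rw [Subgroup.index_ker, MonoidHom.domRestrict_range, MonoidHom.ker_domRestrict, QuotientGroup.ker_mk',
      Nat.card_congr (subgroupOfEquivOfLe (show M₀ ≤ L.Z.subgroupOf S.T from fun x hx =>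
        mem_subgroupOf.2 (L.M_le_Z (mem_subgroupOf.1 hx)))).toEquiv,
      Nat.card_congr (subgroupOfEquivOfLe hMT).toEquiv, Nat.card_congr (subgroupOfEquivOfLe S.Z_le).toEquiv,
      L.Z_card, mul_comm 2] at h
    exact Nat.eq_of_mul_eq_mul_left Nat.card_pos h
  have hidx1 : M₁.index = 2 := by
    rw [Subgroup.index_comap_of_surjective _ (QuotientGroup.mk'_surjective M₀)]
    have h1 := μ.range.card_mul_index
    have h2 := μ.ker.card_mul_index
    rw [Subgroup.index_ker, hW] at h2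
    rw [← h2, mul_comm 2] at h1
    exact Nat.eq_of_mul_eq_mul_left Nat.card_pos h1
  have hMM' : M ≤ M' := fun x hx => (hmem x (hMT hx)).2 (by
    rw [(QuotientGroup.eq_one_iff (⟨x, hMT hx⟩ : S.T)).2 (mem_subgroupOf.2 hx)]
    exact one_mem _)
  have hM'T : M' ≤ S.T := map_subtype_le _
  have ht : Fr.t ∉ M' := by
    intro h
    obtain ⟨q, hq⟩ := (hmem _ (S.Z_le L.t_mem_Z)).1 h
    induction q using QuotientGroup.induction_on with | _ z => ?_
    set tb : S.T ⧸ M₀ := ((⟨Fr.t, S.Z_le L.t_mem_Z⟩ : S.T) : S.T ⧸ M₀)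
    have hq' : cgq (z : S.T ⧸ M₀) = tb * (z : S.T ⧸ M₀) := div_eq_iff_eq_mul.1 hq
    have hfix : cgq tb = tb := congrArg (fun w : S.T => (w : S.T ⧸ M₀)) (Subtype.ext (by
      show S.g * Fr.t * S.g⁻¹ = Fr.t
      rw [mem_centralizer_singleton_iff.1 S.g_C, mul_inv_cancel_right]))
    have hit : ∀ i : ℕ, (cgq^[i]) (z : S.T ⧸ M₀) = tb ^ i * (z : S.T ⧸ M₀) := by
      intro i
      induction i with
      | zero => simp
      | succ i ih => rw [Function.iterate_succ_apply', ih, map_mul, map_pow, hfix, hq', pow_succ, mul_assoc]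
    have hit2 : ∀ (i : ℕ) (w : S.T), ((cg^[i]) w : G) = S.g ^ i * w * (S.g ^ i)⁻¹ := by
      intro i w
      induction i with
      | zero => simp
      | succ i ih =>
        rw [Function.iterate_succ_apply', show ((cg ((cg^[i]) w) : S.T) : G) = S.g * ((cg^[i]) w : G) * S.g⁻¹ from rfl,
          ih, pow_succ']
        group
    have hit3 : ∀ (i : ℕ) (w : S.T), (cgq^[i]) (w : S.T ⧸ M₀) = (((cg^[i]) w : S.T) : S.T ⧸ M₀) := by
      intro i w
      induction i with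
      | zero => rfl
      | succ i ih => rw [Function.iterate_succ_apply', ih, Function.iterate_succ_apply']; rfl
    obtain ⟨i, hi⟩ := S.g_odd
    have h1 := hit (orderOf S.g)
    have h2 : (cg^[orderOf S.g]) z = z := Subtype.ext (by rw [hit2, pow_orderOf_eq_one]; simp)
    rw [hit3, h2, right_eq_mul] at h1
    have htb2 : tb ^ 2 = 1 := by
      rw [pow_two, ← QuotientGroup.mk_mul]
      refine (QuotientGroup.eq_one_iff _).2 (mem_subgroupOf.2 ?_)
      show Fr.t * Fr.t ∈ M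
      rw [Fr.t_mul_t]; exact one_mem M
    rw [hi, pow_succ, pow_mul, htb2, one_pow, one_mul] at h1
    exact L.t_not_M (mem_subgroupOf.1 ((QuotientGroup.eq_one_iff _).1 h1))
  have hrel : M'.relIndex S.T = 2 := by
    rw [Subgroup.relIndex, show M'.subgroupOf S.T = M₁ from
      comap_map_eq_self_of_injective S.T.subtype_injective _, hidx1]
  refine ⟨M', hMM', hM'T, ht, mem_normalizer_of fun x hx => ?_, hrel, ?_, fun x hx => ?_⟩
  · obtain ⟨q, hq⟩ := (hmem x (hM'T hx)).1 hx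
    refine (hmem _ (conj_mem_of_mem_normalizer S.g_T (hM'T hx))).2 ⟨cgq q, ?_⟩
    show cgq (cgq q) / cgq q = _
    rw [← map_div]
    exact (congrArg cgq hq).trans rfl
  · have h := (M'.subgroupOf S.T).card_mul_index
    rw [Nat.card_congr (subgroupOfEquivOfLe hM'T).toEquiv, show (M'.subgroupOf S.T).index = 2 from hrel,
      S.card] at h
    linarith
  · have hiff := Subgroup.mul_mem_iff_of_index_two (show (M'.subgroupOf S.T).index = 2 from hrel)
      (a := ⟨Fr.t, S.Z_le L.t_mem_Z⟩) (b := ⟨x, hx⟩)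
    by_cases hxM : x ∈ M'
    · exact Or.inl hxM
    · exact Or.inr (mem_subgroupOf.1 (hiff.2 (iff_of_false (fun h => ht h) (fun h => hxM h))))

include S in
/-- one step of the induction -/
theorem Step.grow : ∃ M' : Subgroup G, Nat.card M < Nat.card M' ∧ Nonempty (Level Fr E M') := by
  classical
  haveI : Fact (Nat.Prime 2) := ⟨Nat.prime_two⟩
  obtain ⟨M', hMM', hM'T, ht', hgM', hidx, hcard, hcov⟩ := S.exists_M'
  have hQ := Fr.four
  have hMpos : 0 < Nat.card M := Nat.card_pos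
  have hM'2 : IsPGroup 2 M' := S.two.to_le hM'T
  -- no element of `V` is conjugate to `t`
  have hVno : ∀ v ∈ Fr.V, ¬ IsConj Fr.t v := fun v hv =>
    Fr.not_conj_of_centralizer S.two (fun x hx => mem_centralizer_singleton_iff.2 (S.centV x hx v hv))
      (by
        rw [S.card]
        have := card_le_of_le L.V_le
        nlinarith)
  have hZM' : ∀ x ∈ M', x ∈ L.Z → x ∈ M := by
    intro x hx hxZ
    rcases (L.mem_Z x).1 hxZ with h | h
    · exact h
    · exact absurd (by simpa using mul_mem (hMM' h) (inv_mem hx)) ht'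
  -- cosets of `M` in `M'` form one orbit
  have horb : ∀ u ∈ M', u ∉ M → ∀ x ∈ M', x ∉ M →
      ∃ (i : ℕ), ∃ m ∈ M, x = (S.g ^ i * u * (S.g ^ i)⁻¹) * m := by
    intro u hu huM x hx hxM
    have hcu : L.c u ≠ 1 := fun h => huM (hZM' u hu (S.mem_Z_of_c (hM'T hu) h))
    have hcx : L.c x ≠ 1 := fun h => hxM (hZM' x hx (S.mem_Z_of_c (hM'T hx) h))
    have huV := L.c_mem (S.le_N u (hM'T hu))
    obtain ⟨i, hi⟩ := E.trans _ huV _ (L.c_mem (S.le_N x (hM'T hx))) hcu hcx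
    have hact : S.g ^ i * L.c u * (S.g ^ i)⁻¹ = E.r ^ i * L.c u * (E.r ^ i)⁻¹ :=
      conj_pow_eq (A := Fr.V) (mem_normalizer_of fun v hv => L.conj_N_V S.g_N hv) S.g_act i _ huV
    have hu'M : S.g ^ i * u * (S.g ^ i)⁻¹ ∈ M' := conj_mem_of_mem_normalizer (pow_mem hgM' i) hu
    refine ⟨i, _, hZM' _ (mul_mem (inv_mem hu'M) hx) (S.mem_Z_of_c (hM'T (mul_mem (inv_mem hu'M) hx)) ?_),
      (mul_inv_cancel_left _ x).symm⟩
    have hcu' : L.c (S.g ^ i * u * (S.g ^ i)⁻¹) = L.c x := by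
      rw [L.c_conj (pow_mem S.g_C i) (pow_mem S.g_N i) (S.le_N u (hM'T hu)), hact, hi]
    have h1 := S.c_hom (hM'T hu'M) (hM'T (mul_mem (inv_mem hu'M) hx))
    rw [mul_inv_cancel_left, hcu', left_eq_mul] at h1
    exact h1
  have hno : ∀ x ∈ M', ¬ IsConj Fr.t x := by
    intro u hu hc
    have hu2 : u * u = 1 := by
      obtain ⟨w, rfl⟩ := isConj_iff.1 hc
      rw [show w * Fr.t * w⁻¹ * (w * Fr.t * w⁻¹) = w * (Fr.t * Fr.t) * w⁻¹ by group, Fr.t_mul_t, mul_one,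
        mul_inv_cancel]
    have huM : u ∉ M := fun h => hVno u (L.conj_mem_V h hc) hc
    have hsq : ∀ x ∈ M', x * x ∈ L.SQ := by
      intro x hx
      by_cases hxM : x ∈ M
      · exact ⟨x, hxM, rfl⟩
      obtain ⟨i, m, hm, rfl⟩ := horb u hu huM x hx hxM
      set u' := S.g ^ i * u * (S.g ^ i)⁻¹
      have hu'T : u' ∈ S.T := hM'T (conj_mem_of_mem_normalizer (pow_mem hgM' i) hu)
      have hu'2 : u' * u' = 1 := by
        rw [show u' * u' = S.g ^ i * (u * u) * (S.g ^ i)⁻¹ by simp only [u']; group, hu2]; group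
      have he : u' * m * (u' * m) = (u' * m * u'⁻¹) * m := by
        rw [inv_eq_of_mul_eq_one_right hu'2]; group
      rw [he]
      refine L.exists_sqrt (mul_mem (S.conj_M hu'T hm) hm) ?_
      rw [L.pow_e_mul (S.conj_M hu'T hm) hm, conj_pow, S.conj_c hu'T (L.pow_e_mem hm), L.pow_e_sq hm]
    have hnSQ : ∀ w ∈ S.T, ∀ y ∈ L.SQ, w * y * w⁻¹ ∈ L.SQ := by
      rintro w hw _ ⟨y, hy, rfl⟩
      exact ⟨w * y * w⁻¹, S.conj_M hw hy, by group⟩
    have hY : ∀ w ∈ M', w * u * w⁻¹ ∈ (fun y => u * y) '' (L.SQ : Set G) := by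
      intro w hw
      refine ⟨u⁻¹ * w * u * w⁻¹, ?_, by group⟩
      have h1 := hsq _ (mul_mem (inv_mem hu) hw)
      have h2 := hnSQ _ (inv_mem (hM'T hw)) _ (hsq u hu)
      have h3 := hsq _ (inv_mem hw)
      rw [inv_inv] at h2
      have := mul_mem (mul_mem h1 h2) h3
      rwa [show u⁻¹ * w * (u⁻¹ * w) * (w⁻¹ * (u * u) * w) * (w⁻¹ * w⁻¹) = u⁻¹ * w * u * w⁻¹ by group] at this
    have h1 := card_le_class hY
    rw [Set.ncard_image_of_injective _ (mul_right_injective u), ← Nat.card_coe_set_eq] at h1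
    have h2 := Nat.le_of_dvd (Nat.mul_pos two_pos Nat.card_pos)
      (Fr.two_bound (hM'2.to_le (inf_le_left : M' ⊓ C(u) ≤ M')) hc inf_le_right)
    have h3 := L.card_SQ
    simp only [SetLike.coe_sort_coe] at h1
    rw [hcard] at h1
    have h4 : Nat.card (M' ⊓ C(u) : Subgroup G) * Nat.card L.SQ ≤ 2 * Nat.card M := by
      calc _ ≤ 2 * Nat.card Fr.V * Nat.card L.SQ := Nat.mul_le_mul_right _ h2
        _ = 2 * Nat.card M := by rw [← h3]; ring
    have h5 : Nat.card M * 4 ≤ Nat.card M * Nat.card Fr.V := Nat.mul_le_mul_left _ hQ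
    omega
  by_cases hall : ∀ x ∈ S.T, IsConj Fr.t x → x ∈ L.Z
  · -- `T` is a Sylow subgroup
    exfalso
    have hNN : ∀ n ∈ normalizer (S.T : Set G), n ∈ normalizer (L.Z : Set G) := by
      intro n hn
      refine mem_normalizer_of fun z hz => ?_
      have hco : ∀ m ∈ M, n * (Fr.t * m) * n⁻¹ ∈ L.Z := fun m hm => by
        refine hall _ (conj_mem_of_mem_normalizer hn (S.Z_le (mul_mem L.t_mem_Z (L.M_le_Z hm)))) ?_
        obtain ⟨w, -, he⟩ := S.exists_conj hm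
        exact isConj_iff.2 ⟨n * w, by rw [← he]; group⟩
      have h1 := hco 1 (one_mem M)
      rw [mul_one] at h1
      rcases (L.mem_Z z).1 hz with h | h
      · have := mul_mem h1 (hco z h)
        rwa [show n * Fr.t * n⁻¹ * (n * (Fr.t * z) * n⁻¹) = n * (Fr.t * Fr.t * z) * n⁻¹ by group, Fr.t_mul_t,
          one_mul] at this
      · have := hco _ h
        rwa [← mul_assoc Fr.t Fr.t z, Fr.t_mul_t, one_mul] at this
    have hodd : ¬ 2 ∣ S.T.index := by
      intro h2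
      obtain ⟨R, hR⟩ := S.two.exists_le_sylow
      have hlt : S.T < R := lt_of_le_of_ne hR fun h => R.not_dvd_index (h ▸ h2)
      obtain ⟨w, hwR, hwT, hwN⟩ := exists_mem_normalizer_of_lt R.2 hlt
      have h1 := L.card_two_le (sup_zpowers_two R.2 hR hwR) (S.Z_le.trans le_sup_left)
        (sup_le (fun x hx => S.le_N x hx) (zpowers_le.2 (hNN w hwN)))
      rw [← S.card] at h1
      have he : S.T = S.T ⊔ zpowers w := eq_of_le_of_card_ge le_sup_left h1
      exact hwT (he.symm ▸ mem_sup_right (mem_zpowers w))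
    exact Fr.no_transfer S.two hodd hM'T hidx hno
  push Not at hall
  obtain ⟨x, hxT, hxc, hxZ⟩ := hall
  set m₁ := Fr.t * x
  have hm₁ : m₁ ∈ M' := (hcov x hxT).resolve_left fun h => hno x h hxc
  have hx : x = Fr.t * m₁ := by simp only [m₁]; rw [← mul_assoc, Fr.t_mul_t, one_mul]
  have hm₁M : m₁ ∉ M := fun h => hxZ ((L.mem_Z x).2 (Or.inr h))
  -- the class of `x` fills its coset
  have hclass : ∀ m ∈ M, IsConj Fr.t (x * m) := by
    set Y : Set G := {y | ∃ w ∈ S.T, w * x * w⁻¹ = y}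
    have hsub : Y ⊆ (fun m => x * m) '' (M : Set G) := by
      rintro _ ⟨w, hw, rfl⟩
      refine ⟨x⁻¹ * w * x * w⁻¹, ?_, by group⟩
      have := S.comm_mem_M (inv_mem hxT) hw
      rwa [inv_inv] at this
    have h1 : Nat.card S.T ≤ _ := card_le_class (A := S.T) (x := x) (Y := Y) fun w hw => ⟨w, hw, rfl⟩
    have h2 := Nat.le_of_dvd (Nat.mul_pos two_pos Nat.card_pos)
      (Fr.two_bound (S.two.to_le (inf_le_left : S.T ⊓ C(x) ≤ S.T)) hxc inf_le_right)
    have h3 : Y = (fun m => x * m) '' (M : Set G) := by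
      refine Set.eq_of_subset_of_ncard_le hsub ?_ (Set.toFinite _)
      rw [Set.ncard_image_of_injective _ (mul_right_injective x), ← Nat.card_coe_set_eq]
      simp only [SetLike.coe_sort_coe]
      rw [S.card] at h1
      have h4 : 2 * Nat.card M * Nat.card Fr.V ≤ 2 * Nat.card Fr.V * Y.ncard :=
        h1.trans (Nat.mul_le_mul_right _ h2)
      nlinarith [Nat.card_pos (α := Fr.V)]
    intro m hm
    obtain ⟨w, -, hwe⟩ : x * m ∈ Y := h3 ▸ ⟨m, hm, rfl⟩
    exact hxc.trans (isConj_iff.2 ⟨w, hwe⟩)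
  have hinv : ∀ y ∈ M', Fr.t * y * Fr.t⁻¹ = y⁻¹ := by
    have hbase : ∀ m ∈ M, Fr.t * (m₁ * m) * Fr.t⁻¹ = (m₁ * m)⁻¹ := by
      intro m hm
      obtain ⟨w, hw⟩ := isConj_iff.1 (hclass m hm)
      have h2 : x * m * (x * m) = 1 := by
        rw [← hw, show w * Fr.t * w⁻¹ * (w * Fr.t * w⁻¹) = w * (Fr.t * Fr.t) * w⁻¹ by group, Fr.t_mul_t,
          mul_one, mul_inv_cancel]
      refine eq_inv_of_mul_eq_one_left ?_
      rw [Fr.t_inv, ← h2, hx]; group
    intro y hy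
    by_cases hyM : y ∈ M
    · exact L.inv y hyM
    obtain ⟨i, m, hm, rfl⟩ := horb m₁ hm₁ hm₁M y hy hyM
    set g := S.g ^ i
    have hgc : g * Fr.t = Fr.t * g := mem_centralizer_singleton_iff.1 (pow_mem S.g_C i)
    have hm' : g⁻¹ * m * g ∈ M := by
      simpa using conj_mem_of_mem_normalizer (inv_mem (L.hMN _ (pow_mem S.g_N i))) hm
    calc Fr.t * (g * m₁ * g⁻¹ * m) * Fr.t⁻¹ = (Fr.t * g) * (m₁ * (g⁻¹ * m * g)) * (Fr.t * g)⁻¹ := by group
      _ = (g * Fr.t) * (m₁ * (g⁻¹ * m * g)) * (g * Fr.t)⁻¹ := by rw [hgc]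
      _ = g * (Fr.t * (m₁ * (g⁻¹ * m * g)) * Fr.t⁻¹) * g⁻¹ := by group
      _ = g * (m₁ * (g⁻¹ * m * g))⁻¹ * g⁻¹ := by rw [hbase _ hm']
      _ = _ := by group
  have hcomm : ∀ a ∈ M', ∀ b ∈ M', a * b = b * a := by
    intro a ha b hb
    have h := hinv _ (mul_mem ha hb)
    rw [show Fr.t * (a * b) * Fr.t⁻¹ = (Fr.t * a * Fr.t⁻¹) * (Fr.t * b * Fr.t⁻¹) by group, hinv a ha, hinv b hb,
      ← mul_inv_rev, inv_inj] at h
    exact h.symm
  have hcent : ∀ y ∈ M', Fr.t * y = y * Fr.t → y ∈ Fr.V := fun y hy hc =>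
    L.cent y (hZM' y hy (S.cent_tm (m := 1) (one_mem M) (hM'T hy) (by rw [mul_one]; exact hc.symm))) hc
  have hbig : Nat.card M < Nat.card M' := by rw [hcard]; nlinarith
  refine ⟨M', hbig, ⟨⟨L.V_le.trans hMM', hcomm, hM'2, hinv, hcent, S.T, fun y => ⟨hcov y, ?_⟩, ?_, ?_, S.g,
    S.g_C, hgM', S.g_odd, S.g_act⟩⟩⟩
  · rintro (h | h)
    · exact hM'T h
    · have := mul_mem (S.Z_le L.t_mem_Z) (hM'T h)
      rwa [← mul_assoc, Fr.t_mul_t, one_mul] at this
  · -- `N(T)` normalizes `M'`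
    intro n hn
    refine mem_normalizer_of fun y hy => ?_
    have key : ∀ y ∈ M', y * y ≠ 1 → n * y * n⁻¹ ∈ M' := by
      intro y hy hy2
      have hyT := conj_mem_of_mem_normalizer hn (hM'T hy)
      rcases hcov _ hyT with h | h
      · exact h
      · exfalso
        apply hy2
        have h1 := hinv _ h
        rw [Fr.t_inv, ← mul_assoc, Fr.t_mul_t, one_mul, mul_inv_rev, Fr.t_inv] at h1
        have h2 := eq_inv_iff_mul_eq_one.1 (mul_right_cancel h1)
        rw [show n * y * n⁻¹ * (n * y * n⁻¹) = n * (y * y) * n⁻¹ by group] at h2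
        exact conj_eq_one_iff.1 h2
    by_cases hy2 : y * y = 1
    · have hyV : y ∈ Fr.V := hcent y hy (by
        have h := hinv y hy
        rw [inv_eq_of_mul_eq_one_right hy2] at h
        exact mul_inv_eq_iff_eq_mul.1 h)
      obtain ⟨a, ha, hane⟩ : ∃ a ∈ M', a * a ≠ 1 := by
        by_contra hne
        push Not at hne
        have hle : M' ≤ Fr.V := fun a ha => hcent a ha (by
          have h := hinv a ha
          rw [inv_eq_of_mul_eq_one_right (hne a ha)] at h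
          exact mul_inv_eq_iff_eq_mul.1 h)
        have := card_le_of_le hle
        rw [hcard] at this
        have h2 := card_le_of_le L.V_le
        nlinarith
      have hya : (y * a) * (y * a) ≠ 1 := by
        rw [show y * a * (y * a) = y * (a * y) * a by group, ← hcomm y hy a ha,
          show y * (y * a) * a = y * y * (a * a) by group, hy2, one_mul]
        exact hane
      have := mul_mem (key _ (mul_mem hy ha) hya) (inv_mem (key a ha hane))
      rwa [show n * (y * a) * n⁻¹ * (n * a * n⁻¹)⁻¹ = n * y * n⁻¹ by group] at this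
    · exact key y hy hy2
  · intro he
    exfalso
    have := card_le_of_le L.V_le
    omega

end

end H70.TwoLayer
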