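import Cfsg.Agent.H70.TwoLayer.DihedralEnd
import Cfsg.Agent.H70.TwoLayer.LevelUp
import Cfsg.Agent.H70.TwoLayer.LastCase

/-!
Simple groups with an involution centralizer of type `Z₂ × PSL₂(q)` modulo its odd core: the Sylow
2-subgroups are elementary abelian of order eight.
-/

set_option autoImplicit false
set_option linter.style.haveILetI false

namespace H70.TwoLayer

open Subgroup

universe u v

variable {G : Type u} [Group G] [Finite G]

theorem Level.no_level {P : Type v} [Group P] [Finite P] {Fr : Frame G P} {E : VElem Fr} (n : ℕ) :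
    ∀ M : Subgroup G, Nat.card G - Nat.card M = n → Level Fr E M → False := by
  induction n using Nat.strong_induction_on with
  | _ n ih =>
  intro M hM L
  by_cases htriv : ∀ k ∈ normalizer (L.Z : Set G), (∀ v ∈ Fr.V, k * v = v * k) → L.c k = 1
  · exact L.triv_false htriv
  push Not at htriv
  obtain ⟨k, hk, hkV, hkc⟩ := htriv
  obtain ⟨S⟩ := L.exists_step hk hkV hkc
  obtain ⟨M', hlt, ⟨L'⟩⟩ := S.grow
  exact ih _ (by have := Subgroup.card_le_card_group M'; omega) M' rfl L'

theorem main [IsSimpleGroup G] (hG : ¬ IsMulCommutative G) (t : G) (ht : orderOf t = 2)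
    {F : Type v} [Field F] [Fintype F] (hF : 3 < Fintype.card F)
    (hL : Nonempty (↥(Subgroup.closure {x : (↥(Subgroup.centralizer ({t} : Set G)) ⧸
        Cfsg.oddCore ↥(Subgroup.centralizer ({t} : Set G))) | ∃ k : ℕ, orderOf x = 2 ^ k}) ≃*
      (Multiplicative (ZMod 2) × Matrix.ProjectiveSpecialLinearGroup (Fin 2) F)))
    (S : Sylow 2 G) :
    Nat.card ↥(S : Subgroup G) = 8 ∧ ∀ x ∈ (S : Subgroup G), x ^ 2 = 1 := by
  haveI := psl_simple hF
  obtain ⟨D, hD⟩ := psl_sylow hF
  have h4 : 4 ≤ Nat.card (D : Subgroup (Matrix.ProjectiveSpecialLinearGroup (Fin 2) F)) := by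
    rcases hD with h | h
    · exact h.four
    · have := h.eight; omega
  have hP : ¬ IsMulCommutative (Matrix.ProjectiveSpecialLinearGroup (Fin 2) F) := by
    intro h
    have hp : (Nat.card (Matrix.ProjectiveSpecialLinearGroup (Fin 2) F)).Prime := by
      letI : CommGroup (Matrix.ProjectiveSpecialLinearGroup (Fin 2) F) :=
        { (inferInstance : Group (Matrix.ProjectiveSpecialLinearGroup (Fin 2) F)) with
          mul_comm := h.is_comm.comm }
      exact IsSimpleGroup.prime_card
    rcases (Nat.dvd_prime hp).1 (Subgroup.card_subgroup_dvd_card (D : Subgroup _)) with h1 | h1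
    · omega
    · obtain ⟨k, hk⟩ := IsPGroup.iff_card.1 D.2
      rw [← h1, hk] at hp
      have := Nat.Prime.eq_one_of_pow hp
      rw [hk, this] at h4
      omega
  obtain ⟨L, -⟩ := exists_lay hG t ht hP (fun a b => psl_involutions_conj) hL
  obtain ⟨Fr, -, hFrD⟩ := L.exists_frame D h4
  rcases hD with h | h
  · obtain ⟨E⟩ := Fr.exists_velem (hFrD ▸ h)
    rcases E.base with hres | ⟨⟨L₀⟩⟩
    · exact hres S
    · exact (Level.no_level _ _ rfl L₀).elim
  · exact (Fr.dihedral_false (hFrD ▸ h)).elim

end H70.TwoLayer
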