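import Cfsg.Agent.H39.KleinNormalizer
import Cfsg.Agent.H39.InvolTor
import Cfsg.Agent.H39.Borel
import Cfsg.Agent.H37.SylowTwo
import Cfsg.Agent.H70.TwoLayer.Basic

/-!
Sylow 2-subgroups of `PSL₂(q)` with their automisers, in the form needed for groups with an
involution centralizer `Z₂ × PSL₂(q)`.
-/

set_option autoImplicit false
set_option linter.style.haveILetI false

namespace H70.TwoLayer

open Subgroup

universe u

/-- elementary abelian, with automiser cyclic and transitive on the involutions -/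
structure ElemData {P : Type u} [Group P] (D : Subgroup P) : Prop where
  sq : ∀ d ∈ D, d * d = 1
  four : 4 ≤ Nat.card D
  aut : ∃ p ∈ normalizer (D : Set P),
    (∀ g ∈ normalizer (D : Set P), ∃ j : ℕ, ∀ d ∈ D, g * d * g⁻¹ = p ^ j * d * (p ^ j)⁻¹) ∧
    ∀ d ∈ D, ∀ d' ∈ D, d ≠ 1 → d' ≠ 1 → ∃ j : ℕ, p ^ j * d * (p ^ j)⁻¹ = d'

/-- dihedral of order at least eight, with four-groups having a fixed-point-free automiser element -/
structure DihData {P : Type u} [Group P] (D : Subgroup P) : Prop where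
  eight : 8 ≤ Nat.card D
  cyc : ∃ R ≤ D, IsCyclic R ∧ Nat.card D = 2 * Nat.card R ∧ ∀ x ∈ D, x ∉ R → x * x = 1
  klein : ∀ W ≤ D, IsKleinFour W →
    ∃ g ∈ normalizer (W : Set P), ∀ w ∈ W, w ≠ 1 → g * w * g⁻¹ ≠ w

variable {F : Type u} [Field F] [Fintype F]

local notation "P2" => Matrix.ProjectiveSpecialLinearGroup (Fin 2) F

theorem psl_simple (hF : 3 < Fintype.card F) : IsSimpleGroup P2 :=
  Matrix.ProjectiveSpecialLinearGroup.rank_two_simple (by rw [Nat.card_eq_fintype_card]; omega)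

theorem psl_involutions_conj {s t : P2} (hs : orderOf s = 2) (ht : orderOf t = 2) : IsConj s t := by
  obtain ⟨p, hp⟩ := CharP.exists F
  haveI := hp
  haveI : Fact p.Prime := ⟨CharP.char_is_prime F p⟩
  exact H39.invol_isConj p hs ht

theorem elemData_even [CharP F 2] (hF : 3 < Fintype.card F) :
    ∃ D : Sylow 2 P2, ElemData (D : Subgroup P2) := by
  haveI : Fact (Nat.Prime 2) := ⟨Nat.prime_two⟩
  let ι : Multiplicative F →* P2 :=
    { toFun := fun t => H39.transl t.toAdd
      map_one' := H39.transl_zero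
      map_mul' := fun a b => (H39.transl_mul _ _).symm }
  have hinj : Function.Injective ι := fun a b h =>
    Multiplicative.toAdd.injective (H39.transl_injective h)
  obtain ⟨n, -, hn⟩ := FiniteField.card F 2
  have hcard : Nat.card ι.range = Fintype.card F := by
    rw [← Nat.card_congr (MonoidHom.ofInjective hinj).toEquiv, Nat.card_congr Multiplicative.toAdd,
      Nat.card_eq_fintype_card]
  have hp : IsPGroup 2 ι.range := IsPGroup.of_card (n := (n : ℕ)) (hcard.trans hn)
  have hodd : ¬ 2 ∣ ι.range.index := by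
    intro hd
    have h := ι.range.card_mul_index
    have hev : 2 ∣ Fintype.card F := hn ▸ dvd_pow_self 2 n.ne_zero
    have hg : Nat.gcd 2 (Fintype.card F - 1) = 1 := by
      refine Nat.Coprime.gcd_eq_one (Nat.coprime_two_left.2 ?_)
      obtain ⟨k, hk⟩ := hev
      exact ⟨k - 1, by omega⟩
    rw [hcard, H39.card_G2_eq, hg, Nat.div_one, mul_assoc] at h
    rw [Nat.eq_of_mul_eq_mul_left Fintype.card_pos h] at hd
    obtain ⟨k, hk⟩ := hev
    rcases Nat.prime_two.dvd_mul.1 hd with h5 | h5 <;> omega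
  refine ⟨hp.toSylow hodd, ?_, ?_, ?_⟩
  · intro d hd
    obtain ⟨t, rfl⟩ := hd
    show H39.transl t.toAdd * H39.transl t.toAdd = 1
    rw [H39.transl_mul, CharTwo.add_self_eq_zero, H39.transl_zero]
  · show 4 ≤ Nat.card ι.range
    omega
  · obtain ⟨a, ha⟩ := IsCyclic.exists_generator (α := Fˣ)
    let d : Matrix.SpecialLinearGroup (Fin 2) F :=
      ⟨!![(a : F), 0; 0, ((a⁻¹ : Fˣ) : F)], by simp [Matrix.det_fin_two]⟩
    have hdB : H39.proj d ∈ H39.borelP := H39.proj_mem_borelP.2 (by simp [d])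
    have hmd : H39.mult (H39.proj d) = (a : F) ^ 2 := by rw [H39.mult_proj]; simp [d]
    set p := H39.proj d
    have hpow : ∀ (j : ℕ) (t : F), p ^ j * H39.transl t * (p ^ j)⁻¹ = H39.transl (((a : F) ^ 2) ^ j * t) := by
      intro j
      induction j with
      | zero => intro t; simp
      | succ j ih =>
        intro t
        rw [pow_succ', mul_inv_rev, show p * p ^ j * H39.transl t * ((p ^ j)⁻¹ * p⁻¹) =
          p * (p ^ j * H39.transl t * (p ^ j)⁻¹) * p⁻¹ by group, ih, H39.conj_transl hdB, hmd,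
          ← mul_assoc, ← pow_succ']
    have hsq : ∀ x : F, x ≠ 0 → ∃ j : ℕ, ((a : F) ^ 2) ^ j = x := by
      intro x hx
      obtain ⟨b, hb⟩ := FiniteField.isSquare_of_char_two (ringChar.eq F 2) x
      have hb0 : b ≠ 0 := by rintro rfl; simp at hb; exact hx hb
      obtain ⟨j, hj⟩ := (mem_powers_iff_mem_zpowers).2 (ha (Units.mk0 b hb0))
      refine ⟨j, ?_⟩
      have := congrArg Units.val hj
      simp only [Units.val_pow_eq_pow_val, Units.val_mk0] at this
      rw [hb, ← pow_mul, mul_comm, pow_mul, this, sq]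
    have hmem : ∀ x : P2, x ∈ ι.range ↔ ∃ t : F, H39.transl t = x :=
      fun x => ⟨fun ⟨t, ht⟩ => ⟨t.toAdd, ht⟩, fun ⟨t, ht⟩ => ⟨Multiplicative.ofAdd t, ht⟩⟩
    have hN : ∀ g : P2, g ∈ H39.borelP → ∀ t : F, g * H39.transl t * g⁻¹ ∈ ι.range := fun g hg t =>
      (hmem _).2 ⟨_, (H39.conj_transl hg t).symm⟩
    refine ⟨p, ?_, fun g hg => ?_, ?_⟩
    · refine mem_normalizer_of fun x hx => ?_
      obtain ⟨t, rfl⟩ := (hmem x).1 hx
      exact hN p hdB t
    · obtain ⟨s, hs⟩ := (hmem _).1 ((Subgroup.mem_normalizer_iff.1 hg (H39.transl 1)).1 ((hmem _).2 ⟨1, rfl⟩))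
      have hgB := H39.mem_borelP_of_conj (one_ne_zero (α := F)) hs.symm
      obtain ⟨j, hj⟩ := hsq _ (H39.mult_ne_zero hgB)
      refine ⟨j, fun x hx => ?_⟩
      obtain ⟨t, rfl⟩ := (hmem x).1 hx
      rw [H39.conj_transl hgB, hpow, hj]
    · intro x hx y hy hx1 hy1
      obtain ⟨t, rfl⟩ := (hmem x).1 hx
      obtain ⟨s, rfl⟩ := (hmem y).1 hy
      have ht : t ≠ 0 := by rintro rfl; exact hx1 H39.transl_zero
      have hs : s ≠ 0 := by rintro rfl; exact hy1 H39.transl_zero
      obtain ⟨j, hj⟩ := hsq (s / t) (div_ne_zero hs ht)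
      exact ⟨j, by rw [hpow, hj, div_mul_cancel₀ _ ht]⟩

omit [Fintype F] in
/-- a finite group with a four-group automiser element -/
theorem klein_fpf {G : Type*} [Group G] [Finite G] {W : Subgroup G} (hW : IsKleinFour W)
    (hC : ∀ g : G, (∀ w ∈ W, g * w * g⁻¹ = w) → g ∈ W)
    (h3 : 3 ∣ Nat.card (normalizer (W : Set G))) :
    ∃ g ∈ normalizer (W : Set G), g ^ 3 = 1 ∧ ∀ w ∈ W, w ≠ 1 → g * w * g⁻¹ ≠ w := by
  obtain ⟨g, hg3, hg1⟩ := H39.exists_three_of_dvd h3
  have hW' := H39.isKleinFour_subgroupOf hW (le_normalizer (H := W))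
  haveI : (W.subgroupOf (normalizer (W : Set G))).Normal := normal_in_normalizer
  refine ⟨g, g.2, by rw [← SubgroupClass.coe_pow, hg3, OneMemClass.coe_one], fun w hw hw1 he => hg1 ?_⟩
  refine H39.fix_one_fix_all hW' (fun x hx => hC x fun v hv => ?_) hg3
    (c := ⟨w, le_normalizer hw⟩) hw (fun h => hw1 (congrArg Subtype.val h)) (Subtype.ext he)
  exact congrArg Subtype.val (hx ⟨v, le_normalizer hv⟩ hv)

theorem klein_auto (p : ℕ) [Fact p.Prime] [CharP F p] (hodd : Odd (Fintype.card F)) {W : Subgroup P2}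
    (hW : IsKleinFour W) :
    ∃ g ∈ normalizer (W : Set P2), g ^ 3 = 1 ∧ ∀ w ∈ W, w ≠ 1 → g * w * g⁻¹ ≠ w := by
  refine klein_fpf hW (fun g hg => H39.klein_self_centralizing p hodd hW hg) ?_
  rw [H39.card_normalizer_klein p hodd hW]
  split_ifs <;> norm_num

/-- all four-groups with an automiser element of order three -/
theorem elemData_klein (p : ℕ) [Fact p.Prime] [CharP F p] (hodd : Odd (Fintype.card F))
    (hq : Fintype.card F % 8 = 3 ∨ Fintype.card F % 8 = 5) :
    ∃ D : Sylow 2 P2, ElemData (D : Subgroup P2) := by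
  haveI : Fact (Nat.Prime 2) := ⟨Nat.prime_two⟩
  obtain ⟨D⟩ := (inferInstance : Nonempty (Sylow 2 P2))
  have hK : IsKleinFour (D : Subgroup P2) := H37.sylow_two_PSL_isKleinFour (by rwa [Nat.card_eq_fintype_card]) D
  refine ⟨D, fun d hd => H39.klein_mul_self hK hd, hK.card_four.ge, ?_⟩
  obtain ⟨p₀, hp₀, hp3, hfpf⟩ := klein_auto p hodd hK
  set A : Subgroup P2 := (D : Subgroup P2) with hA
  haveI : IsMulCommutative A := ⟨⟨fun a b => Subtype.ext (H39.klein_comm hK a.2 b.2)⟩⟩
  have hconj : ∀ g ∈ normalizer (A : Set P2), ∀ d ∈ A, g * d * g⁻¹ ∈ A := fun g hg d hd =>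
    (Subgroup.mem_normalizer_iff.1 hg d).1 hd
  -- the three involutions form one orbit of `p₀`
  have horb : ∀ d ∈ A, ∀ d' ∈ A, d ≠ 1 → d' ≠ 1 →
      ∃ j : ℕ, p₀ ^ j * d * (p₀ ^ j)⁻¹ = d' := by
    intro d hd d' hd' h1 h1'
    set e := p₀ * d * p₀⁻¹ with hedef
    have he : e ∈ A := hconj p₀ hp₀ d hd
    have he1 : e ≠ 1 := fun h => h1 (conj_eq_one_iff.1 h)
    set f := p₀ * e * p₀⁻¹ with hfdef
    have hf : f ∈ A := hconj p₀ hp₀ e he
    have hf1 : f ≠ 1 := fun h => he1 (conj_eq_one_iff.1 h)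
    have hed : e ≠ d := hfpf d hd h1
    have hfe : f ≠ e := hfpf e he he1
    have hfd : f ≠ d := fun h => hed (by
      have h3 : p₀ * (p₀ * (p₀ * d * p₀⁻¹) * p₀⁻¹) * p₀⁻¹ = d := by
        calc _ = p₀ ^ 3 * d * (p₀ ^ 3)⁻¹ := by simp [pow_succ, mul_assoc]
          _ = d := by rw [hp3]; simp
      rw [← hedef, ← hfdef, h] at h3
      exact h3)
    have hall : ∀ x ∈ A, x = 1 ∨ x = d ∨ x = e ∨ x = f := by
      intro x hx
      by_contra hne
      push Not at hne
      classical
      have hsub : ({1, d, e, f, x} : Finset P2) ⊆ (Set.toFinite (A : Set P2)).toFinset := by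
        intro y hy
        simp only [Finset.mem_insert, Finset.mem_singleton] at hy
        rw [Set.Finite.mem_toFinset]
        rcases hy with rfl | rfl | rfl | rfl | rfl
        exacts [one_mem A, hd, he, hf, hx]
      have h5 := Finset.card_le_card hsub
      rw [← Set.ncard_eq_toFinset_card] at h5
      have h4 : Set.ncard (A : Set P2) = 4 := by rw [← Nat.card_coe_set_eq]; exact hK.card_four
      rw [h4, Finset.card_insert_of_notMem (by simp [Ne.symm h1, Ne.symm he1, Ne.symm hf1, Ne.symm hne.1]),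
        Finset.card_insert_of_notMem (by simp [Ne.symm hed, Ne.symm hfd, Ne.symm hne.2.1]),
        Finset.card_insert_of_notMem (by simp [Ne.symm hfe, Ne.symm hne.2.2.1]),
        Finset.card_insert_of_notMem (by simp [Ne.symm hne.2.2.2]), Finset.card_singleton] at h5
      omega
    rcases hall d' hd' with h | h | h | h
    · exact absurd h h1'
    · exact ⟨0, by simp [h]⟩
    · exact ⟨1, by rw [pow_one, h]⟩
    · exact ⟨2, by rw [h, hfdef, hedef]; simp [pow_succ, mul_assoc]⟩
  -- the automiser has odd order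
  refine ⟨p₀, hp₀, fun g hg => ?_, horb⟩
  have hCA : ∀ x : P2, (∀ w ∈ A, x * w * x⁻¹ = w) → x ∈ A := fun x hx =>
    H39.klein_self_centralizing p hodd hK hx
  set N := normalizer (A : Set P2)
  have hAc : Nat.card A = 4 := hK.card_four
  haveI : (A.subgroupOf N).Normal := normal_in_normalizer
  have hidx : ¬ 2 ∣ (A.subgroupOf N).index := fun h2 =>
    D.not_dvd_index (h2.trans ⟨N.index, (Subgroup.relIndex_mul_index le_normalizer).symm⟩)
  have hN : Nat.card N = 12 ∨ Nat.card N = 24 := by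
    rw [H39.card_normalizer_klein p hodd hK]; split_ifs <;> simp
  have hq3 : (A.subgroupOf N).index = 3 := by
    have h := (A.subgroupOf N).card_mul_index
    rw [Nat.card_congr (subgroupOfEquivOfLe (le_normalizer (H := A))).toEquiv, hAc] at h
    rcases hN with e | e <;> omega
  haveI : Fact (Nat.Prime 3) := ⟨Nat.prime_three⟩
  have hgen : zpowers ((⟨p₀, hp₀⟩ : N) : N ⧸ A.subgroupOf N) = ⊤ := by
    refine zpowers_eq_top_of_prime_card (p := 3) (by rw [← Subgroup.index_eq_card]; exact hq3) ?_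
    intro h'
    have h : p₀ ∈ A := (QuotientGroup.eq_one_iff (N := A.subgroupOf N) (⟨p₀, hp₀⟩ : N)).1 h'
    obtain ⟨d, hd, hd1⟩ := (A.bot_or_exists_ne_one).resolve_left (fun hb => by
      rw [hb, card_bot] at hAc; omega)
    refine hfpf d hd hd1 ?_
    rw [H39.klein_comm hK h hd, mul_inv_cancel_right]
  obtain ⟨z, hz⟩ := mem_zpowers_iff.1 (hgen ▸ Subgroup.mem_top ((⟨g, hg⟩ : N) : N ⧸ A.subgroupOf N))
  refine ⟨(z % 3).toNat, fun d hd => ?_⟩
  have hz' : (p₀ ^ z)⁻¹ * g ∈ A := by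
    rw [← QuotientGroup.mk_zpow, QuotientGroup.eq, mem_subgroupOf] at hz
    simpa using hz
  have hp0 : p₀ ^ (z % 3).toNat = p₀ ^ z := by
    conv_rhs => rw [← Int.mul_ediv_add_emod z 3, zpow_add, zpow_mul]
    rw [show p₀ ^ (3 : ℤ) = 1 from by rw [show (3 : ℤ) = ((3 : ℕ) : ℤ) from rfl, zpow_natCast, hp3],
      one_zpow, one_mul, ← zpow_natCast, Int.toNat_of_nonneg (Int.emod_nonneg _ (by norm_num))]
  rw [hp0]
  calc g * d * g⁻¹ = p₀ ^ z * (((p₀ ^ z)⁻¹ * g) * d * ((p₀ ^ z)⁻¹ * g)⁻¹) * (p₀ ^ z)⁻¹ := by group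
    _ = _ := by rw [H39.klein_comm hK hz' hd, mul_inv_cancel_right]

theorem dihData (p : ℕ) [Fact p.Prime] [CharP F p] (hodd : Odd (Fintype.card F))
    (hq : Fintype.card F % 8 = 1 ∨ Fintype.card F % 8 = 7) :
    ∃ D : Sylow 2 P2, DihData (D : Subgroup P2) := by
  haveI : Fact (Nat.Prime 2) := ⟨Nat.prime_two⟩
  obtain ⟨z, hz⟩ := H39.exists_invol hodd (F := F)
  have hC := H39.card_centralizer_invol p hodd hz
  have hT := H39.card_tor_invol p hodd hz
  set C := centralizer ({z} : Set P2) with hCdef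
  set T := H39.tor z with hTdef
  obtain ⟨D₀⟩ := (inferInstance : Nonempty (Sylow 2 C))
  set m := H39.evenHalf (Fintype.card F) with hm
  have hm4 : 4 ∣ m := (H39.four_dvd_evenHalf hodd).2 hq
  have hmpos : 0 < m := hT ▸ Nat.card_pos
  have hidx : ¬ 2 ∣ C.index := by
    intro hd
    have h := C.card_mul_index
    rw [hC, H39.card_G2_eq, H39.gcd_eq_two hodd, hm, H39.evenHalf] at h
    rw [hm, H39.evenHalf] at hmpos
    obtain ⟨k, hk⟩ := hodd
    rw [hk] at h hq hmpos
    rw [show (2 * k + 1 - 1) / 2 = k by omega] at h hmpos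
    rw [show (2 * k + 1 + 1) / 2 = k + 1 by omega] at h hmpos
    split_ifs at h hmpos with h4
    · have : C.index = (2 * k + 1) * (k + 1) := by
        refine Nat.eq_of_mul_eq_mul_left (show 0 < 2 * k by omega) ?_
        rw [h]; ring
      rw [this] at hd
      rcases Nat.prime_two.dvd_mul.1 hd with h5 | h5 <;> omega
    · have : C.index = (2 * k + 1) * k := by
        refine Nat.eq_of_mul_eq_mul_left (show 0 < 2 * (k + 1) by omega) ?_
        rw [h]; ring
      rw [this] at hd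
      rcases Nat.prime_two.dvd_mul.1 hd with h5 | h5 <;> omega
  let D' : Subgroup P2 := (D₀ : Subgroup C).map C.subtype
  have hD'c : Nat.card D' = Nat.card D₀ := card_map_of_injective C.subtype_injective
  have hDidx : ¬ 2 ∣ D'.index := by
    intro hd
    have h : D'.index = (D₀ : Subgroup C).index * C.index := by
      rw [Subgroup.index_map, C.ker_subtype, sup_bot_eq, Subgroup.range_subtype]
    rw [h] at hd
    rcases Nat.prime_two.dvd_mul.1 hd with h1 | h1
    · exact D₀.not_dvd_index h1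
    · exact hidx h1
  let D : Sylow 2 P2 := IsPGroup.toSylow (D₀.2.map C.subtype) hDidx
  have hDC : (D : Subgroup P2) ≤ C := map_subtype_le _
  have hTC : T ≤ C := by rw [hCdef, H39.centralizer_invol p hodd hz]; exact le_normalizer
  -- the two-part
  have hdvd : ∀ k, 2 ^ k ∣ 2 * m → 2 ^ k ∣ Nat.card (D : Subgroup P2) := by
    intro k hk
    show 2 ^ k ∣ Nat.card D'
    rw [hD'c]
    exact D₀.pow_dvd_card_of_pow_dvd_card (by rw [hC]; exact hk)
  refine ⟨D, ?_, ?_, fun W _ hW => ?_⟩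
  · exact Nat.le_of_dvd Nat.card_pos (hdvd 3 (by obtain ⟨j, hj⟩ := hm4; exact ⟨j, by omega⟩))
  · refine ⟨(D : Subgroup P2) ⊓ T, inf_le_left, ?_, ?_, fun x hx hxT => ?_⟩
    · haveI := H39.tor_isCyclic p (H39.invol_ss p hodd hz)
      exact isCyclic_of_injective (inclusion (inf_le_right : (D : Subgroup P2) ⊓ T ≤ T))
        (inclusion_injective _)
    · have hCT : T.relIndex C = 2 := by
        have h1 : (T.subgroupOf C).index * Nat.card (T.subgroupOf C) = Nat.card C :=
          Subgroup.index_mul_card _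
        rw [Nat.card_congr (subgroupOfEquivOfLe hTC).toEquiv, hT, hC] at h1
        exact Nat.eq_of_mul_eq_mul_right hmpos h1
      have hle : T.relIndex (D : Subgroup P2) ≤ 2 := by
        exact (relIndex_le_of_le_right hDC (by omega)).trans hCT.le
      have hmul : Nat.card ((D : Subgroup P2) ⊓ T : Subgroup P2) * T.relIndex (D : Subgroup P2) =
          Nat.card (D : Subgroup P2) := by
        rw [← inf_relIndex_right, inf_comm T (D : Subgroup P2)]
        have h1 := ((D : Subgroup P2) ⊓ T).subgroupOf (D : Subgroup P2) |>.card_mul_index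
        rwa [Nat.card_congr (subgroupOfEquivOfLe inf_le_left).toEquiv] at h1
      have hne : T.relIndex (D : Subgroup P2) ≠ 1 := by
        intro h1
        rw [relIndex_eq_one] at h1
        obtain ⟨k, hk⟩ := IsPGroup.iff_card.1 D.2
        have hdT : 2 ^ k ∣ m := by rw [← hT, ← hk]; exact card_dvd_of_le h1
        have h2 := hdvd (k + 1) (by rw [pow_succ']; exact Nat.mul_dvd_mul_left 2 hdT)
        rw [hk, Nat.pow_dvd_pow_iff_le_right (by norm_num)] at h2
        omega
      have hne0 : T.relIndex (D : Subgroup P2) ≠ 0 := Subgroup.index_ne_zero_of_finite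
      rw [← hmul, show T.relIndex (D : Subgroup P2) = 2 by omega, mul_comm]
    · have hxN : x ∈ normalizer (T : Set P2) := by
        rw [hTdef, ← H39.centralizer_invol p hodd hz]; exact hDC hx
      have h := (H39.normalizer_outside p (H39.invol_ss p hodd hz) hxN (fun h => hxT ⟨hx, h⟩)).1
      rwa [sq] at h
  · obtain ⟨g, hg, -, hfpf⟩ := klein_auto p hodd hW
    exact ⟨g, hg, hfpf⟩

/-- the Sylow 2-subgroups of `PSL₂(q)`, `q > 3` -/
theorem psl_sylow (hF : 3 < Fintype.card F) :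
    ∃ D : Sylow 2 P2, ElemData (D : Subgroup P2) ∨ DihData (D : Subgroup P2) := by
  obtain ⟨p, hp⟩ := CharP.exists F
  haveI := hp
  haveI : Fact p.Prime := ⟨CharP.char_is_prime F p⟩
  obtain ⟨n, hpp, hn⟩ := FiniteField.card F p
  rcases hpp.eq_two_or_odd' with rfl | hodd
  · obtain ⟨D, h⟩ := elemData_even hF
    exact ⟨D, Or.inl h⟩
  · have ho : Odd (Fintype.card F) := hn ▸ hodd.pow
    have h8 : Fintype.card F % 8 = 1 ∨ Fintype.card F % 8 = 7 ∨ Fintype.card F % 8 = 3 ∨
        Fintype.card F % 8 = 5 := by rw [Nat.odd_iff] at ho; omega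
    rcases h8 with h | h | h | h
    · obtain ⟨D, h⟩ := dihData p ho (Or.inl h); exact ⟨D, Or.inr h⟩
    · obtain ⟨D, h⟩ := dihData p ho (Or.inr h); exact ⟨D, Or.inr h⟩
    · obtain ⟨D, h⟩ := elemData_klein p ho (Or.inl h); exact ⟨D, Or.inl h⟩
    · obtain ⟨D, h⟩ := elemData_klein p ho (Or.inr h); exact ⟨D, Or.inl h⟩

end H70.TwoLayer
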