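import Cfsg.Agent.H70.TwoLayer.Sign
import Cfsg.Agent.H70.TwoLayer.PSLFacts
import Cfsg.Agent.H1.Cores
import Cfsg.Prelude.Def_CaseTheorems

/-!
A group with an involution `t` whose centralizer has, modulo an odd core, a normal subgroup of
2-index two isomorphic to a given group `P`.
-/

set_option autoImplicit false
set_option linter.style.haveILetI false

namespace H70.TwoLayer

open Subgroup

universe u v

/-- `ME` is a normal subgroup of `C(t)` of index `2·odd` avoiding `t`, mapped onto `P` by `f` with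
odd kernel -/
structure Lay (G : Type u) [Group G] [Finite G] (P : Type v) [Group P] where
  t : G
  ht : orderOf t = 2
  hno : ∀ H : Subgroup G, H.index ≠ 2
  hperf : commutator G = ⊤
  ME : Subgroup G
  le_C : ME ≤ centralizer ({t} : Set G)
  normal : ∀ c ∈ centralizer ({t} : Set G), ∀ x ∈ ME, c * x * c⁻¹ ∈ ME
  ht_not : t ∉ ME
  f : G → P
  f_mul : ∀ x ∈ ME, ∀ y ∈ ME, f (x * y) = f x * f y
  f_surj : ∀ p : P, ∃ x ∈ ME, f x = p
  f_ker : ∀ A : Subgroup G, A ≤ ME → IsPGroup 2 A → ∀ x ∈ A, f x = 1 → x = 1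
  hcard : ∃ j, Odd j ∧ Nat.card (centralizer ({t} : Set G)) = 2 * j * Nat.card ME
  conj_inv : ∀ a b : P, orderOf a = 2 → orderOf b = 2 → IsConj a b

variable {G : Type u} [Group G] [Finite G] {P : Type v} [Group P] [Finite P]

/-- `ME` as a group, mapped onto `P` -/
noncomputable def Lay.hom (L : Lay G P) : L.ME →* P where
  toFun x := L.f x
  map_one' := by
    have h := L.f_mul 1 (one_mem _) 1 (one_mem _)
    rw [one_mul, left_eq_mul] at h
    exact h
  map_mul' x y := L.f_mul x x.2 y y.2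

theorem Lay.hom_surj (L : Lay G P) : Function.Surjective L.hom := fun p => by
  obtain ⟨x, hx, h⟩ := L.f_surj p
  exact ⟨⟨x, hx⟩, h⟩

theorem Lay.ker_odd (L : Lay G P) : ¬ 2 ∣ Nat.card L.hom.ker := by
  intro h
  haveI : Fact (Nat.Prime 2) := ⟨Nat.prime_two⟩
  obtain ⟨x, hx⟩ := exists_prime_orderOf_dvd_card' 2 h
  have hx' : orderOf ((x : L.ME) : G) = 2 := by rw [Subgroup.orderOf_coe, Subgroup.orderOf_coe, hx]
  have h2 : IsPGroup 2 (zpowers ((x : L.ME) : G)) :=
    IsPGroup.of_card (n := 1) (by rw [Nat.card_zpowers, hx', pow_one])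
  have := L.f_ker _ (zpowers_le.2 (x : L.ME).2) h2 _ (mem_zpowers _) x.2
  rw [this, orderOf_one] at hx'
  omega

/-- a Sylow subgroup `V` of `ME` mapped onto the Sylow subgroup `D` of `P` -/
structure Frame (G : Type u) [Group G] [Finite G] (P : Type v) [Group P] extends Lay G P where
  V : Subgroup G
  V_le : V ≤ ME
  V_two : IsPGroup 2 V
  V_odd : ¬ 2 ∣ V.relIndex ME
  D : Subgroup P
  f_mem : ∀ v ∈ V, f v ∈ D
  f_onto : ∀ d ∈ D, ∃ v ∈ V, f v = d
  card_V : Nat.card V = Nat.card D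
  four : 4 ≤ Nat.card V

theorem Lay.exists_frame (L : Lay G P) (D : Sylow 2 P) (h4 : 4 ≤ Nat.card (D : Subgroup P)) :
    ∃ Fr : Frame G P, Fr.toLay = L ∧ Fr.D = (D : Subgroup P) := by
  haveI : Fact (Nat.Prime 2) := ⟨Nat.prime_two⟩
  set π := L.hom
  set H : Subgroup L.ME := (D : Subgroup P).comap π
  obtain ⟨V₀⟩ := (inferInstance : Nonempty (Sylow 2 H))
  let V₁ : Subgroup L.ME := (V₀ : Subgroup H).map H.subtype
  let V : Subgroup G := V₁.map L.ME.subtype
  have hV2 : IsPGroup 2 V := (V₀.2.map _).map _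
  have hVle : V ≤ L.ME := map_subtype_le _
  have hinj : ∀ v ∈ V, L.f v = 1 → v = 1 := fun v hv h => L.f_ker V hVle hV2 v hv h
  have hmem : ∀ v ∈ V, L.f v ∈ (D : Subgroup P) := by
    rintro _ ⟨x, ⟨y, -, rfl⟩, rfl⟩
    exact y.2
  have hVc : Nat.card V = Nat.card V₀ :=
    (card_map_of_injective L.ME.subtype_injective).trans (card_map_of_injective H.subtype_injective)
  -- `f` is a bijection from `V` to `D`
  have hdvd : Nat.card (D : Subgroup P) ∣ Nat.card V := by
    obtain ⟨k, hk⟩ := IsPGroup.iff_card.1 D.2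
    rw [hVc, hk]
    refine V₀.pow_dvd_card_of_pow_dvd_card ?_
    rw [← hk]
    have : Function.Surjective (π.subgroupComap (D : Subgroup P)) :=
      π.subgroupComap_surjective_of_surjective _ L.hom_surj
    exact Subgroup.card_dvd_of_surjective _ this
  let g : V → (D : Subgroup P) := fun v => ⟨L.f v, hmem v v.2⟩
  have hg : Function.Injective g := by
    intro a b h
    have h' : L.f a = L.f b := congrArg Subtype.val h
    have hb : (b : G)⁻¹ ∈ L.ME := inv_mem (hVle b.2)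
    have h1 : L.f ((a : G) * (b : G)⁻¹) = 1 := by
      rw [L.f_mul _ (hVle a.2) _ hb, h', ← L.f_mul _ (hVle b.2) _ hb, mul_inv_cancel]
      exact map_one L.hom
    exact Subtype.ext (mul_inv_eq_one.1 (hinj _ (mul_mem a.2 (inv_mem b.2)) h1))
  have hle := Nat.card_le_card_of_injective g hg
  have heq : Nat.card V = Nat.card (D : Subgroup P) :=
    le_antisymm hle (Nat.le_of_dvd Nat.card_pos hdvd)
  have hgb : Function.Bijective g := (Nat.bijective_iff_injective_and_card g).2 ⟨hg, heq⟩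
  refine ⟨{ L with
    V := V, V_le := hVle, V_two := hV2, V_odd := ?_, D := D, f_mem := hmem
    f_onto := fun d hd => ?_, card_V := heq, four := heq ▸ h4 }, rfl, rfl⟩
  · intro h2
    have e : V.subgroupOf L.ME = V₁ := Subgroup.comap_map_eq_self_of_injective L.ME.subtype_injective _
    rw [Subgroup.relIndex, e] at h2
    have h3 : V₁.index = (V₀ : Subgroup H).index * H.index := by
      rw [Subgroup.index_map, H.ker_subtype, sup_bot_eq, Subgroup.range_subtype]
    rw [h3] at h2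
    rcases Nat.prime_two.dvd_mul.1 h2 with h4 | h4
    · exact V₀.not_dvd_index h4
    · rw [Subgroup.index_comap_of_surjective _ L.hom_surj] at h4
      exact D.not_dvd_index h4
  · obtain ⟨v, hv⟩ := hgb.2 ⟨d, hd⟩
    exact ⟨v, v.2, congrArg Subtype.val hv⟩

/-- the data from the hypothesis on `C(t)/O(C(t))` -/
theorem exists_lay [IsSimpleGroup G] (hG : ¬ IsMulCommutative G) (t : G) (ht : orderOf t = 2)
    [IsSimpleGroup P] (hP : ¬ IsMulCommutative P) (hconj : ∀ a b : P, orderOf a = 2 → orderOf b = 2 → IsConj a b)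
    (hL : Nonempty (↥(Subgroup.closure {x : (↥(Subgroup.centralizer ({t} : Set G)) ⧸
        Cfsg.oddCore ↥(Subgroup.centralizer ({t} : Set G))) | ∃ k : ℕ, orderOf x = 2 ^ k}) ≃*
      (Multiplicative (ZMod 2) × P))) :
    ∃ L : Lay G P, L.t = t := by
  classical
  haveI : Fact (Nat.Prime 2) := ⟨Nat.prime_two⟩
  obtain ⟨e⟩ := hL
  set C := Subgroup.centralizer ({t} : Set G)
  set O := Cfsg.oddCore ↥C
  set X := {x : ↥C ⧸ O | ∃ k : ℕ, orderOf x = 2 ^ k}
  set Lb := Subgroup.closure X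
  have hperfG : commutator G = ⊤ := (inferInstance : (commutator G).Normal).eq_bot_or_eq_top.resolve_left
    fun h => hG ⟨⟨fun a b => commutatorElement_eq_one_iff_mul_comm.1 (by
      have := commutator_mem_commutator (mem_top a) (mem_top b)
      rwa [← commutator_def, h, mem_bot] at this)⟩⟩
  have hperfP : commutator P = ⊤ := (inferInstance : (commutator P).Normal).eq_bot_or_eq_top.resolve_left
    fun h => hP ⟨⟨fun a b => commutatorElement_eq_one_iff_mul_comm.1 (by
      have := commutator_mem_commutator (mem_top a) (mem_top b)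
      rwa [← commutator_def, h, mem_bot] at this)⟩⟩
  have hcenP : center P = ⊥ := (inferInstance : (center P).Normal).eq_bot_or_eq_top.resolve_right
    fun h => hP ⟨⟨fun a b => mem_center_iff.1 (h ▸ mem_top b) a⟩⟩
  -- the second factor is the derived subgroup
  have hE : ∀ l : Lb, (e l).1 = 1 ↔ l ∈ commutator Lb := by
    intro l
    constructor
    · intro h
      have : l = e.symm.toMonoidHom.comp (MonoidHom.inr (Multiplicative (ZMod 2)) P) (e l).2 := by
        show l = e.symm (1, (e l).2)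
        rw [← h, MulEquiv.symm_apply_apply]
      rw [this]
      set ι := e.symm.toMonoidHom.comp (MonoidHom.inr (Multiplicative (ZMod 2)) P)
      have hle : commutator P ≤ (commutator Lb).comap ι := by
        rw [commutator_def, Subgroup.commutator_le]
        intro a _ b _
        rw [mem_comap, map_commutatorElement]
        exact commutator_mem_commutator (mem_top _) (mem_top _)
      exact hle (hperfP ▸ mem_top _)
    · intro h
      exact Abelianization.commutator_subset_ker ((MonoidHom.fst _ _).comp e.toMonoidHom) h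
  have hconjX : ∀ (c : ↥C ⧸ O) x, x ∈ Lb → c * x * c⁻¹ ∈ Lb := by
    intro c x hx
    have hle : Lb ≤ Lb.comap (MulAut.conj c).toMonoidHom := by
      refine (closure_le _).2 fun y hy => subset_closure ?_
      obtain ⟨k, hk⟩ := hy
      exact ⟨k, by rw [← hk]; exact MulEquiv.orderOf_eq (MulAut.conj c) y⟩
    exact hle hx
  let ME : Subgroup G :=
    { carrier := {x | ∃ hx : x ∈ C, ∃ hl : ((⟨x, hx⟩ : C) : ↥C ⧸ O) ∈ Lb, (e ⟨_, hl⟩).1 = 1}
      one_mem' := ⟨one_mem _, (show ((1 : C) : ↥C ⧸ O) ∈ Lb from one_mem _),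
        by rw [show (⟨((⟨(1 : G), one_mem _⟩ : C) : ↥C ⧸ O), _⟩ : Lb) = 1 from rfl, map_one]; rfl⟩
      mul_mem' := by
        rintro x y ⟨hx, hlx, h1⟩ ⟨hy, hly, h2⟩
        refine ⟨mul_mem hx hy, (show ((⟨x, hx⟩ * ⟨y, hy⟩ : C) : ↥C ⧸ O) ∈ Lb from mul_mem hlx hly), ?_⟩
        show (e (⟨_, hlx⟩ * ⟨_, hly⟩ : Lb)).1 = 1
        rw [map_mul, Prod.fst_mul, h1, h2, one_mul]
      inv_mem' := by
        rintro x ⟨hx, hlx, h1⟩
        refine ⟨inv_mem hx, (show (((⟨x, hx⟩ : C)⁻¹ : C) : ↥C ⧸ O) ∈ Lb from inv_mem hlx), ?_⟩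
        show (e (⟨_, hlx⟩⁻¹ : Lb)).1 = 1
        rw [map_inv, Prod.fst_inv, h1, inv_one] }
  have hMEle : ME ≤ C := fun x hx => hx.1
  let f : G → P := fun x =>
    if h : ∃ hx : x ∈ C, ((⟨x, hx⟩ : C) : ↥C ⧸ O) ∈ Lb then (e ⟨_, h.2⟩).2 else 1
  have hf : ∀ x (hx : x ∈ C) (hl : ((⟨x, hx⟩ : C) : ↥C ⧸ O) ∈ Lb), f x = (e ⟨_, hl⟩).2 :=
    fun x hx hl => dif_pos ⟨hx, hl⟩
  have htC : t ∈ C := mem_centralizer_singleton_iff.2 rfl
  have hcop := H1.card_pPrimeCore_coprime 2 (↥C)
  have hOodd : ¬ 2 ∣ Nat.card O := (Nat.prime_two.coprime_iff_not_dvd).1 hcop.symm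
  set tb : ↥C ⧸ O := ((⟨t, htC⟩ : C) : ↥C ⧸ O)
  have htb : orderOf tb = 2 := by
    refine orderOf_eq_prime ?_ ?_
    · show (((⟨t, htC⟩ : C) ^ 2 : C) : ↥C ⧸ O) = 1
      rw [show (⟨t, htC⟩ : C) ^ 2 = 1 from Subtype.ext (by simpa [pow_two] using H70.mul_self_of_two ht)]
      rfl
    · intro h
      have hmem : (⟨t, htC⟩ : C) ∈ O := (QuotientGroup.eq_one_iff _).1 h
      have := Subgroup.orderOf_dvd_natCard O hmem
      rw [← Subgroup.orderOf_coe, ht] at this
      exact hOodd this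
  have htL : tb ∈ Lb := subset_closure ⟨1, by rw [htb, pow_one]⟩
  have htcen : ∀ l : Lb, l * ⟨tb, htL⟩ = ⟨tb, htL⟩ * l := by
    intro l
    refine Subtype.ext ?_
    obtain ⟨c, hc⟩ := QuotientGroup.mk_surjective (l : ↥C ⧸ O)
    show (l : ↥C ⧸ O) * tb = tb * l
    rw [← hc]
    show ((c * ⟨t, htC⟩ : C) : ↥C ⧸ O) = ((⟨t, htC⟩ * c : C) : ↥C ⧸ O)
    rw [show c * ⟨t, htC⟩ = (⟨t, htC⟩ : C) * c from Subtype.ext (mem_centralizer_singleton_iff.1 c.2)]
  have ht1 : (e ⟨tb, htL⟩).1 ≠ 1 := by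
    intro h1
    have h2 : (e ⟨tb, htL⟩).2 ∈ center P := mem_center_iff.2 fun p => by
      have := congrArg e (htcen (e.symm (1, p)))
      rw [map_mul, map_mul, MulEquiv.apply_symm_apply] at this
      exact congrArg Prod.snd this
    rw [hcenP, mem_bot] at h2
    have h3 : (⟨tb, htL⟩ : Lb) = 1 := e.injective (by rw [map_one]; exact Prod.ext h1 h2)
    have : tb = 1 := congrArg Subtype.val h3
    rw [this, orderOf_one] at htb
    omega
  -- orders
  let π : ME →* P :=
    { toFun := fun x => f x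
      map_one' := by
        rw [show ((1 : ME) : G) = 1 from rfl, hf 1 (one_mem _) (show ((1 : C) : ↥C ⧸ O) ∈ Lb from one_mem _)]
        exact congrArg Prod.snd (map_one e)
      map_mul' := fun x y => by
        obtain ⟨hx, hlx, -⟩ := x.2
        obtain ⟨hy, hly, -⟩ := y.2
        rw [show ((x * y : ME) : G) = (x : G) * y from rfl, hf _ hx hlx, hf _ hy hly,
          hf _ (mul_mem hx hy) (show ((⟨_, hx⟩ * ⟨_, hy⟩ : C) : ↥C ⧸ O) ∈ Lb from mul_mem hlx hly)]
        exact congrArg Prod.snd (map_mul e ⟨_, hlx⟩ ⟨_, hly⟩) }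
  have hπs : Function.Surjective π := by
    intro p
    obtain ⟨c, hc⟩ := QuotientGroup.mk_surjective (e.symm (1, p) : ↥C ⧸ O)
    have hl : ((⟨(c : G), c.2⟩ : C) : ↥C ⧸ O) ∈ Lb := by rw [Subtype.coe_eta, hc]; exact Subtype.coe_prop _
    have he : (⟨_, hl⟩ : Lb) = e.symm (1, p) := Subtype.ext (by simpa using hc)
    refine ⟨⟨c, c.2, hl, by rw [he, MulEquiv.apply_symm_apply]⟩, ?_⟩
    show f c = p
    rw [hf c c.2 hl, he, MulEquiv.apply_symm_apply]
  have hker : ∀ x : G, ∀ hx : x ∈ ME, π ⟨x, hx⟩ = 1 ↔ (⟨x, hMEle hx⟩ : C) ∈ O := by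
    intro x hxM
    obtain ⟨hx, hlx, h1⟩ := id hxM
    rw [← QuotientGroup.eq_one_iff]
    show f x = 1 ↔ _
    rw [hf x hx hlx]
    constructor
    · intro h2
      have : (⟨_, hlx⟩ : Lb) = 1 := e.injective (by rw [map_one]; exact Prod.ext h1 h2)
      exact congrArg Subtype.val this
    · intro h
      rw [show (⟨_, hlx⟩ : Lb) = 1 from Subtype.ext h, map_one]
      rfl
  have hkcard : Nat.card π.ker = Nat.card O := by
    refine Nat.card_congr (Equiv.ofBijective
      (fun x => (⟨⟨((x : ME) : G), hMEle (x : ME).2⟩, (hker _ (x : ME).2).1 x.2⟩ : O)) ⟨?_, ?_⟩)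
    · intro a b h
      exact Subtype.ext (Subtype.ext (congrArg (fun z : O => ((z : C) : G)) h))
    · intro z
      have hz1 : ((z : C) : ↥C ⧸ O) = 1 := (QuotientGroup.eq_one_iff _).2 z.2
      have hzl : ((⟨((z : C) : G), (z : C).2⟩ : C) : ↥C ⧸ O) ∈ Lb := by
        rw [Subtype.coe_eta, hz1]; exact one_mem _
      have hzM : ((z : C) : G) ∈ ME := ⟨(z : C).2, hzl, by
        rw [show (⟨_, hzl⟩ : Lb) = 1 from Subtype.ext hz1, map_one]; rfl⟩
      exact ⟨⟨⟨_, hzM⟩, (hker _ hzM).2 z.2⟩, rfl⟩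
  have hMEc : Nat.card ME = Nat.card O * Nat.card P := by
    rw [← hkcard, ← π.ker.card_mul_index, Subgroup.index_ker, MonoidHom.range_eq_top.2 hπs, card_top]
  have hLodd : ¬ 2 ∣ Lb.index := by
    intro h
    obtain ⟨S⟩ := (inferInstance : Nonempty (Sylow 2 (↥C ⧸ O)))
    refine S.not_dvd_index (h.trans (index_dvd_of_le fun x hx => subset_closure ?_))
    obtain ⟨k, hk⟩ := IsPGroup.iff_orderOf.1 S.2 ⟨x, hx⟩
    exact ⟨k, by rw [← hk, Subgroup.orderOf_mk]⟩
  have hCc : Nat.card C = 2 * Lb.index * Nat.card ME := by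
    rw [hMEc, ← O.card_mul_index, Subgroup.index_eq_card O, ← Lb.card_mul_index,
      Nat.card_congr e.toEquiv, Nat.card_prod, Nat.card_congr Multiplicative.toAdd, Nat.card_zmod]
    ring
  refine ⟨{
    t := t, ht := ht, hno := no_index_two_of_simple hG, hperf := hperfG, ME := ME, le_C := hMEle
    normal := ?_, ht_not := fun h => ht1 h.2.2, f := f
    f_mul := fun x hx y hy => map_mul π ⟨x, hx⟩ ⟨y, hy⟩
    f_surj := fun p => by obtain ⟨x, hx⟩ := hπs p; exact ⟨x, x.2, hx⟩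
    f_ker := ?_, hcard := ⟨Lb.index, Nat.not_even_iff_odd.1 (fun h => hLodd (even_iff_two_dvd.1 h)), hCc⟩
    conj_inv := hconj }, rfl⟩
  · rintro c hc x ⟨hx, hlx, h1⟩
    have hcx : c * x * c⁻¹ ∈ C := mul_mem (mul_mem hc hx) (inv_mem hc)
    have hl : ((⟨c * x * c⁻¹, hcx⟩ : C) : ↥C ⧸ O) ∈ Lb := hconjX ((⟨c, hc⟩ : C) : ↥C ⧸ O) _ hlx
    refine ⟨hcx, hl, (hE _).2 ?_⟩
    have hcom := (hE _).1 h1
    let φ : Lb →* Lb :=
      { toFun := fun l => ⟨((⟨c, hc⟩ : C) : ↥C ⧸ O) * l * ((⟨c, hc⟩ : C) : ↥C ⧸ O)⁻¹, hconjX _ _ l.2⟩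
        map_one' := Subtype.ext (by simp)
        map_mul' := fun a b => Subtype.ext (by simp [mul_assoc]) }
    have hle : commutator Lb ≤ (commutator Lb).comap φ := by
      rw [commutator_def, Subgroup.commutator_le]
      intro a _ b _
      rw [mem_comap, map_commutatorElement]
      exact commutator_mem_commutator (mem_top _) (mem_top _)
    exact hle hcom
  · intro A hA h2 x hxA hfx
    have hO : (⟨x, hMEle (hA hxA)⟩ : C) ∈ O := (hker x (hA hxA)).1 hfx
    have h3 := Subgroup.orderOf_dvd_natCard O hO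
    rw [← Subgroup.orderOf_coe] at h3
    obtain ⟨k, hk⟩ := IsPGroup.iff_orderOf.1 h2 ⟨x, hxA⟩
    rw [Subgroup.orderOf_mk] at hk
    rw [hk] at h3
    rcases k with _ | k
    · exact orderOf_eq_one_iff.1 (by rw [hk, pow_zero])
    · exact absurd ((dvd_pow_self 2 k.succ_ne_zero).trans h3) hOodd

end H70.TwoLayer
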