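import Cfsg.Agent.H70.TwoLayer.Basic

/-! The parity of an involution on the cosets of a subgroup. -/

set_option autoImplicit false

namespace H70.TwoLayer

open Subgroup

variable {G : Type*} [Group G]

theorem no_index_two_of_simple [IsSimpleGroup G] (hG : ¬ IsMulCommutative G) (H : Subgroup G) :
    H.index ≠ 2 := by
  intro h
  rcases (normal_of_index_eq_two h).eq_bot_or_eq_top with rfl | rfl
  · rw [index_bot] at h
    haveI : Fact (Nat.Prime 2) := ⟨Nat.prime_two⟩
    haveI := isCyclic_of_prime_card h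
    letI := IsCyclic.commGroup (α := G)
    exact hG ⟨⟨mul_comm⟩⟩
  · rw [index_top] at h; omega

variable [Finite G]

/-- counting fixed cosets -/
theorem card_fixed_mul (X : Subgroup G) (u : G) :
    Nat.card {q : G ⧸ X // u • q = q} * Nat.card X =
      Nat.card (centralizer ({u} : Set G)) * Nat.card {x : G // x ∈ X ∧ IsConj u x} := by
  classical
  have hL : ∀ g : G, (u • (g : G ⧸ X) = g) ↔ g⁻¹ * u * g ∈ X := by
    intro g
    rw [MulAction.Quotient.smul_coe, smul_eq_mul, QuotientGroup.eq, ← inv_mem_iff]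
    simp [mul_assoc]
  let S := {g : G // g⁻¹ * u * g ∈ X}
  have h1 : Nat.card S = Nat.card {q : G ⧸ X // u • q = q} * Nat.card X := by
    have hfst : ∀ g : G, (groupEquivQuotientProdSubgroup (s := X) g).1 = (g : G ⧸ X) := fun g => rfl
    rw [← Nat.card_prod]
    refine Nat.card_congr ((Equiv.subtypeEquiv (groupEquivQuotientProdSubgroup (s := X))
      (q := fun p => u • p.1 = p.1) fun g => ?_).trans
      (Equiv.prodSubtypeFstEquivSubtypeProd (p := fun q : G ⧸ X => u • q = q)))
    rw [hfst, hL]
  set C := centralizer ({u} : Set G) with hC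
  have hcl : ∀ g : G, g * u * g⁻¹ = (Quotient.out (g : G ⧸ C)) * u * (Quotient.out (g : G ⧸ C))⁻¹ := by
    intro g
    obtain ⟨⟨c, hc⟩, he⟩ := QuotientGroup.mk_out_eq_mul C g
    rw [hC, mem_centralizer_singleton_iff] at hc
    rw [he, mul_inv_rev]
    show g * u * g⁻¹ = g * c * u * (c⁻¹ * g⁻¹)
    rw [mul_assoc g c u, hc]
    group
  have h2 : Nat.card S = Nat.card C * Nat.card {x : G // x ∈ X ∧ IsConj u x} := by
    have hfst : ∀ g : G, (groupEquivQuotientProdSubgroup (s := C) g).1 = (g : G ⧸ C) := fun g => rfl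
    let Y := {q : G ⧸ C // q.out * u * q.out⁻¹ ∈ X}
    have e1 : Nat.card S = Nat.card {g : G // g * u * g⁻¹ ∈ X} :=
      Nat.card_congr (Equiv.subtypeEquiv (Equiv.inv G) fun g => by simp)
    have e2 : Nat.card {g : G // g * u * g⁻¹ ∈ X} = Nat.card Y * Nat.card C := by
      rw [← Nat.card_prod]
      refine Nat.card_congr ((Equiv.subtypeEquiv (groupEquivQuotientProdSubgroup (s := C))
        (q := fun p => p.1.out * u * p.1.out⁻¹ ∈ X) fun g => ?_).trans
        (Equiv.prodSubtypeFstEquivSubtypeProd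
          (p := fun q : G ⧸ C => q.out * u * q.out⁻¹ ∈ X)))
      rw [hfst, ← hcl]
    have e3 : Nat.card Y = Nat.card {x : G // x ∈ X ∧ IsConj u x} := by
      refine Nat.card_congr (Equiv.ofBijective
        (fun y => ⟨y.1.out * u * y.1.out⁻¹, y.2, isConj_iff.2 ⟨_, rfl⟩⟩) ⟨?_, ?_⟩)
      · rintro ⟨q, hq⟩ ⟨r, hr⟩ h
        have he : q.out * u * q.out⁻¹ = r.out * u * r.out⁻¹ := congrArg Subtype.val h
        refine Subtype.ext ?_
        show q = r
        rw [← QuotientGroup.out_eq' q, ← QuotientGroup.out_eq' r, QuotientGroup.eq]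
        refine mem_centralizer_singleton_iff.2 ?_
        calc q.out⁻¹ * r.out * u = q.out⁻¹ * (r.out * u * r.out⁻¹) * r.out := by group
          _ = q.out⁻¹ * (q.out * u * q.out⁻¹) * r.out := by rw [he]
          _ = u * (q.out⁻¹ * r.out) := by group
      · rintro ⟨x, hx, hcj⟩
        obtain ⟨g, hg⟩ := isConj_iff.1 hcj
        refine ⟨⟨(g : G ⧸ C), ?_⟩, Subtype.ext ?_⟩
        · rw [← hcl, hg]; exact hx
        · show (Quotient.out (g : G ⧸ C)) * u * _ = x
          rw [← hcl, hg]
    rw [e1, e2, e3, mul_comm]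
  rw [← h1, h2]

/-- An involution with an odd number of transpositions on cosets gives a subgroup of index two. -/
theorem exists_index_two_of_fixed (X : Subgroup G) (u : G) (hu : u * u = 1) (h4 : 4 ∣ X.index)
    (hf : Nat.card {q : G ⧸ X // u • q = q} % 4 = 2) :
    ∃ M : Subgroup G, M.index = 2 := by
  classical
  haveI : Fintype (G ⧸ X) := Fintype.ofFinite _
  let π : G →* Equiv.Perm (G ⧸ X) := MulAction.toPermHom G (G ⧸ X)
  let f : G →* ℤˣ := Equiv.Perm.sign.comp π
  have hπ : ∀ q, π u q = u • q := fun q => rfl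
  have hsupp : (π u).support.card + Nat.card {q : G ⧸ X // u • q = q} = X.index := by
    have hs : (π u).support = Finset.univ.filter (fun q => ¬ u • q = q) := by
      ext q
      simp [hπ]
    rw [Nat.card_eq_fintype_card, Fintype.card_subtype, Subgroup.index_eq_card, Nat.card_eq_fintype_card,
      ← Finset.card_univ, hs, add_comm]
    exact Finset.card_filter_add_card_filter_not _
  have h1 : π u ≠ 1 := by
    intro he
    rw [he, Equiv.Perm.support_one, Finset.card_empty] at hsupp
    omega
  have hord : orderOf (π u) = 2 :=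
    orderOf_eq_prime (by rw [pow_two, ← map_mul, hu, map_one]) h1
  obtain ⟨n, hn⟩ := Equiv.Perm.cycleType_prime_order (σ := π u) (hord.symm ▸ Nat.prime_two)
  have hsum := Equiv.Perm.sum_cycleType (π u)
  rw [hn, hord, Multiset.sum_replicate, smul_eq_mul] at hsum
  have hfu : f u = -1 := by
    show Equiv.Perm.sign (π u) = -1
    rw [Equiv.Perm.sign_of_cycleType, hn, hord, Multiset.sum_replicate, Multiset.card_replicate,
      smul_eq_mul]
    refine Odd.neg_one_pow (Nat.odd_iff.2 ?_)
    omega
  refine ⟨f.ker, ?_⟩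
  rw [Subgroup.index_ker]
  have : f.range = ⊤ := by
    rw [eq_top_iff]
    rintro x -
    rcases Int.units_eq_one_or x with rfl | rfl
    · exact ⟨1, map_one f⟩
    · exact ⟨u, hfu⟩
  rw [this, Subgroup.card_top, Nat.card_eq_fintype_card, Fintype.card_units_int]

/-- the form used in the applications -/
theorem parity_false (hno : ∀ H : Subgroup G, H.index ≠ 2) (X : Subgroup G) (u : G) (hu : u * u = 1)
    (h4 : 4 ∣ X.index) (f : ℕ)
    (hk : Nat.card (centralizer ({u} : Set G)) * Nat.card {x : G // x ∈ X ∧ IsConj u x} =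
      Nat.card X * f)
    (hf : f % 4 = 2) : False := by
  have h := card_fixed_mul X u
  rw [hk, mul_comm _ (Nat.card X)] at h
  obtain ⟨M, hM⟩ := exists_index_two_of_fixed X u hu h4
    (by rw [Nat.eq_of_mul_eq_mul_left Nat.card_pos h]; exact hf)
  exact hno M hM

end H70.TwoLayer
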